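import Cfsg.Agent.Recog.Ly.Z0
import Cfsg.Agent.Recog.Ly.Z1
import Cfsg.Agent.Recog.Ly.Z2
import Cfsg.Agent.Recog.Ly.NT

set_option autoImplicit false
set_option maxRecDepth 1000000
set_option maxHeartbeats 0
set_option Elab.async false

namespace CF.Recog.Ly
open CF.Comp CF.Dce

noncomputable def cF0 : BT Fc := (BT.node (nat_lit 32) (BT.node (nat_lit 16) (BT.node (nat_lit 8) (BT.node (nat_lit 4) (BT.node (nat_lit 2) (BT.node (nat_lit 1) (BT.leaf ⟨(nat_lit 1), (nat_lit 0), (nat_lit 0), z0, z1, (nat_lit 0)⟩) (BT.leaf ⟨(nat_lit 1), (nat_lit 0), (nat_lit 0), X17, X17, (nat_lit 0)⟩)) (BT.node (nat_lit 3) (BT.leaf ⟨(nat_lit 1), (nat_lit 0), (nat_lit 0), z2, z3, (nat_lit 0)⟩) (BT.leaf ⟨(nat_lit 1), (nat_lit 0), (nat_lit 0), z4, z5, (nat_lit 0)⟩))) (BT.node (nat_lit 6) (BT.node (nat_lit 5) (BT.leaf ⟨(nat_lit 1), (nat_lit 0), (nat_lit 0), z6, z7, (nat_lit 0)⟩) (BT.leaf ⟨(nat_lit 3), (nat_lit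 0), (nat_lit 1), P.one, P.one, (nat_lit 0)⟩)) (BT.node (nat_lit 7) (BT.leaf ⟨(nat_lit 3), (nat_lit 1), (nat_lit 0), P.one, X17, (nat_lit 0)⟩) (BT.leaf ⟨(nat_lit 3), (nat_lit 0), (nat_lit 1), X17, X17, (nat_lit 0)⟩)))) (BT.node (nat_lit 12) (BT.node (nat_lit 10) (BT.node (nat_lit 9) (BT.leaf ⟨(nat_lit 2), (nat_lit 1), (nat_lit 1), X18, (nat_lit 0), (nat_lit 0)⟩) (BT.leaf ⟨(nat_lit 2), (nat_lit 1), (nat_lit 1), z1, (nat_lit 0), (nat_lit 0)⟩)) (BT.node (nat_lit 11) (BT.leaf ⟨(nat_lit 2), (nat_lit 1), (nat_lit 1), z3, (nat_lit 0), (nat_lit 0)⟩) (BT.leaf ⟨(nat_lit 2), (nat_lit 1), (nat_lit 1), z5, (nat_lit 0), (nat_lit 0)⟩))) (BT.node (nat_lit 14) (BT.node (nat_lit 13) (BT.leaf ⟨(nat_lit 2), (nat_lit 1), (nat_lit 1), z7, (nat_lit 0), (nat_lit 0)⟩) (BT.leaf ⟨(nat_lit 1), (nat_lit 0), (nat_lit 0), z8, z9, (nat_lit 0)⟩)) (BT.node (nat_lit 15) (BT.leaf ⟨(nat_lit 1), (nat_lit 0), (nat_lit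 0), z10, z11, (nat_lit 0)⟩) (BT.leaf ⟨(nat_lit 1), (nat_lit 0), (nat_lit 0), z12, z13, (nat_lit 0)⟩))))) (BT.node (nat_lit 24) (BT.node (nat_lit 20) (BT.node (nat_lit 18) (BT.node (nat_lit 17) (BT.leaf ⟨(nat_lit 1), (nat_lit 0), (nat_lit 0), z14, z15, (nat_lit 0)⟩) (BT.leaf ⟨(nat_lit 1), (nat_lit 0), (nat_lit 0), z16, z17, (nat_lit 0)⟩)) (BT.node (nat_lit 19) (BT.leaf ⟨(nat_lit 1), (nat_lit 0), (nat_lit 0), z18, z19, (nat_lit 0)⟩) (BT.leaf ⟨(nat_lit 1), (nat_lit 0), (nat_lit 0), z20, z21, (nat_lit 0)⟩))) (BT.node (nat_lit 22) (BT.node (nat_lit 21) (BT.leaf ⟨(nat_lit 1), (nat_lit 0), (nat_lit 0), z22, z23, (nat_lit 0)⟩) (BT.leaf ⟨(nat_lit 1), (nat_lit 0), (nat_lit 0), z24, z25, (nat_lit 0)⟩)) (BT.node (nat_lit 23) (BT.leaf ⟨(nat_lit 1), (nat_lit 0), (nat_lit 0), z26, z27, (nat_lit 0)⟩) (BT.leaf ⟨(nat_lit 1), (nat_lit 0), (nat_lit 0), z28, z29, (nat_lit 0)⟩)))) (BT.node (nat_lit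 28) (BT.node (nat_lit 26) (BT.node (nat_lit 25) (BT.leaf ⟨(nat_lit 1), (nat_lit 0), (nat_lit 0), z30, z30, (nat_lit 0)⟩) (BT.leaf ⟨(nat_lit 1), (nat_lit 0), (nat_lit 0), z31, z32, (nat_lit 0)⟩)) (BT.node (nat_lit 27) (BT.leaf ⟨(nat_lit 1), (nat_lit 0), (nat_lit 0), z33, z34, (nat_lit 0)⟩) (BT.leaf ⟨(nat_lit 1), (nat_lit 0), (nat_lit 0), z34, z35, (nat_lit 0)⟩))) (BT.node (nat_lit 30) (BT.node (nat_lit 29) (BT.leaf ⟨(nat_lit 3), (nat_lit 1), (nat_lit 1), X1, z36, (nat_lit 0)⟩) (BT.leaf ⟨(nat_lit 3), (nat_lit 1), (nat_lit 2), X5, P.one, (nat_lit 0)⟩)) (BT.node (nat_lit 31) (BT.leaf ⟨(nat_lit 2), (nat_lit 1), (nat_lit 1), z37, (nat_lit 0), (nat_lit 0)⟩) (BT.leaf ⟨(nat_lit 2), (nat_lit 1), (nat_lit 1), z38, (nat_lit 0), (nat_lit 0)⟩)))))) (BT.node (nat_lit 48) (BT.node (nat_lit 40) (BT.node (nat_lit 36) (BT.node (nat_lit 34) (BT.node (nat_lit 33) (BT.leaf ⟨(nat_lit 2), (nat_lit 1),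 (nat_lit 1), z39, (nat_lit 0), (nat_lit 0)⟩) (BT.leaf ⟨(nat_lit 2), (nat_lit 1), (nat_lit 1), z40, (nat_lit 0), (nat_lit 0)⟩)) (BT.node (nat_lit 35) (BT.leaf ⟨(nat_lit 2), (nat_lit 1), (nat_lit 1), z15, (nat_lit 0), (nat_lit 0)⟩) (BT.leaf ⟨(nat_lit 2), (nat_lit 1), (nat_lit 1), z41, (nat_lit 0), (nat_lit 0)⟩))) (BT.node (nat_lit 38) (BT.node (nat_lit 37) (BT.leaf ⟨(nat_lit 2), (nat_lit 1), (nat_lit 1), z42, (nat_lit 0), (nat_lit 0)⟩) (BT.leaf ⟨(nat_lit 2), (nat_lit 1), (nat_lit 1), z43, (nat_lit 0), (nat_lit 0)⟩)) (BT.node (nat_lit 39) (BT.leaf ⟨(nat_lit 2), (nat_lit 1), (nat_lit 1), z44, (nat_lit 0), (nat_lit 0)⟩) (BT.leaf ⟨(nat_lit 2), (nat_lit 1), (nat_lit 1), z45, (nat_lit 0), (nat_lit 0)⟩)))) (BT.node (nat_lit 44) (BT.node (nat_lit 42) (BT.node (nat_lit 41) (BT.leaf ⟨(nat_lit 2), (nat_lit 1), (nat_lit 1), z46, (nat_lit 0), (nat_lit 0)⟩) (BT.leaf ⟨(nat_lit 2), (nat_lit 1),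 (nat_lit 1), z47, (nat_lit 0), (nat_lit 0)⟩)) (BT.node (nat_lit 43) (BT.leaf ⟨(nat_lit 2), (nat_lit 1), (nat_lit 1), z34, (nat_lit 0), (nat_lit 0)⟩) (BT.leaf ⟨(nat_lit 1), (nat_lit 0), (nat_lit 0), z48, z49, (nat_lit 0)⟩))) (BT.node (nat_lit 46) (BT.node (nat_lit 45) (BT.leaf ⟨(nat_lit 1), (nat_lit 0), (nat_lit 0), z50, z42, (nat_lit 0)⟩) (BT.leaf ⟨(nat_lit 1), (nat_lit 0), (nat_lit 0), z51, z43, (nat_lit 0)⟩)) (BT.node (nat_lit 47) (BT.leaf ⟨(nat_lit 1), (nat_lit 0), (nat_lit 0), z52, z53, (nat_lit 0)⟩) (BT.leaf ⟨(nat_lit 1), (nat_lit 0), (nat_lit 0), z54, z45, (nat_lit 0)⟩))))) (BT.node (nat_lit 56) (BT.node (nat_lit 52) (BT.node (nat_lit 50) (BT.node (nat_lit 49) (BT.leaf ⟨(nat_lit 1), (nat_lit 0), (nat_lit 0), z55, z46, (nat_lit 0)⟩) (BT.leaf ⟨(nat_lit 1), (nat_lit 0), (nat_lit 0), z56, z57, (nat_lit 0)⟩)) (BT.node (nat_lit 51) (BT.leaf ⟨(nat_lit 1), (nat_lit 0), (nat_lit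 0), X18, X18, (nat_lit 0)⟩) (BT.leaf ⟨(nat_lit 1), (nat_lit 0), (nat_lit 0), z58, z59, (nat_lit 0)⟩))) (BT.node (nat_lit 54) (BT.node (nat_lit 53) (BT.leaf ⟨(nat_lit 1), (nat_lit 0), (nat_lit 0), z60, z61, (nat_lit 0)⟩) (BT.leaf ⟨(nat_lit 2), (nat_lit 2), (nat_lit 2), z62, (nat_lit 0), (nat_lit 0)⟩)) (BT.node (nat_lit 55) (BT.leaf ⟨(nat_lit 3), (nat_lit 2), (nat_lit 1), P.one, z63, (nat_lit 0)⟩) (BT.leaf ⟨(nat_lit 2), (nat_lit 1), (nat_lit 1), z64, (nat_lit 0), (nat_lit 0)⟩)))) (BT.node (nat_lit 60) (BT.node (nat_lit 58) (BT.node (nat_lit 57) (BT.leaf ⟨(nat_lit 2), (nat_lit 1), (nat_lit 1), z65, (nat_lit 0), (nat_lit 0)⟩) (BT.leaf ⟨(nat_lit 2), (nat_lit 1), (nat_lit 1), z66, (nat_lit 0), (nat_lit 0)⟩)) (BT.node (nat_lit 59) (BT.leaf ⟨(nat_lit 2), (nat_lit 1), (nat_lit 1), z67, (nat_lit 0), (nat_lit 0)⟩) (BT.leaf ⟨(nat_lit 2), (nat_lit 1), (nat_lit 1), z68, (nat_lit 0), (nat_lit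 0)⟩))) (BT.node (nat_lit 62) (BT.node (nat_lit 61) (BT.leaf ⟨(nat_lit 2), (nat_lit 1), (nat_lit 1), z69, (nat_lit 0), (nat_lit 0)⟩) (BT.leaf ⟨(nat_lit 1), (nat_lit 0), (nat_lit 0), z70, z64, (nat_lit 0)⟩)) (BT.node (nat_lit 63) (BT.leaf ⟨(nat_lit 1), (nat_lit 0), (nat_lit 0), z71, z65, (nat_lit 0)⟩) (BT.leaf ⟨(nat_lit 1), (nat_lit 0), (nat_lit 0), z72, z73, (nat_lit 0)⟩)))))))
noncomputable def cP0 : BT Pf := (BT.node (nat_lit 32) (BT.node (nat_lit 16) (BT.node (nat_lit 8) (BT.node (nat_lit 4) (BT.node (nat_lit 2) (BT.node (nat_lit 1) (BT.leaf (.base (nat_lit 0))) (BT.leaf (.base (nat_lit 1)))) (BT.node (nat_lit 3) (BT.leaf (.base (nat_lit 2))) (BT.leaf (.base (nat_lit 3))))) (BT.node (nat_lit 6) (BT.node (nat_lit 5) (BT.leaf (.base (nat_lit 4))) (BT.leaf (.dfn []))) (BT.node (nat_lit 7) (BT.leaf (.inv (nat_lit 5))) (BT.leaf (.inv (nat_lit 6)))))) (BT.node (nat_lit 12) (BT.node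 (nat_lit 10) (BT.node (nat_lit 9) (BT.leaf (.cmp (nat_lit 7) ⟨(nat_lit 0), [], []⟩)) (BT.leaf (.ne (nat_lit 0)))) (BT.node (nat_lit 11) (BT.leaf (.ne (nat_lit 2))) (BT.leaf (.ne (nat_lit 3))))) (BT.node (nat_lit 14) (BT.node (nat_lit 13) (BT.leaf (.ne (nat_lit 4))) (BT.leaf (.nmul (nat_lit 3) [(nat_lit 3)]))) (BT.node (nat_lit 15) (BT.leaf (.nmul (nat_lit 13) [(nat_lit 2)])) (BT.leaf (.nmul (nat_lit 14) [(nat_lit 3)])))))) (BT.node (nat_lit 24) (BT.node (nat_lit 20) (BT.node (nat_lit 18) (BT.node (nat_lit 17) (BT.leaf (.nmul (nat_lit 2) [(nat_lit 0)])) (BT.leaf (.nmul (nat_lit 16) [(nat_lit 0)]))) (BT.node (nat_lit 19) (BT.leaf (.nmul (nat_lit 17) [(nat_lit 1)])) (BT.leaf (.nmul (nat_lit 18) [(nat_lit 0)])))) (BT.node (nat_lit 22) (BT.node (nat_lit 21) (BT.leaf (.nmul (nat_lit 19) [(nat_lit 2)])) (BT.leaf (.nmul (nat_lit 20) [(nat_lit 0)]))) (BT.node (nat_lit 23) (BT.leaf (.nmul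 (nat_lit 21) [(nat_lit 1)])) (BT.leaf (.nmul (nat_lit 22) [(nat_lit 0)]))))) (BT.node (nat_lit 28) (BT.node (nat_lit 26) (BT.node (nat_lit 25) (BT.leaf (.nmul (nat_lit 1) [(nat_lit 1)])) (BT.leaf (.nmul (nat_lit 24) [(nat_lit 0)]))) (BT.node (nat_lit 27) (BT.leaf (.nmul (nat_lit 25) [(nat_lit 1)])) (BT.leaf (.nmul (nat_lit 26) [(nat_lit 0)])))) (BT.node (nat_lit 30) (BT.node (nat_lit 29) (BT.leaf (.rel (nat_lit 6) (nat_lit 0) [(nat_lit 27), (nat_lit 23), (nat_lit 15)] [⟨(nat_lit 0), [], []⟩])) (BT.leaf (.dfn [(nat_lit 5)]))) (BT.node (nat_lit 31) (BT.leaf (.emul [(nat_lit 11), (nat_lit 12)])) (BT.leaf (.emul [(nat_lit 10), (nat_lit 30)]))))))) (BT.node (nat_lit 48) (BT.node (nat_lit 40) (BT.node (nat_lit 36) (BT.node (nat_lit 34) (BT.node (nat_lit 33) (BT.leaf (.emul [(nat_lit 12), (nat_lit 31)])) (BT.leaf (.emul [(nat_lit 10), (nat_lit 32)]))) (BT.node (nat_lit 35) (BT.leaf (.emul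 [(nat_lit 9), (nat_lit 10)])) (BT.leaf (.emul [(nat_lit 10), (nat_lit 34)])))) (BT.node (nat_lit 38) (BT.node (nat_lit 37) (BT.leaf (.emul [(nat_lit 8), (nat_lit 35)])) (BT.leaf (.emul [(nat_lit 9), (nat_lit 36)]))) (BT.node (nat_lit 39) (BT.leaf (.emul [(nat_lit 10), (nat_lit 37)])) (BT.leaf (.emul [(nat_lit 8), (nat_lit 38)]))))) (BT.node (nat_lit 44) (BT.node (nat_lit 42) (BT.node (nat_lit 41) (BT.leaf (.emul [(nat_lit 9), (nat_lit 39)])) (BT.leaf (.emul [(nat_lit 9), (nat_lit 9)]))) (BT.node (nat_lit 43) (BT.leaf (.emul [(nat_lit 8), (nat_lit 41)])) (BT.leaf (.nmul (nat_lit 16) [(nat_lit 1)])))) (BT.node (nat_lit 46) (BT.node (nat_lit 45) (BT.leaf (.nmul (nat_lit 43) [(nat_lit 2)])) (BT.leaf (.nmul (nat_lit 44) [(nat_lit 0)]))) (BT.node (nat_lit 47) (BT.leaf (.nmul (nat_lit 45) [(nat_lit 1)])) (BT.leaf (.nmul (nat_lit 46) [(nat_lit 2)])))))) (BT.node (nat_lit 56) (BT.node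 (nat_lit 52) (BT.node (nat_lit 50) (BT.node (nat_lit 49) (BT.leaf (.nmul (nat_lit 47) [(nat_lit 0)])) (BT.leaf (.nmul (nat_lit 48) [(nat_lit 2)]))) (BT.node (nat_lit 51) (BT.leaf (.nmul (nat_lit 24) [(nat_lit 1)])) (BT.leaf (.nmul (nat_lit 50) [(nat_lit 0)])))) (BT.node (nat_lit 54) (BT.node (nat_lit 53) (BT.leaf (.nmul (nat_lit 51) [(nat_lit 1)])) (BT.leaf (.cmp (nat_lit 29) ⟨(nat_lit 29), [(nat_lit 33), (nat_lit 40), (nat_lit 42)], [(nat_lit 52), (nat_lit 49), (nat_lit 14)]⟩))) (BT.node (nat_lit 55) (BT.leaf (.inv (nat_lit 29))) (BT.leaf (.emul [(nat_lit 10), (nat_lit 11)]))))) (BT.node (nat_lit 60) (BT.node (nat_lit 58) (BT.node (nat_lit 57) (BT.leaf (.emul [(nat_lit 11), (nat_lit 55)])) (BT.leaf (.emul [(nat_lit 12), (nat_lit 56)]))) (BT.node (nat_lit 59) (BT.leaf (.emul [(nat_lit 11), (nat_lit 57)])) (BT.leaf (.emul [(nat_lit 11), (nat_lit 58)])))) (BT.node (nat_lit 62) (BT.node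 (nat_lit 61) (BT.leaf (.emul [(nat_lit 10), (nat_lit 59)])) (BT.leaf (.nmul (nat_lit 3) [(nat_lit 2)]))) (BT.node (nat_lit 63) (BT.leaf (.nmul (nat_lit 61) [(nat_lit 3)])) (BT.leaf (.nmul (nat_lit 62) [(nat_lit 2)]))))))))
noncomputable def cF64 : BT Fc := (BT.node (nat_lit 96) (BT.node (nat_lit 80) (BT.node (nat_lit 72) (BT.node (nat_lit 68) (BT.node (nat_lit 66) (BT.node (nat_lit 65) (BT.leaf ⟨(nat_lit 2), (nat_lit 2), (nat_lit 2), z74, (nat_lit 0), (nat_lit 0)⟩) (BT.leaf ⟨(nat_lit 2), (nat_lit 1), (nat_lit 1), z75, (nat_lit 0), (nat_lit 0)⟩)) (BT.node (nat_lit 67) (BT.leaf ⟨(nat_lit 2), (nat_lit 1), (nat_lit 1), z76, (nat_lit 0), (nat_lit 0)⟩) (BT.leaf ⟨(nat_lit 2), (nat_lit 1), (nat_lit 1), z77, (nat_lit 0), (nat_lit 0)⟩))) (BT.node (nat_lit 70) (BT.node (nat_lit 69) (BT.leaf ⟨(nat_lit 2), (nat_lit 1), (nat_lit 1), z78, (nat_lit 0), (nat_lit 0)⟩) (BT.leaf ⟨(nat_lit 2), (nat_lit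 1), (nat_lit 1), z79, (nat_lit 0), (nat_lit 0)⟩)) (BT.node (nat_lit 71) (BT.leaf ⟨(nat_lit 2), (nat_lit 1), (nat_lit 1), z80, (nat_lit 0), (nat_lit 0)⟩) (BT.leaf ⟨(nat_lit 2), (nat_lit 1), (nat_lit 1), z81, (nat_lit 0), (nat_lit 0)⟩)))) (BT.node (nat_lit 76) (BT.node (nat_lit 74) (BT.node (nat_lit 73) (BT.leaf ⟨(nat_lit 1), (nat_lit 0), (nat_lit 0), z82, z83, (nat_lit 0)⟩) (BT.leaf ⟨(nat_lit 1), (nat_lit 0), (nat_lit 0), z84, z85, (nat_lit 0)⟩)) (BT.node (nat_lit 75) (BT.leaf ⟨(nat_lit 1), (nat_lit 0), (nat_lit 0), z86, z87, (nat_lit 0)⟩) (BT.leaf ⟨(nat_lit 1), (nat_lit 0), (nat_lit 0), z88, z89, (nat_lit 0)⟩))) (BT.node (nat_lit 78) (BT.node (nat_lit 77) (BT.leaf ⟨(nat_lit 1), (nat_lit 0), (nat_lit 0), z90, z91, (nat_lit 0)⟩) (BT.leaf ⟨(nat_lit 1), (nat_lit 0), (nat_lit 0), z92, z81, (nat_lit 0)⟩)) (BT.node (nat_lit 79) (BT.leaf ⟨(nat_lit 1), (nat_lit 0), (nat_lit 0), z81, z93,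 (nat_lit 0)⟩) (BT.leaf ⟨(nat_lit 2), (nat_lit 2), (nat_lit 2), z94, (nat_lit 0), (nat_lit 0)⟩))))) (BT.node (nat_lit 88) (BT.node (nat_lit 84) (BT.node (nat_lit 82) (BT.node (nat_lit 81) (BT.leaf ⟨(nat_lit 2), (nat_lit 1), (nat_lit 1), z95, (nat_lit 0), (nat_lit 0)⟩) (BT.leaf ⟨(nat_lit 2), (nat_lit 1), (nat_lit 1), z96, (nat_lit 0), (nat_lit 0)⟩)) (BT.node (nat_lit 83) (BT.leaf ⟨(nat_lit 2), (nat_lit 1), (nat_lit 1), z59, (nat_lit 0), (nat_lit 0)⟩) (BT.leaf ⟨(nat_lit 2), (nat_lit 1), (nat_lit 1), z97, (nat_lit 0), (nat_lit 0)⟩))) (BT.node (nat_lit 86) (BT.node (nat_lit 85) (BT.leaf ⟨(nat_lit 2), (nat_lit 1), (nat_lit 1), z98, (nat_lit 0), (nat_lit 0)⟩) (BT.leaf ⟨(nat_lit 1), (nat_lit 0), (nat_lit 0), z99, z95, (nat_lit 0)⟩)) (BT.node (nat_lit 87) (BT.leaf ⟨(nat_lit 1), (nat_lit 0), (nat_lit 0), z100, z101, (nat_lit 0)⟩) (BT.leaf ⟨(nat_lit 2), (nat_lit 2), (nat_lit 2), z102, (nat_lit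 0), (nat_lit 0)⟩)))) (BT.node (nat_lit 92) (BT.node (nat_lit 90) (BT.node (nat_lit 89) (BT.leaf ⟨(nat_lit 1), (nat_lit 0), (nat_lit 0), z103, z104, (nat_lit 0)⟩) (BT.leaf ⟨(nat_lit 1), (nat_lit 0), (nat_lit 0), z105, z106, (nat_lit 0)⟩)) (BT.node (nat_lit 91) (BT.leaf ⟨(nat_lit 2), (nat_lit 1), (nat_lit 1), z33, (nat_lit 0), (nat_lit 0)⟩) (BT.leaf ⟨(nat_lit 1), (nat_lit 0), (nat_lit 0), z107, z108, (nat_lit 0)⟩))) (BT.node (nat_lit 94) (BT.node (nat_lit 93) (BT.leaf ⟨(nat_lit 1), (nat_lit 0), (nat_lit 0), z109, z110, (nat_lit 0)⟩) (BT.leaf ⟨(nat_lit 1), (nat_lit 0), (nat_lit 0), z111, z112, (nat_lit 0)⟩)) (BT.node (nat_lit 95) (BT.leaf ⟨(nat_lit 3), (nat_lit 2), (nat_lit 2), z113, z114, (nat_lit 0)⟩) (BT.leaf ⟨(nat_lit 1), (nat_lit 0), (nat_lit 0), z115, z116, (nat_lit 0)⟩)))))) (BT.node (nat_lit 112) (BT.node (nat_lit 104) (BT.node (nat_lit 100) (BT.node (nat_lit 98) (BT.node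 (nat_lit 97) (BT.leaf ⟨(nat_lit 1), (nat_lit 0), (nat_lit 0), z117, z118, (nat_lit 0)⟩) (BT.leaf ⟨(nat_lit 1), (nat_lit 0), (nat_lit 0), z119, z120, (nat_lit 0)⟩)) (BT.node (nat_lit 99) (BT.leaf ⟨(nat_lit 1), (nat_lit 0), (nat_lit 0), z121, z122, (nat_lit 0)⟩) (BT.leaf ⟨(nat_lit 1), (nat_lit 0), (nat_lit 0), z123, z124, (nat_lit 0)⟩))) (BT.node (nat_lit 102) (BT.node (nat_lit 101) (BT.leaf ⟨(nat_lit 1), (nat_lit 0), (nat_lit 0), z125, z126, (nat_lit 0)⟩) (BT.leaf ⟨(nat_lit 1), (nat_lit 0), (nat_lit 0), z127, z128, (nat_lit 0)⟩)) (BT.node (nat_lit 103) (BT.leaf ⟨(nat_lit 1), (nat_lit 0), (nat_lit 0), z129, z130, (nat_lit 0)⟩) (BT.leaf ⟨(nat_lit 1), (nat_lit 0), (nat_lit 0), z131, z132, (nat_lit 0)⟩)))) (BT.node (nat_lit 108) (BT.node (nat_lit 106) (BT.node (nat_lit 105) (BT.leaf ⟨(nat_lit 1), (nat_lit 0), (nat_lit 0), z133, z80, (nat_lit 0)⟩) (BT.leaf ⟨(nat_lit 1), (nat_lit 0),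 (nat_lit 0), z134, z79, (nat_lit 0)⟩)) (BT.node (nat_lit 107) (BT.leaf ⟨(nat_lit 1), (nat_lit 0), (nat_lit 0), z59, z33, (nat_lit 0)⟩) (BT.leaf ⟨(nat_lit 1), (nat_lit 0), (nat_lit 0), z61, z135, (nat_lit 0)⟩))) (BT.node (nat_lit 110) (BT.node (nat_lit 109) (BT.leaf ⟨(nat_lit 2), (nat_lit 1), (nat_lit 1), z136, (nat_lit 0), (nat_lit 0)⟩) (BT.leaf ⟨(nat_lit 2), (nat_lit 1), (nat_lit 1), z137, (nat_lit 0), (nat_lit 0)⟩)) (BT.node (nat_lit 111) (BT.leaf ⟨(nat_lit 2), (nat_lit 1), (nat_lit 1), z138, (nat_lit 0), (nat_lit 0)⟩) (BT.leaf ⟨(nat_lit 2), (nat_lit 1), (nat_lit 1), z139, (nat_lit 0), (nat_lit 0)⟩))))) (BT.node (nat_lit 120) (BT.node (nat_lit 116) (BT.node (nat_lit 114) (BT.node (nat_lit 113) (BT.leaf ⟨(nat_lit 2), (nat_lit 1), (nat_lit 1), z140, (nat_lit 0), (nat_lit 0)⟩) (BT.leaf ⟨(nat_lit 2), (nat_lit 1), (nat_lit 1), z141, (nat_lit 0), (nat_lit 0)⟩)) (BT.node (nat_lit 115)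 (BT.leaf ⟨(nat_lit 2), (nat_lit 1), (nat_lit 1), z35, (nat_lit 0), (nat_lit 0)⟩) (BT.leaf ⟨(nat_lit 2), (nat_lit 1), (nat_lit 1), z134, (nat_lit 0), (nat_lit 0)⟩))) (BT.node (nat_lit 118) (BT.node (nat_lit 117) (BT.leaf ⟨(nat_lit 1), (nat_lit 0), (nat_lit 0), z142, z66, (nat_lit 0)⟩) (BT.leaf ⟨(nat_lit 1), (nat_lit 0), (nat_lit 0), z143, z144, (nat_lit 0)⟩)) (BT.node (nat_lit 119) (BT.leaf ⟨(nat_lit 1), (nat_lit 0), (nat_lit 0), z145, z146, (nat_lit 0)⟩) (BT.leaf ⟨(nat_lit 1), (nat_lit 0), (nat_lit 0), z147, z31, (nat_lit 0)⟩)))) (BT.node (nat_lit 124) (BT.node (nat_lit 122) (BT.node (nat_lit 121) (BT.leaf ⟨(nat_lit 3), (nat_lit 2), (nat_lit 1), z148, z149, (nat_lit 0)⟩) (BT.leaf ⟨(nat_lit 3), (nat_lit 1), (nat_lit 2), z149, z150, (nat_lit 0)⟩)) (BT.node (nat_lit 123) (BT.leaf ⟨(nat_lit 1), (nat_lit 0), (nat_lit 0), z151, z152, (nat_lit 0)⟩) (BT.leaf ⟨(nat_lit 1), (nat_lit 0),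 (nat_lit 0), z153, z154, (nat_lit 0)⟩))) (BT.node (nat_lit 126) (BT.node (nat_lit 125) (BT.leaf ⟨(nat_lit 2), (nat_lit 2), (nat_lit 2), z155, (nat_lit 0), (nat_lit 0)⟩) (BT.leaf ⟨(nat_lit 3), (nat_lit 1), (nat_lit 3), z156, P.one, (nat_lit 0)⟩)) (BT.node (nat_lit 127) (BT.leaf ⟨(nat_lit 2), (nat_lit 1), (nat_lit 1), z116, (nat_lit 0), (nat_lit 0)⟩) (BT.leaf ⟨(nat_lit 2), (nat_lit 1), (nat_lit 1), z157, (nat_lit 0), (nat_lit 0)⟩)))))))
noncomputable def cP64 : BT Pf := (BT.node (nat_lit 96) (BT.node (nat_lit 80) (BT.node (nat_lit 72) (BT.node (nat_lit 68) (BT.node (nat_lit 66) (BT.node (nat_lit 65) (BT.leaf (.cmp (nat_lit 29) ⟨(nat_lit 29), [(nat_lit 60), (nat_lit 40), (nat_lit 42)], [(nat_lit 2), (nat_lit 63)]⟩)) (BT.leaf (.emul [(nat_lit 12), (nat_lit 55)]))) (BT.node (nat_lit 67) (BT.leaf (.emul [(nat_lit 11), (nat_lit 65)])) (BT.leaf (.emul [(nat_lit 10), (nat_lit 66)]))))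 (BT.node (nat_lit 70) (BT.node (nat_lit 69) (BT.leaf (.emul [(nat_lit 12), (nat_lit 67)])) (BT.leaf (.emul [(nat_lit 8), (nat_lit 9)]))) (BT.node (nat_lit 71) (BT.leaf (.emul [(nat_lit 8), (nat_lit 69)])) (BT.leaf (.emul [(nat_lit 8), (nat_lit 70)]))))) (BT.node (nat_lit 76) (BT.node (nat_lit 74) (BT.node (nat_lit 73) (BT.leaf (.nmul (nat_lit 46) [(nat_lit 0)])) (BT.leaf (.nmul (nat_lit 72) [(nat_lit 2)]))) (BT.node (nat_lit 75) (BT.leaf (.nmul (nat_lit 73) [(nat_lit 0)])) (BT.leaf (.nmul (nat_lit 74) [(nat_lit 1)])))) (BT.node (nat_lit 78) (BT.node (nat_lit 77) (BT.leaf (.nmul (nat_lit 75) [(nat_lit 2)])) (BT.leaf (.nmul (nat_lit 0) [(nat_lit 1)]))) (BT.node (nat_lit 79) (BT.leaf (.nmul (nat_lit 77) [(nat_lit 0)])) (BT.leaf (.cmp (nat_lit 29) ⟨(nat_lit 29), [(nat_lit 68), (nat_lit 40), (nat_lit 71)], [(nat_lit 78), (nat_lit 76), (nat_lit 15)]⟩)))))) (BT.node (nat_lit 88) (BT.node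 (nat_lit 84) (BT.node (nat_lit 82) (BT.node (nat_lit 81) (BT.leaf (.emul [(nat_lit 11), (nat_lit 56)])) (BT.leaf (.emul [(nat_lit 10), (nat_lit 80)]))) (BT.node (nat_lit 83) (BT.leaf (.emul [(nat_lit 9), (nat_lit 8)])) (BT.leaf (.emul [(nat_lit 9), (nat_lit 82)])))) (BT.node (nat_lit 86) (BT.node (nat_lit 85) (BT.leaf (.emul [(nat_lit 8), (nat_lit 83)])) (BT.leaf (.nmul (nat_lit 62) [(nat_lit 3)]))) (BT.node (nat_lit 87) (BT.leaf (.nmul (nat_lit 74) [(nat_lit 2)])) (BT.leaf (.cmp (nat_lit 29) ⟨(nat_lit 29), [(nat_lit 81), (nat_lit 40), (nat_lit 84)], [(nat_lit 78), (nat_lit 86), (nat_lit 85)]⟩))))) (BT.node (nat_lit 92) (BT.node (nat_lit 90) (BT.node (nat_lit 89) (BT.leaf (.nmul (nat_lit 85) [(nat_lit 4)])) (BT.leaf (.nmul (nat_lit 43) [(nat_lit 0)]))) (BT.node (nat_lit 91) (BT.leaf (.emul [(nat_lit 9), (nat_lit 69)])) (BT.leaf (.nmul (nat_lit 13) [(nat_lit 4)])))) (BT.node (nat_lit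 94) (BT.node (nat_lit 93) (BT.leaf (.nmul (nat_lit 91) [(nat_lit 2)])) (BT.leaf (.nmul (nat_lit 21) [(nat_lit 0)]))) (BT.node (nat_lit 95) (BT.leaf (.rel (nat_lit 54) (nat_lit 1) [(nat_lit 51), (nat_lit 89), (nat_lit 88)] [⟨(nat_lit 29), [(nat_lit 90)], [(nat_lit 0), (nat_lit 93), (nat_lit 92)]⟩])) (BT.leaf (.nmul (nat_lit 4) [(nat_lit 2)]))))))) (BT.node (nat_lit 112) (BT.node (nat_lit 104) (BT.node (nat_lit 100) (BT.node (nat_lit 98) (BT.node (nat_lit 97) (BT.leaf (.nmul (nat_lit 95) [(nat_lit 4)])) (BT.leaf (.nmul (nat_lit 96) [(nat_lit 2)]))) (BT.node (nat_lit 99) (BT.leaf (.nmul (nat_lit 97) [(nat_lit 4)])) (BT.leaf (.nmul (nat_lit 89) [(nat_lit 0)])))) (BT.node (nat_lit 102) (BT.node (nat_lit 101) (BT.leaf (.nmul (nat_lit 99) [(nat_lit 2)])) (BT.leaf (.nmul (nat_lit 100) [(nat_lit 0)]))) (BT.node (nat_lit 103) (BT.leaf (.nmul (nat_lit 101) [(nat_lit 0)])) (BT.leaf (.nmul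 (nat_lit 102) [(nat_lit 1)]))))) (BT.node (nat_lit 108) (BT.node (nat_lit 106) (BT.node (nat_lit 105) (BT.leaf (.nmul (nat_lit 77) [(nat_lit 1)])) (BT.leaf (.nmul (nat_lit 104) [(nat_lit 1)]))) (BT.node (nat_lit 107) (BT.leaf (.nmul (nat_lit 105) [(nat_lit 0)])) (BT.leaf (.nmul (nat_lit 106) [(nat_lit 1)])))) (BT.node (nat_lit 110) (BT.node (nat_lit 109) (BT.leaf (.emul [(nat_lit 10), (nat_lit 65)])) (BT.leaf (.emul [(nat_lit 8), (nat_lit 34)]))) (BT.node (nat_lit 111) (BT.leaf (.emul [(nat_lit 9), (nat_lit 109)])) (BT.leaf (.emul [(nat_lit 10), (nat_lit 110)])))))) (BT.node (nat_lit 120) (BT.node (nat_lit 116) (BT.node (nat_lit 114) (BT.node (nat_lit 113) (BT.leaf (.emul [(nat_lit 9), (nat_lit 111)])) (BT.leaf (.emul [(nat_lit 10), (nat_lit 112)]))) (BT.node (nat_lit 115) (BT.leaf (.emul [(nat_lit 9), (nat_lit 42)])) (BT.leaf (.emul [(nat_lit 9), (nat_lit 114)])))) (BT.node (nat_lit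 118) (BT.node (nat_lit 117) (BT.leaf (.nmul (nat_lit 62) [(nat_lit 4)])) (BT.leaf (.nmul (nat_lit 116) [(nat_lit 2)]))) (BT.node (nat_lit 119) (BT.leaf (.nmul (nat_lit 78) [(nat_lit 0)])) (BT.leaf (.nmul (nat_lit 118) [(nat_lit 1)]))))) (BT.node (nat_lit 124) (BT.node (nat_lit 122) (BT.node (nat_lit 121) (BT.leaf (.rel (nat_lit 28) (nat_lit 0) [(nat_lit 107), (nat_lit 103), (nat_lit 98)] [⟨(nat_lit 29), [(nat_lit 108), (nat_lit 113), (nat_lit 115)], [(nat_lit 119), (nat_lit 46), (nat_lit 117)]⟩])) (BT.leaf (.inv (nat_lit 120)))) (BT.node (nat_lit 123) (BT.leaf (.nmul (nat_lit 101) [(nat_lit 1)])) (BT.leaf (.nmul (nat_lit 122) [(nat_lit 2)])))) (BT.node (nat_lit 126) (BT.node (nat_lit 125) (BT.leaf (.cmp (nat_lit 121) ⟨(nat_lit 29), [(nat_lit 114)], [(nat_lit 50), (nat_lit 123), (nat_lit 14)]⟩)) (BT.leaf (.dfn [(nat_lit 7), (nat_lit 1)]))) (BT.node (nat_lit 127) (BT.leaf (.emul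 [(nat_lit 10), (nat_lit 12)])) (BT.leaf (.emul [(nat_lit 11), (nat_lit 126)]))))))))
noncomputable def cF128 : BT Fc := (BT.node (nat_lit 160) (BT.node (nat_lit 144) (BT.node (nat_lit 136) (BT.node (nat_lit 132) (BT.node (nat_lit 130) (BT.node (nat_lit 129) (BT.leaf ⟨(nat_lit 2), (nat_lit 1), (nat_lit 1), z30, (nat_lit 0), (nat_lit 0)⟩) (BT.leaf ⟨(nat_lit 2), (nat_lit 1), (nat_lit 1), X17, (nat_lit 0), (nat_lit 0)⟩)) (BT.node (nat_lit 131) (BT.leaf ⟨(nat_lit 1), (nat_lit 0), (nat_lit 0), z158, z41, (nat_lit 0)⟩) (BT.leaf ⟨(nat_lit 1), (nat_lit 0), (nat_lit 0), z159, z160, (nat_lit 0)⟩))) (BT.node (nat_lit 134) (BT.node (nat_lit 133) (BT.leaf ⟨(nat_lit 1), (nat_lit 0), (nat_lit 0), z161, z162, (nat_lit 0)⟩) (BT.leaf ⟨(nat_lit 1), (nat_lit 0), (nat_lit 0), z163, z164, (nat_lit 0)⟩)) (BT.node (nat_lit 135) (BT.leaf ⟨(nat_lit 1), (nat_lit 0), (nat_lit 0), z165, z166, (nat_lit 0)⟩)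 (BT.leaf ⟨(nat_lit 1), (nat_lit 0), (nat_lit 0), z167, z168, (nat_lit 0)⟩)))) (BT.node (nat_lit 140) (BT.node (nat_lit 138) (BT.node (nat_lit 137) (BT.leaf ⟨(nat_lit 1), (nat_lit 0), (nat_lit 0), z169, z170, (nat_lit 0)⟩) (BT.leaf ⟨(nat_lit 1), (nat_lit 0), (nat_lit 0), z171, z172, (nat_lit 0)⟩)) (BT.node (nat_lit 139) (BT.leaf ⟨(nat_lit 1), (nat_lit 0), (nat_lit 0), z135, z47, (nat_lit 0)⟩) (BT.leaf ⟨(nat_lit 1), (nat_lit 0), (nat_lit 0), z146, z173, (nat_lit 0)⟩))) (BT.node (nat_lit 142) (BT.node (nat_lit 141) (BT.leaf ⟨(nat_lit 1), (nat_lit 0), (nat_lit 0), z174, z92, (nat_lit 0)⟩) (BT.leaf ⟨(nat_lit 2), (nat_lit 3), (nat_lit 3), z175, (nat_lit 0), (nat_lit 0)⟩)) (BT.node (nat_lit 143) (BT.leaf ⟨(nat_lit 3), (nat_lit 3), (nat_lit 1), P.one, z176, (nat_lit 0)⟩) (BT.leaf ⟨(nat_lit 2), (nat_lit 1), (nat_lit 1), z177, (nat_lit 0), (nat_lit 0)⟩))))) (BT.node (nat_lit 152) (BT.node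 (nat_lit 148) (BT.node (nat_lit 146) (BT.node (nat_lit 145) (BT.leaf ⟨(nat_lit 2), (nat_lit 1), (nat_lit 1), z178, (nat_lit 0), (nat_lit 0)⟩) (BT.leaf ⟨(nat_lit 2), (nat_lit 1), (nat_lit 1), z179, (nat_lit 0), (nat_lit 0)⟩)) (BT.node (nat_lit 147) (BT.leaf ⟨(nat_lit 2), (nat_lit 1), (nat_lit 1), z57, (nat_lit 0), (nat_lit 0)⟩) (BT.leaf ⟨(nat_lit 2), (nat_lit 3), (nat_lit 3), z180, (nat_lit 0), (nat_lit 0)⟩))) (BT.node (nat_lit 150) (BT.node (nat_lit 149) (BT.leaf ⟨(nat_lit 2), (nat_lit 1), (nat_lit 1), z147, (nat_lit 0), (nat_lit 0)⟩) (BT.leaf ⟨(nat_lit 2), (nat_lit 1), (nat_lit 1), z145, (nat_lit 0), (nat_lit 0)⟩)) (BT.node (nat_lit 151) (BT.leaf ⟨(nat_lit 2), (nat_lit 1), (nat_lit 1), z61, (nat_lit 0), (nat_lit 0)⟩) (BT.leaf ⟨(nat_lit 1), (nat_lit 0), (nat_lit 0), z181, z182, (nat_lit 0)⟩)))) (BT.node (nat_lit 156) (BT.node (nat_lit 154) (BT.node (nat_lit 153) (BT.leaf ⟨(nat_lit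 1), (nat_lit 0), (nat_lit 0), z183, z184, (nat_lit 0)⟩) (BT.leaf ⟨(nat_lit 1), (nat_lit 0), (nat_lit 0), z185, z186, (nat_lit 0)⟩)) (BT.node (nat_lit 155) (BT.leaf ⟨(nat_lit 1), (nat_lit 0), (nat_lit 0), z187, z188, (nat_lit 0)⟩) (BT.leaf ⟨(nat_lit 1), (nat_lit 0), (nat_lit 0), z189, z190, (nat_lit 0)⟩))) (BT.node (nat_lit 158) (BT.node (nat_lit 157) (BT.leaf ⟨(nat_lit 1), (nat_lit 0), (nat_lit 0), z191, z192, (nat_lit 0)⟩) (BT.leaf ⟨(nat_lit 1), (nat_lit 0), (nat_lit 0), z193, z194, (nat_lit 0)⟩)) (BT.node (nat_lit 159) (BT.leaf ⟨(nat_lit 1), (nat_lit 0), (nat_lit 0), z195, z196, (nat_lit 0)⟩) (BT.leaf ⟨(nat_lit 1), (nat_lit 0), (nat_lit 0), z80, z197, (nat_lit 0)⟩)))))) (BT.node (nat_lit 176) (BT.node (nat_lit 168) (BT.node (nat_lit 164) (BT.node (nat_lit 162) (BT.node (nat_lit 161) (BT.leaf ⟨(nat_lit 1), (nat_lit 0), (nat_lit 0), z79, z58, (nat_lit 0)⟩) (BT.leaf ⟨(nat_lit 1),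 (nat_lit 0), (nat_lit 0), z1, z60, (nat_lit 0)⟩)) (BT.node (nat_lit 163) (BT.leaf ⟨(nat_lit 2), (nat_lit 3), (nat_lit 3), z198, (nat_lit 0), (nat_lit 0)⟩) (BT.leaf ⟨(nat_lit 1), (nat_lit 0), (nat_lit 0), z199, z75, (nat_lit 0)⟩))) (BT.node (nat_lit 166) (BT.node (nat_lit 165) (BT.leaf ⟨(nat_lit 1), (nat_lit 0), (nat_lit 0), z200, z174, (nat_lit 0)⟩) (BT.leaf ⟨(nat_lit 1), (nat_lit 0), (nat_lit 0), z201, z98, (nat_lit 0)⟩)) (BT.node (nat_lit 167) (BT.leaf ⟨(nat_lit 1), (nat_lit 0), (nat_lit 0), z98, z133, (nat_lit 0)⟩) (BT.leaf ⟨(nat_lit 2), (nat_lit 1), (nat_lit 1), z202, (nat_lit 0), (nat_lit 0)⟩)))) (BT.node (nat_lit 172) (BT.node (nat_lit 170) (BT.node (nat_lit 169) (BT.leaf ⟨(nat_lit 2), (nat_lit 1), (nat_lit 1), z203, (nat_lit 0), (nat_lit 0)⟩) (BT.leaf ⟨(nat_lit 2), (nat_lit 1), (nat_lit 1), z204, (nat_lit 0), (nat_lit 0)⟩)) (BT.node (nat_lit 171) (BT.leaf ⟨(nat_lit 2),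 (nat_lit 1), (nat_lit 1), z205, (nat_lit 0), (nat_lit 0)⟩) (BT.leaf ⟨(nat_lit 2), (nat_lit 1), (nat_lit 1), z168, (nat_lit 0), (nat_lit 0)⟩))) (BT.node (nat_lit 174) (BT.node (nat_lit 173) (BT.leaf ⟨(nat_lit 2), (nat_lit 1), (nat_lit 1), z170, (nat_lit 0), (nat_lit 0)⟩) (BT.leaf ⟨(nat_lit 2), (nat_lit 1), (nat_lit 1), z32, (nat_lit 0), (nat_lit 0)⟩)) (BT.node (nat_lit 175) (BT.leaf ⟨(nat_lit 2), (nat_lit 1), (nat_lit 1), z173, (nat_lit 0), (nat_lit 0)⟩) (BT.leaf ⟨(nat_lit 2), (nat_lit 1), (nat_lit 1), z92, (nat_lit 0), (nat_lit 0)⟩))))) (BT.node (nat_lit 184) (BT.node (nat_lit 180) (BT.node (nat_lit 178) (BT.node (nat_lit 177) (BT.leaf ⟨(nat_lit 1), (nat_lit 0), (nat_lit 0), z206, z207, (nat_lit 0)⟩) (BT.leaf ⟨(nat_lit 1), (nat_lit 0), (nat_lit 0), z208, z209, (nat_lit 0)⟩)) (BT.node (nat_lit 179) (BT.leaf ⟨(nat_lit 1), (nat_lit 0), (nat_lit 0), z210, z211, (nat_lit 0)⟩) (BT.leaf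 ⟨(nat_lit 1), (nat_lit 0), (nat_lit 0), z212, z213, (nat_lit 0)⟩))) (BT.node (nat_lit 182) (BT.node (nat_lit 181) (BT.leaf ⟨(nat_lit 1), (nat_lit 0), (nat_lit 0), z214, z215, (nat_lit 0)⟩) (BT.leaf ⟨(nat_lit 3), (nat_lit 3), (nat_lit 3), z216, z217, (nat_lit 0)⟩)) (BT.node (nat_lit 183) (BT.leaf ⟨(nat_lit 1), (nat_lit 0), (nat_lit 0), z218, z219, (nat_lit 0)⟩) (BT.leaf ⟨(nat_lit 1), (nat_lit 0), (nat_lit 0), z220, z221, (nat_lit 0)⟩)))) (BT.node (nat_lit 188) (BT.node (nat_lit 186) (BT.node (nat_lit 185) (BT.leaf ⟨(nat_lit 1), (nat_lit 0), (nat_lit 0), z222, z223, (nat_lit 0)⟩) (BT.leaf ⟨(nat_lit 1), (nat_lit 0), (nat_lit 0), z224, z225, (nat_lit 0)⟩)) (BT.node (nat_lit 187) (BT.leaf ⟨(nat_lit 2), (nat_lit 1), (nat_lit 1), z9, (nat_lit 0), (nat_lit 0)⟩) (BT.leaf ⟨(nat_lit 1), (nat_lit 0), (nat_lit 0), z226, z76, (nat_lit 0)⟩))) (BT.node (nat_lit 190) (BT.node (nat_lit 189) (BT.leaf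 ⟨(nat_lit 1), (nat_lit 0), (nat_lit 0), z227, z77, (nat_lit 0)⟩) (BT.leaf ⟨(nat_lit 3), (nat_lit 2), (nat_lit 3), z228, z229, (nat_lit 0)⟩)) (BT.node (nat_lit 191) (BT.leaf ⟨(nat_lit 2), (nat_lit 2), (nat_lit 2), z230, (nat_lit 0), (nat_lit 0)⟩) (BT.leaf ⟨(nat_lit 2), (nat_lit 2), (nat_lit 2), z231, (nat_lit 0), (nat_lit 0)⟩)))))))
noncomputable def cP128 : BT Pf := (BT.node (nat_lit 160) (BT.node (nat_lit 144) (BT.node (nat_lit 136) (BT.node (nat_lit 132) (BT.node (nat_lit 130) (BT.node (nat_lit 129) (BT.leaf (.emul [(nat_lit 8), (nat_lit 8)])) (BT.leaf (.emul [(nat_lit 8), (nat_lit 128)]))) (BT.node (nat_lit 131) (BT.leaf (.nmul (nat_lit 16) [(nat_lit 2)])) (BT.leaf (.nmul (nat_lit 130) [(nat_lit 0)])))) (BT.node (nat_lit 134) (BT.node (nat_lit 133) (BT.leaf (.nmul (nat_lit 131) [(nat_lit 1)])) (BT.leaf (.nmul (nat_lit 132) [(nat_lit 0)]))) (BT.node (nat_lit 135) (BT.leaf (.nmul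 (nat_lit 133) [(nat_lit 2)])) (BT.leaf (.nmul (nat_lit 134) [(nat_lit 1)]))))) (BT.node (nat_lit 140) (BT.node (nat_lit 138) (BT.node (nat_lit 137) (BT.leaf (.nmul (nat_lit 135) [(nat_lit 0)])) (BT.leaf (.nmul (nat_lit 136) [(nat_lit 2)]))) (BT.node (nat_lit 139) (BT.leaf (.nmul (nat_lit 0) [(nat_lit 0)])) (BT.leaf (.nmul (nat_lit 138) [(nat_lit 1)])))) (BT.node (nat_lit 142) (BT.node (nat_lit 141) (BT.leaf (.nmul (nat_lit 139) [(nat_lit 0)])) (BT.leaf (.cmp (nat_lit 125) ⟨(nat_lit 125), [(nat_lit 127), (nat_lit 10), (nat_lit 129)], [(nat_lit 140), (nat_lit 137), (nat_lit 4)]⟩))) (BT.node (nat_lit 143) (BT.leaf (.inv (nat_lit 125))) (BT.leaf (.emul [(nat_lit 12), (nat_lit 11)])))))) (BT.node (nat_lit 152) (BT.node (nat_lit 148) (BT.node (nat_lit 146) (BT.node (nat_lit 145) (BT.leaf (.emul [(nat_lit 10), (nat_lit 143)])) (BT.leaf (.emul [(nat_lit 12), (nat_lit 144)]))) (BT.node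 (nat_lit 147) (BT.leaf (.emul [(nat_lit 10), (nat_lit 40)])) (BT.leaf (.cmp (nat_lit 125) ⟨(nat_lit 125), [(nat_lit 145), (nat_lit 146), (nat_lit 71)], [(nat_lit 107), (nat_lit 74), (nat_lit 4)]⟩)))) (BT.node (nat_lit 150) (BT.node (nat_lit 149) (BT.leaf (.emul [(nat_lit 8), (nat_lit 82)])) (BT.leaf (.emul [(nat_lit 8), (nat_lit 148)]))) (BT.node (nat_lit 151) (BT.leaf (.emul [(nat_lit 8), (nat_lit 149)])) (BT.leaf (.nmul (nat_lit 17) [(nat_lit 2)]))))) (BT.node (nat_lit 156) (BT.node (nat_lit 154) (BT.node (nat_lit 153) (BT.leaf (.nmul (nat_lit 151) [(nat_lit 0)])) (BT.leaf (.nmul (nat_lit 152) [(nat_lit 1)]))) (BT.node (nat_lit 155) (BT.leaf (.nmul (nat_lit 153) [(nat_lit 0)])) (BT.leaf (.nmul (nat_lit 154) [(nat_lit 1)])))) (BT.node (nat_lit 158) (BT.node (nat_lit 157) (BT.leaf (.nmul (nat_lit 155) [(nat_lit 2)])) (BT.leaf (.nmul (nat_lit 156) [(nat_lit 0)]))) (BT.node (nat_lit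 159) (BT.leaf (.nmul (nat_lit 157) [(nat_lit 2)])) (BT.leaf (.nmul (nat_lit 78) [(nat_lit 1)]))))))) (BT.node (nat_lit 176) (BT.node (nat_lit 168) (BT.node (nat_lit 164) (BT.node (nat_lit 162) (BT.node (nat_lit 161) (BT.leaf (.nmul (nat_lit 159) [(nat_lit 1)])) (BT.leaf (.nmul (nat_lit 160) [(nat_lit 1)]))) (BT.node (nat_lit 163) (BT.leaf (.cmp (nat_lit 125) ⟨(nat_lit 125), [(nat_lit 108), (nat_lit 146), (nat_lit 150)], [(nat_lit 161), (nat_lit 158), (nat_lit 96)]⟩)) (BT.leaf (.nmul (nat_lit 61) [(nat_lit 4)])))) (BT.node (nat_lit 166) (BT.node (nat_lit 165) (BT.leaf (.nmul (nat_lit 1) [(nat_lit 0)])) (BT.leaf (.nmul (nat_lit 164) [(nat_lit 1)]))) (BT.node (nat_lit 167) (BT.leaf (.nmul (nat_lit 165) [(nat_lit 0)])) (BT.leaf (.emul [(nat_lit 10), (nat_lit 109)]))))) (BT.node (nat_lit 172) (BT.node (nat_lit 170) (BT.node (nat_lit 169) (BT.leaf (.emul [(nat_lit 9), (nat_lit 167)]))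 (BT.leaf (.emul [(nat_lit 8), (nat_lit 168)]))) (BT.node (nat_lit 171) (BT.leaf (.emul [(nat_lit 9), (nat_lit 169)])) (BT.leaf (.emul [(nat_lit 10), (nat_lit 170)])))) (BT.node (nat_lit 174) (BT.node (nat_lit 173) (BT.leaf (.emul [(nat_lit 9), (nat_lit 171)])) (BT.leaf (.emul [(nat_lit 9), (nat_lit 128)]))) (BT.node (nat_lit 175) (BT.leaf (.emul [(nat_lit 8), (nat_lit 173)])) (BT.leaf (.emul [(nat_lit 9), (nat_lit 174)])))))) (BT.node (nat_lit 184) (BT.node (nat_lit 180) (BT.node (nat_lit 178) (BT.node (nat_lit 177) (BT.leaf (.nmul (nat_lit 14) [(nat_lit 4)])) (BT.leaf (.nmul (nat_lit 176) [(nat_lit 3)]))) (BT.node (nat_lit 179) (BT.leaf (.nmul (nat_lit 133) [(nat_lit 0)])) (BT.leaf (.nmul (nat_lit 178) [(nat_lit 1)])))) (BT.node (nat_lit 182) (BT.node (nat_lit 181) (BT.leaf (.nmul (nat_lit 179) [(nat_lit 2)])) (BT.leaf (.rel (nat_lit 142) (nat_lit 1) [(nat_lit 166), (nat_lit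 47), (nat_lit 163)] [⟨(nat_lit 125), [(nat_lit 65), (nat_lit 172), (nat_lit 175)], [(nat_lit 140), (nat_lit 180), (nat_lit 177)]⟩]))) (BT.node (nat_lit 183) (BT.leaf (.nmul (nat_lit 89) [(nat_lit 2)])) (BT.leaf (.nmul (nat_lit 182) [(nat_lit 0)]))))) (BT.node (nat_lit 188) (BT.node (nat_lit 186) (BT.node (nat_lit 185) (BT.leaf (.nmul (nat_lit 183) [(nat_lit 1)])) (BT.leaf (.nmul (nat_lit 184) [(nat_lit 1)]))) (BT.node (nat_lit 187) (BT.leaf (.emul [(nat_lit 11), (nat_lit 11)])) (BT.leaf (.nmul (nat_lit 163) [(nat_lit 3)])))) (BT.node (nat_lit 190) (BT.node (nat_lit 189) (BT.leaf (.nmul (nat_lit 187) [(nat_lit 2)])) (BT.leaf (.rel (nat_lit 142) (nat_lit 0) [(nat_lit 185), (nat_lit 97)] [⟨(nat_lit 29), [(nat_lit 186), (nat_lit 10)], [(nat_lit 160), (nat_lit 73), (nat_lit 188)]⟩]))) (BT.node (nat_lit 191) (BT.leaf (.emul [(nat_lit 53), (nat_lit 124)])) (BT.leaf (.emul [(nat_lit 124),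 (nat_lit 190)]))))))))
noncomputable def cF192 : BT Fc := (BT.node (nat_lit 224) (BT.node (nat_lit 208) (BT.node (nat_lit 200) (BT.node (nat_lit 196) (BT.node (nat_lit 194) (BT.node (nat_lit 193) (BT.leaf ⟨(nat_lit 2), (nat_lit 2), (nat_lit 2), z232, (nat_lit 0), (nat_lit 0)⟩) (BT.leaf ⟨(nat_lit 2), (nat_lit 2), (nat_lit 2), z233, (nat_lit 0), (nat_lit 0)⟩)) (BT.node (nat_lit 195) (BT.leaf ⟨(nat_lit 2), (nat_lit 2), (nat_lit 2), z234, (nat_lit 0), (nat_lit 0)⟩) (BT.leaf ⟨(nat_lit 2), (nat_lit 2), (nat_lit 2), z235, (nat_lit 0), (nat_lit 0)⟩))) (BT.node (nat_lit 198) (BT.node (nat_lit 197) (BT.leaf ⟨(nat_lit 2), (nat_lit 2), (nat_lit 2), z236, (nat_lit 0), (nat_lit 0)⟩) (BT.leaf ⟨(nat_lit 2), (nat_lit 2), (nat_lit 2), z237, (nat_lit 0), (nat_lit 0)⟩)) (BT.node (nat_lit 199) (BT.leaf ⟨(nat_lit 1), (nat_lit 0), (nat_lit 0), z238, z239, (nat_lit 0)⟩) (BT.leaf ⟨(nat_lit 1), (nat_lit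 0), (nat_lit 0), z240, z241, (nat_lit 0)⟩)))) (BT.node (nat_lit 204) (BT.node (nat_lit 202) (BT.node (nat_lit 201) (BT.leaf ⟨(nat_lit 1), (nat_lit 0), (nat_lit 0), z242, z243, (nat_lit 0)⟩) (BT.leaf ⟨(nat_lit 2), (nat_lit 3), (nat_lit 3), z244, (nat_lit 0), (nat_lit 0)⟩)) (BT.node (nat_lit 203) (BT.leaf ⟨(nat_lit 3), (nat_lit 3), (nat_lit 2), z229, z245, (nat_lit 0)⟩) (BT.leaf ⟨(nat_lit 1), (nat_lit 0), (nat_lit 0), z246, z67, (nat_lit 0)⟩))) (BT.node (nat_lit 206) (BT.node (nat_lit 205) (BT.leaf ⟨(nat_lit 1), (nat_lit 0), (nat_lit 0), z247, z68, (nat_lit 0)⟩) (BT.leaf ⟨(nat_lit 1), (nat_lit 0), (nat_lit 0), z248, z249, (nat_lit 0)⟩)) (BT.node (nat_lit 207) (BT.leaf ⟨(nat_lit 1), (nat_lit 0), (nat_lit 0), z250, z202, (nat_lit 0)⟩) (BT.leaf ⟨(nat_lit 1), (nat_lit 0), (nat_lit 0), z251, z203, (nat_lit 0)⟩))))) (BT.node (nat_lit 216) (BT.node (nat_lit 212) (BT.node (nat_lit 210)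 (BT.node (nat_lit 209) (BT.leaf ⟨(nat_lit 1), (nat_lit 0), (nat_lit 0), z252, z253, (nat_lit 0)⟩) (BT.leaf ⟨(nat_lit 1), (nat_lit 0), (nat_lit 0), z254, z255, (nat_lit 0)⟩)) (BT.node (nat_lit 211) (BT.leaf ⟨(nat_lit 1), (nat_lit 0), (nat_lit 0), z256, z257, (nat_lit 0)⟩) (BT.leaf ⟨(nat_lit 1), (nat_lit 0), (nat_lit 0), z258, z259, (nat_lit 0)⟩))) (BT.node (nat_lit 214) (BT.node (nat_lit 213) (BT.leaf ⟨(nat_lit 3), (nat_lit 3), (nat_lit 3), z260, z261, (nat_lit 0)⟩) (BT.leaf ⟨(nat_lit 3), (nat_lit 1), (nat_lit 4), X13, P.one, (nat_lit 0)⟩)) (BT.node (nat_lit 215) (BT.leaf ⟨(nat_lit 2), (nat_lit 1), (nat_lit 1), z160, (nat_lit 0), (nat_lit 0)⟩) (BT.leaf ⟨(nat_lit 2), (nat_lit 1), (nat_lit 1), z262, (nat_lit 0), (nat_lit 0)⟩)))) (BT.node (nat_lit 220) (BT.node (nat_lit 218) (BT.node (nat_lit 217) (BT.leaf ⟨(nat_lit 2), (nat_lit 1), (nat_lit 1), z263, (nat_lit 0), (nat_lit 0)⟩) (BT.leaf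 ⟨(nat_lit 1), (nat_lit 0), (nat_lit 0), z264, z265, (nat_lit 0)⟩)) (BT.node (nat_lit 219) (BT.leaf ⟨(nat_lit 1), (nat_lit 0), (nat_lit 0), z266, z267, (nat_lit 0)⟩) (BT.leaf ⟨(nat_lit 1), (nat_lit 0), (nat_lit 0), z97, z134, (nat_lit 0)⟩))) (BT.node (nat_lit 222) (BT.node (nat_lit 221) (BT.leaf ⟨(nat_lit 2), (nat_lit 4), (nat_lit 4), z268, (nat_lit 0), (nat_lit 0)⟩) (BT.leaf ⟨(nat_lit 3), (nat_lit 4), (nat_lit 1), P.one, z269, (nat_lit 0)⟩)) (BT.node (nat_lit 223) (BT.leaf ⟨(nat_lit 1), (nat_lit 0), (nat_lit 0), z93, z145, (nat_lit 0)⟩) (BT.leaf ⟨(nat_lit 1), (nat_lit 0), (nat_lit 0), z197, z147, (nat_lit 0)⟩)))))) (BT.node (nat_lit 240) (BT.node (nat_lit 232) (BT.node (nat_lit 228) (BT.node (nat_lit 226) (BT.node (nat_lit 225) (BT.leaf ⟨(nat_lit 2), (nat_lit 4), (nat_lit 4), z270, (nat_lit 0), (nat_lit 0)⟩) (BT.leaf ⟨(nat_lit 1), (nat_lit 0), (nat_lit 0), z271, z272, (nat_lit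 0)⟩)) (BT.node (nat_lit 227) (BT.leaf ⟨(nat_lit 1), (nat_lit 0), (nat_lit 0), z273, z274, (nat_lit 0)⟩) (BT.leaf ⟨(nat_lit 1), (nat_lit 0), (nat_lit 0), z275, z276, (nat_lit 0)⟩))) (BT.node (nat_lit 230) (BT.node (nat_lit 229) (BT.leaf ⟨(nat_lit 1), (nat_lit 0), (nat_lit 0), z277, z278, (nat_lit 0)⟩) (BT.leaf ⟨(nat_lit 2), (nat_lit 1), (nat_lit 1), z108, (nat_lit 0), (nat_lit 0)⟩)) (BT.node (nat_lit 231) (BT.leaf ⟨(nat_lit 1), (nat_lit 0), (nat_lit 0), z279, z280, (nat_lit 0)⟩) (BT.leaf ⟨(nat_lit 1), (nat_lit 0), (nat_lit 0), z32, z201, (nat_lit 0)⟩)))) (BT.node (nat_lit 236) (BT.node (nat_lit 234) (BT.node (nat_lit 233) (BT.leaf ⟨(nat_lit 3), (nat_lit 4), (nat_lit 2), z281, z282, (nat_lit 0)⟩) (BT.leaf ⟨(nat_lit 3), (nat_lit 2), (nat_lit 4), z282, z283, (nat_lit 0)⟩)) (BT.node (nat_lit 235) (BT.leaf ⟨(nat_lit 1), (nat_lit 0), (nat_lit 0), z284, z285, (nat_lit 0)⟩) (BT.leaf ⟨(nat_lit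 1), (nat_lit 0), (nat_lit 0), z286, z287, (nat_lit 0)⟩))) (BT.node (nat_lit 238) (BT.node (nat_lit 237) (BT.leaf ⟨(nat_lit 2), (nat_lit 2), (nat_lit 2), z288, (nat_lit 0), (nat_lit 0)⟩) (BT.leaf ⟨(nat_lit 1), (nat_lit 0), (nat_lit 0), z289, z290, (nat_lit 0)⟩)) (BT.node (nat_lit 239) (BT.leaf ⟨(nat_lit 3), (nat_lit 3), (nat_lit 4), z291, z292, (nat_lit 0)⟩) (BT.leaf ⟨(nat_lit 3), (nat_lit 4), (nat_lit 3), z292, z293, (nat_lit 0)⟩))))) (BT.node (nat_lit 248) (BT.node (nat_lit 244) (BT.node (nat_lit 242) (BT.node (nat_lit 241) (BT.leaf ⟨(nat_lit 1), (nat_lit 0), (nat_lit 0), z294, z295, (nat_lit 0)⟩) (BT.leaf ⟨(nat_lit 2), (nat_lit 2), (nat_lit 2), z296, (nat_lit 0), (nat_lit 0)⟩)) (BT.node (nat_lit 243) (BT.leaf ⟨(nat_lit 2), (nat_lit 2), (nat_lit 2), z297, (nat_lit 0), (nat_lit 0)⟩) (BT.leaf ⟨(nat_lit 1), (nat_lit 0), (nat_lit 0), z298, z177, (nat_lit 0)⟩))) (BT.node (nat_lit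 246) (BT.node (nat_lit 245) (BT.leaf ⟨(nat_lit 1), (nat_lit 0), (nat_lit 0), z299, z178, (nat_lit 0)⟩) (BT.leaf ⟨(nat_lit 1), (nat_lit 0), (nat_lit 0), z300, z301, (nat_lit 0)⟩)) (BT.node (nat_lit 247) (BT.leaf ⟨(nat_lit 1), (nat_lit 0), (nat_lit 0), z302, z0, (nat_lit 0)⟩) (BT.leaf ⟨(nat_lit 3), (nat_lit 2), (nat_lit 4), z303, z304, (nat_lit 0)⟩)))) (BT.node (nat_lit 252) (BT.node (nat_lit 250) (BT.node (nat_lit 249) (BT.leaf ⟨(nat_lit 2), (nat_lit 2), (nat_lit 2), z305, (nat_lit 0), (nat_lit 0)⟩) (BT.leaf ⟨(nat_lit 1), (nat_lit 0), (nat_lit 0), z173, z200, (nat_lit 0)⟩)) (BT.node (nat_lit 251) (BT.leaf ⟨(nat_lit 2), (nat_lit 4), (nat_lit 4), z306, (nat_lit 0), (nat_lit 0)⟩) (BT.leaf ⟨(nat_lit 3), (nat_lit 4), (nat_lit 2), z304, z307, (nat_lit 0)⟩))) (BT.node (nat_lit 254) (BT.node (nat_lit 253) (BT.leaf ⟨(nat_lit 1), (nat_lit 0), (nat_lit 0), z308, z309, (nat_lit 0)⟩) (BT.leaf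 ⟨(nat_lit 1), (nat_lit 0), (nat_lit 0), z310, z311, (nat_lit 0)⟩)) (BT.node (nat_lit 255) (BT.leaf ⟨(nat_lit 1), (nat_lit 0), (nat_lit 0), z312, z313, (nat_lit 0)⟩) (BT.leaf ⟨(nat_lit 1), (nat_lit 0), (nat_lit 0), z314, z315, (nat_lit 0)⟩)))))))
noncomputable def cP192 : BT Pf := (BT.node (nat_lit 224) (BT.node (nat_lit 208) (BT.node (nat_lit 200) (BT.node (nat_lit 196) (BT.node (nat_lit 194) (BT.node (nat_lit 193) (BT.leaf (.emul [(nat_lit 79), (nat_lit 191)])) (BT.leaf (.emul [(nat_lit 53), (nat_lit 53)]))) (BT.node (nat_lit 195) (BT.leaf (.emul [(nat_lit 79), (nat_lit 193)])) (BT.leaf (.emul [(nat_lit 53), (nat_lit 194)])))) (BT.node (nat_lit 198) (BT.node (nat_lit 197) (BT.leaf (.emul [(nat_lit 53), (nat_lit 195)])) (BT.leaf (.emul [(nat_lit 79), (nat_lit 196)]))) (BT.node (nat_lit 199) (BT.leaf (.nmul (nat_lit 132) [(nat_lit 2)])) (BT.leaf (.nmul (nat_lit 198) [(nat_lit 0)])))))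 (BT.node (nat_lit 204) (BT.node (nat_lit 202) (BT.node (nat_lit 201) (BT.leaf (.nmul (nat_lit 199) [(nat_lit 0)])) (BT.leaf (.cmp (nat_lit 189) ⟨(nat_lit 189), [(nat_lit 192), (nat_lit 197)], [(nat_lit 140), (nat_lit 200), (nat_lit 61)]⟩))) (BT.node (nat_lit 203) (BT.leaf (.inv (nat_lit 189))) (BT.leaf (.nmul (nat_lit 116) [(nat_lit 3)])))) (BT.node (nat_lit 206) (BT.node (nat_lit 205) (BT.leaf (.nmul (nat_lit 203) [(nat_lit 3)])) (BT.leaf (.nmul (nat_lit 102) [(nat_lit 2)]))) (BT.node (nat_lit 207) (BT.leaf (.nmul (nat_lit 130) [(nat_lit 1)])) (BT.leaf (.nmul (nat_lit 206) [(nat_lit 0)])))))) (BT.node (nat_lit 216) (BT.node (nat_lit 212) (BT.node (nat_lit 210) (BT.node (nat_lit 209) (BT.leaf (.nmul (nat_lit 207) [(nat_lit 2)])) (BT.leaf (.nmul (nat_lit 208) [(nat_lit 0)]))) (BT.node (nat_lit 211) (BT.leaf (.nmul (nat_lit 209) [(nat_lit 0)])) (BT.leaf (.nmul (nat_lit 210) [(nat_lit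 2)])))) (BT.node (nat_lit 214) (BT.node (nat_lit 213) (BT.leaf (.rel (nat_lit 142) (nat_lit 1) [(nat_lit 27), (nat_lit 205), (nat_lit 204)] [⟨(nat_lit 125), [(nat_lit 41)], [(nat_lit 1), (nat_lit 211), (nat_lit 204)]⟩])) (BT.leaf (.dfn [(nat_lit 13)]))) (BT.node (nat_lit 215) (BT.leaf (.emul [(nat_lit 9), (nat_lit 35)])) (BT.leaf (.emul [(nat_lit 10), (nat_lit 214)]))))) (BT.node (nat_lit 220) (BT.node (nat_lit 218) (BT.node (nat_lit 217) (BT.leaf (.emul [(nat_lit 9), (nat_lit 215)])) (BT.leaf (.nmul (nat_lit 92) [(nat_lit 4)]))) (BT.node (nat_lit 219) (BT.leaf (.nmul (nat_lit 183) [(nat_lit 2)])) (BT.leaf (.nmul (nat_lit 166) [(nat_lit 1)])))) (BT.node (nat_lit 222) (BT.node (nat_lit 221) (BT.leaf (.cmp (nat_lit 213) ⟨(nat_lit 213), [(nat_lit 57), (nat_lit 216), (nat_lit 84)], [(nat_lit 219), (nat_lit 218), (nat_lit 217)]⟩)) (BT.leaf (.inv (nat_lit 213)))) (BT.node (nat_lit 223)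 (BT.leaf (.nmul (nat_lit 164) [(nat_lit 0)])) (BT.leaf (.nmul (nat_lit 222) [(nat_lit 1)]))))))) (BT.node (nat_lit 240) (BT.node (nat_lit 232) (BT.node (nat_lit 228) (BT.node (nat_lit 226) (BT.node (nat_lit 225) (BT.leaf (.cmp (nat_lit 213) ⟨(nat_lit 213), [(nat_lit 12), (nat_lit 111)], [(nat_lit 223), (nat_lit 183), (nat_lit 98)]⟩)) (BT.leaf (.nmul (nat_lit 152) [(nat_lit 2)]))) (BT.node (nat_lit 227) (BT.leaf (.nmul (nat_lit 225) [(nat_lit 1)])) (BT.leaf (.nmul (nat_lit 226) [(nat_lit 0)])))) (BT.node (nat_lit 230) (BT.node (nat_lit 229) (BT.leaf (.nmul (nat_lit 227) [(nat_lit 2)])) (BT.leaf (.emul [(nat_lit 12), (nat_lit 186)]))) (BT.node (nat_lit 231) (BT.leaf (.nmul (nat_lit 22) [(nat_lit 2)])) (BT.leaf (.nmul (nat_lit 223) [(nat_lit 0)]))))) (BT.node (nat_lit 236) (BT.node (nat_lit 234) (BT.node (nat_lit 233) (BT.leaf (.rel (nat_lit 54) (nat_lit 1) [(nat_lit 165), (nat_lit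 228), (nat_lit 15)] [⟨(nat_lit 213), [(nat_lit 229), (nat_lit 34), (nat_lit 129)], [(nat_lit 231), (nat_lit 230), (nat_lit 98)]⟩])) (BT.leaf (.inv (nat_lit 232)))) (BT.node (nat_lit 235) (BT.leaf (.nmul (nat_lit 154) [(nat_lit 0)])) (BT.leaf (.nmul (nat_lit 234) [(nat_lit 2)])))) (BT.node (nat_lit 238) (BT.node (nat_lit 237) (BT.leaf (.emul [(nat_lit 79), (nat_lit 64)])) (BT.leaf (.nmul (nat_lit 185) [(nat_lit 2)]))) (BT.node (nat_lit 239) (BT.leaf (.rel (nat_lit 232) (nat_lit 1) [(nat_lit 104), (nat_lit 235), (nat_lit 98)] [⟨(nat_lit 189), [(nat_lit 236)], [(nat_lit 165), (nat_lit 237), (nat_lit 95)]⟩])) (BT.leaf (.inv (nat_lit 238))))))) (BT.node (nat_lit 248) (BT.node (nat_lit 244) (BT.node (nat_lit 242) (BT.node (nat_lit 241) (BT.leaf (.nmul (nat_lit 88) [(nat_lit 3)])) (BT.leaf (.emul [(nat_lit 124), (nat_lit 87)]))) (BT.node (nat_lit 243) (BT.leaf (.emul [(nat_lit 53), (nat_lit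 241)])) (BT.leaf (.nmul (nat_lit 3) [(nat_lit 4)])))) (BT.node (nat_lit 246) (BT.node (nat_lit 245) (BT.leaf (.nmul (nat_lit 243) [(nat_lit 2)])) (BT.leaf (.nmul (nat_lit 244) [(nat_lit 3)]))) (BT.node (nat_lit 247) (BT.leaf (.nmul (nat_lit 219) [(nat_lit 1)])) (BT.leaf (.rel (nat_lit 232) (nat_lit 0) [(nat_lit 17), (nat_lit 240)] [⟨(nat_lit 94), [(nat_lit 242), (nat_lit 194)], [(nat_lit 246), (nat_lit 208), (nat_lit 245)]⟩]))))) (BT.node (nat_lit 252) (BT.node (nat_lit 250) (BT.node (nat_lit 249) (BT.leaf (.emul [(nat_lit 79), (nat_lit 53)])) (BT.leaf (.nmul (nat_lit 140) [(nat_lit 0)]))) (BT.node (nat_lit 251) (BT.leaf (.cmp (nat_lit 247) ⟨(nat_lit 247), [(nat_lit 191), (nat_lit 248)], [(nat_lit 249), (nat_lit 22), (nat_lit 63)]⟩)) (BT.leaf (.inv (nat_lit 247))))) (BT.node (nat_lit 254) (BT.node (nat_lit 253) (BT.leaf (.nmul (nat_lit 45) [(nat_lit 0)])) (BT.leaf (.nmul (nat_lit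 252) [(nat_lit 2)]))) (BT.node (nat_lit 255) (BT.leaf (.nmul (nat_lit 253) [(nat_lit 0)])) (BT.leaf (.nmul (nat_lit 254) [(nat_lit 2)]))))))))
noncomputable def cF256 : BT Fc := (BT.node (nat_lit 288) (BT.node (nat_lit 272) (BT.node (nat_lit 264) (BT.node (nat_lit 260) (BT.node (nat_lit 258) (BT.node (nat_lit 257) (BT.leaf ⟨(nat_lit 2), (nat_lit 1), (nat_lit 1), z253, (nat_lit 0), (nat_lit 0)⟩) (BT.leaf ⟨(nat_lit 2), (nat_lit 1), (nat_lit 1), z255, (nat_lit 0), (nat_lit 0)⟩)) (BT.node (nat_lit 259) (BT.leaf ⟨(nat_lit 2), (nat_lit 1), (nat_lit 1), z257, (nat_lit 0), (nat_lit 0)⟩) (BT.leaf ⟨(nat_lit 2), (nat_lit 1), (nat_lit 1), z58, (nat_lit 0), (nat_lit 0)⟩))) (BT.node (nat_lit 262) (BT.node (nat_lit 261) (BT.leaf ⟨(nat_lit 2), (nat_lit 1), (nat_lit 1), z197, (nat_lit 0), (nat_lit 0)⟩) (BT.leaf ⟨(nat_lit 1), (nat_lit 0), (nat_lit 0), z316, z317, (nat_lit 0)⟩)) (BT.node (nat_lit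 263) (BT.leaf ⟨(nat_lit 1), (nat_lit 0), (nat_lit 0), z318, z44, (nat_lit 0)⟩) (BT.leaf ⟨(nat_lit 1), (nat_lit 0), (nat_lit 0), z319, z320, (nat_lit 0)⟩)))) (BT.node (nat_lit 268) (BT.node (nat_lit 266) (BT.node (nat_lit 265) (BT.leaf ⟨(nat_lit 1), (nat_lit 0), (nat_lit 0), z321, z322, (nat_lit 0)⟩) (BT.leaf ⟨(nat_lit 3), (nat_lit 3), (nat_lit 4), z323, z324, (nat_lit 0)⟩)) (BT.node (nat_lit 267) (BT.leaf ⟨(nat_lit 3), (nat_lit 4), (nat_lit 3), z324, z325, (nat_lit 0)⟩) (BT.leaf ⟨(nat_lit 2), (nat_lit 1), (nat_lit 1), z326, (nat_lit 0), (nat_lit 0)⟩))) (BT.node (nat_lit 270) (BT.node (nat_lit 269) (BT.leaf ⟨(nat_lit 2), (nat_lit 1), (nat_lit 1), z17, (nat_lit 0), (nat_lit 0)⟩) (BT.leaf ⟨(nat_lit 2), (nat_lit 1), (nat_lit 1), z182, (nat_lit 0), (nat_lit 0)⟩)) (BT.node (nat_lit 271) (BT.leaf ⟨(nat_lit 2), (nat_lit 1), (nat_lit 1), z184, (nat_lit 0), (nat_lit 0)⟩) (BT.leaf ⟨(nat_lit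 2), (nat_lit 1), (nat_lit 1), z327, (nat_lit 0), (nat_lit 0)⟩))))) (BT.node (nat_lit 280) (BT.node (nat_lit 276) (BT.node (nat_lit 274) (BT.node (nat_lit 273) (BT.leaf ⟨(nat_lit 2), (nat_lit 1), (nat_lit 1), z274, (nat_lit 0), (nat_lit 0)⟩) (BT.leaf ⟨(nat_lit 2), (nat_lit 1), (nat_lit 1), z276, (nat_lit 0), (nat_lit 0)⟩)) (BT.node (nat_lit 275) (BT.leaf ⟨(nat_lit 2), (nat_lit 1), (nat_lit 1), z328, (nat_lit 0), (nat_lit 0)⟩) (BT.leaf ⟨(nat_lit 1), (nat_lit 0), (nat_lit 0), z329, z262, (nat_lit 0)⟩))) (BT.node (nat_lit 278) (BT.node (nat_lit 277) (BT.leaf ⟨(nat_lit 1), (nat_lit 0), (nat_lit 0), z330, z331, (nat_lit 0)⟩) (BT.leaf ⟨(nat_lit 1), (nat_lit 0), (nat_lit 0), z332, z333, (nat_lit 0)⟩)) (BT.node (nat_lit 279) (BT.leaf ⟨(nat_lit 1), (nat_lit 0), (nat_lit 0), z334, z335, (nat_lit 0)⟩) (BT.leaf ⟨(nat_lit 3), (nat_lit 4), (nat_lit 4), z336, z337, (nat_lit 0)⟩)))) (BT.node (nat_lit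 284) (BT.node (nat_lit 282) (BT.node (nat_lit 281) (BT.leaf ⟨(nat_lit 3), (nat_lit 4), (nat_lit 4), z337, z338, (nat_lit 0)⟩) (BT.leaf ⟨(nat_lit 1), (nat_lit 0), (nat_lit 0), z339, z157, (nat_lit 0)⟩)) (BT.node (nat_lit 283) (BT.leaf ⟨(nat_lit 1), (nat_lit 0), (nat_lit 0), z35, z97, (nat_lit 0)⟩) (BT.leaf ⟨(nat_lit 2), (nat_lit 3), (nat_lit 3), z122, (nat_lit 0), (nat_lit 0)⟩))) (BT.node (nat_lit 286) (BT.node (nat_lit 285) (BT.leaf ⟨(nat_lit 2), (nat_lit 3), (nat_lit 3), z340, (nat_lit 0), (nat_lit 0)⟩) (BT.leaf ⟨(nat_lit 3), (nat_lit 4), (nat_lit 4), z341, z342, (nat_lit 0)⟩)) (BT.node (nat_lit 287) (BT.leaf ⟨(nat_lit 3), (nat_lit 4), (nat_lit 4), z342, z343, (nat_lit 0)⟩) (BT.leaf ⟨(nat_lit 1), (nat_lit 0), (nat_lit 0), z344, z345, (nat_lit 0)⟩)))))) (BT.node (nat_lit 304) (BT.node (nat_lit 296) (BT.node (nat_lit 292) (BT.node (nat_lit 290) (BT.node (nat_lit 289) (BT.leaf ⟨(nat_lit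 1), (nat_lit 0), (nat_lit 0), z346, z347, (nat_lit 0)⟩) (BT.leaf ⟨(nat_lit 1), (nat_lit 0), (nat_lit 0), z348, z349, (nat_lit 0)⟩)) (BT.node (nat_lit 291) (BT.leaf ⟨(nat_lit 1), (nat_lit 0), (nat_lit 0), z350, z351, (nat_lit 0)⟩) (BT.leaf ⟨(nat_lit 1), (nat_lit 0), (nat_lit 0), z352, z136, (nat_lit 0)⟩))) (BT.node (nat_lit 294) (BT.node (nat_lit 293) (BT.leaf ⟨(nat_lit 3), (nat_lit 4), (nat_lit 4), z353, z354, (nat_lit 0)⟩) (BT.leaf ⟨(nat_lit 2), (nat_lit 1), (nat_lit 1), z320, (nat_lit 0), (nat_lit 0)⟩)) (BT.node (nat_lit 295) (BT.leaf ⟨(nat_lit 2), (nat_lit 1), (nat_lit 1), z322, (nat_lit 0), (nat_lit 0)⟩) (BT.leaf ⟨(nat_lit 1), (nat_lit 0), (nat_lit 0), z355, z356, (nat_lit 0)⟩)))) (BT.node (nat_lit 300) (BT.node (nat_lit 298) (BT.node (nat_lit 297) (BT.leaf ⟨(nat_lit 3), (nat_lit 4), (nat_lit 4), z357, z358, (nat_lit 0)⟩) (BT.leaf ⟨(nat_lit 1), (nat_lit 0), (nat_lit 0), z359,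 z37, (nat_lit 0)⟩)) (BT.node (nat_lit 299) (BT.leaf ⟨(nat_lit 1), (nat_lit 0), (nat_lit 0), z360, z38, (nat_lit 0)⟩) (BT.leaf ⟨(nat_lit 1), (nat_lit 0), (nat_lit 0), z361, z39, (nat_lit 0)⟩))) (BT.node (nat_lit 302) (BT.node (nat_lit 301) (BT.leaf ⟨(nat_lit 2), (nat_lit 3), (nat_lit 3), z362, (nat_lit 0), (nat_lit 0)⟩) (BT.leaf ⟨(nat_lit 2), (nat_lit 3), (nat_lit 3), z363, (nat_lit 0), (nat_lit 0)⟩)) (BT.node (nat_lit 303) (BT.leaf ⟨(nat_lit 1), (nat_lit 0), (nat_lit 0), z233, z364, (nat_lit 0)⟩) (BT.leaf ⟨(nat_lit 3), (nat_lit 4), (nat_lit 4), z365, z366, (nat_lit 0)⟩))))) (BT.node (nat_lit 312) (BT.node (nat_lit 308) (BT.node (nat_lit 306) (BT.node (nat_lit 305) (BT.leaf ⟨(nat_lit 3), (nat_lit 4), (nat_lit 4), z366, z367, (nat_lit 0)⟩) (BT.leaf ⟨(nat_lit 1), (nat_lit 0), (nat_lit 0), z368, z369, (nat_lit 0)⟩)) (BT.node (nat_lit 307) (BT.leaf ⟨(nat_lit 2), (nat_lit 2), (nat_lit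 2), z370, (nat_lit 0), (nat_lit 0)⟩) (BT.leaf ⟨(nat_lit 2), (nat_lit 2), (nat_lit 2), z371, (nat_lit 0), (nat_lit 0)⟩))) (BT.node (nat_lit 310) (BT.node (nat_lit 309) (BT.leaf ⟨(nat_lit 2), (nat_lit 2), (nat_lit 2), z372, (nat_lit 0), (nat_lit 0)⟩) (BT.leaf ⟨(nat_lit 2), (nat_lit 2), (nat_lit 2), z373, (nat_lit 0), (nat_lit 0)⟩)) (BT.node (nat_lit 311) (BT.leaf ⟨(nat_lit 1), (nat_lit 0), (nat_lit 0), z374, z375, (nat_lit 0)⟩) (BT.leaf ⟨(nat_lit 3), (nat_lit 4), (nat_lit 2), z376, z377, (nat_lit 0)⟩)))) (BT.node (nat_lit 316) (BT.node (nat_lit 314) (BT.node (nat_lit 313) (BT.leaf ⟨(nat_lit 3), (nat_lit 2), (nat_lit 4), z377, z378, (nat_lit 0)⟩) (BT.leaf ⟨(nat_lit 1), (nat_lit 0), (nat_lit 0), z379, z380, (nat_lit 0)⟩)) (BT.node (nat_lit 315) (BT.leaf ⟨(nat_lit 2), (nat_lit 4), (nat_lit 4), z381, (nat_lit 0), (nat_lit 0)⟩) (BT.leaf ⟨(nat_lit 2), (nat_lit 4), (nat_lit 4), z382, (nat_lit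 0), (nat_lit 0)⟩))) (BT.node (nat_lit 318) (BT.node (nat_lit 317) (BT.leaf ⟨(nat_lit 2), (nat_lit 4), (nat_lit 4), z383, (nat_lit 0), (nat_lit 0)⟩) (BT.leaf ⟨(nat_lit 2), (nat_lit 4), (nat_lit 4), z384, (nat_lit 0), (nat_lit 0)⟩)) (BT.node (nat_lit 319) (BT.leaf ⟨(nat_lit 2), (nat_lit 4), (nat_lit 4), z385, (nat_lit 0), (nat_lit 0)⟩) (BT.leaf ⟨(nat_lit 2), (nat_lit 4), (nat_lit 4), z386, (nat_lit 0), (nat_lit 0)⟩)))))))
noncomputable def cP256 : BT Pf := (BT.node (nat_lit 288) (BT.node (nat_lit 272) (BT.node (nat_lit 264) (BT.node (nat_lit 260) (BT.node (nat_lit 258) (BT.node (nat_lit 257) (BT.leaf (.emul [(nat_lit 10), (nat_lit 168)])) (BT.leaf (.emul [(nat_lit 9), (nat_lit 256)]))) (BT.node (nat_lit 259) (BT.leaf (.emul [(nat_lit 9), (nat_lit 257)])) (BT.leaf (.emul [(nat_lit 9), (nat_lit 90)])))) (BT.node (nat_lit 262) (BT.node (nat_lit 261) (BT.leaf (.emul [(nat_lit 8), (nat_lit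 259)])) (BT.leaf (.nmul (nat_lit 15) [(nat_lit 4)]))) (BT.node (nat_lit 263) (BT.leaf (.nmul (nat_lit 45) [(nat_lit 2)])) (BT.leaf (.nmul (nat_lit 262) [(nat_lit 0)]))))) (BT.node (nat_lit 268) (BT.node (nat_lit 266) (BT.node (nat_lit 265) (BT.leaf (.nmul (nat_lit 263) [(nat_lit 0)])) (BT.leaf (.rel (nat_lit 221) (nat_lit 0) [(nat_lit 104), (nat_lit 255), (nat_lit 85)] [⟨(nat_lit 125), [(nat_lit 143), (nat_lit 258), (nat_lit 260)], [(nat_lit 161), (nat_lit 264), (nat_lit 261)]⟩]))) (BT.node (nat_lit 267) (BT.leaf (.inv (nat_lit 265))) (BT.leaf (.emul [(nat_lit 12), (nat_lit 30)])))) (BT.node (nat_lit 270) (BT.node (nat_lit 269) (BT.leaf (.emul [(nat_lit 9), (nat_lit 34)])) (BT.leaf (.emul [(nat_lit 10), (nat_lit 268)]))) (BT.node (nat_lit 271) (BT.leaf (.emul [(nat_lit 9), (nat_lit 269)])) (BT.leaf (.emul [(nat_lit 8), (nat_lit 270)])))))) (BT.node (nat_lit 280) (BT.node (nat_lit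 276) (BT.node (nat_lit 274) (BT.node (nat_lit 273) (BT.leaf (.emul [(nat_lit 10), (nat_lit 271)])) (BT.leaf (.emul [(nat_lit 9), (nat_lit 272)]))) (BT.node (nat_lit 275) (BT.leaf (.emul [(nat_lit 9), (nat_lit 273)])) (BT.leaf (.nmul (nat_lit 131) [(nat_lit 2)])))) (BT.node (nat_lit 278) (BT.node (nat_lit 277) (BT.leaf (.nmul (nat_lit 275) [(nat_lit 1)])) (BT.leaf (.nmul (nat_lit 276) [(nat_lit 0)]))) (BT.node (nat_lit 279) (BT.leaf (.nmul (nat_lit 277) [(nat_lit 2)])) (BT.leaf (.rel (nat_lit 221) (nat_lit 1) [(nat_lit 104), (nat_lit 234), (nat_lit 187)] [⟨(nat_lit 213), [(nat_lit 267), (nat_lit 274), (nat_lit 69)], [(nat_lit 231), (nat_lit 278), (nat_lit 176)]⟩]))))) (BT.node (nat_lit 284) (BT.node (nat_lit 282) (BT.node (nat_lit 281) (BT.leaf (.inv (nat_lit 279))) (BT.leaf (.nmul (nat_lit 95) [(nat_lit 3)]))) (BT.node (nat_lit 283) (BT.leaf (.nmul (nat_lit 165) [(nat_lit 1)]))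 (BT.leaf (.emul [(nat_lit 147), (nat_lit 162)])))) (BT.node (nat_lit 286) (BT.node (nat_lit 285) (BT.leaf (.emul [(nat_lit 147), (nat_lit 283)])) (BT.leaf (.rel (nat_lit 239) (nat_lit 1) [(nat_lit 282), (nat_lit 227), (nat_lit 281)] [⟨(nat_lit 238), [(nat_lit 284)], [(nat_lit 52), (nat_lit 264), (nat_lit 98)]⟩]))) (BT.node (nat_lit 287) (BT.leaf (.inv (nat_lit 285))) (BT.leaf (.nmul (nat_lit 131) [(nat_lit 0)]))))))) (BT.node (nat_lit 304) (BT.node (nat_lit 296) (BT.node (nat_lit 292) (BT.node (nat_lit 290) (BT.node (nat_lit 289) (BT.leaf (.nmul (nat_lit 287) [(nat_lit 1)])) (BT.leaf (.nmul (nat_lit 288) [(nat_lit 0)]))) (BT.node (nat_lit 291) (BT.leaf (.nmul (nat_lit 289) [(nat_lit 0)])) (BT.leaf (.nmul (nat_lit 163) [(nat_lit 2)])))) (BT.node (nat_lit 294) (BT.node (nat_lit 293) (BT.leaf (.rel (nat_lit 285) (nat_lit 0) [(nat_lit 119), (nat_lit 290)] [⟨(nat_lit 285), [], [(nat_lit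 290), (nat_lit 291)]⟩])) (BT.leaf (.emul [(nat_lit 9), (nat_lit 38)]))) (BT.node (nat_lit 295) (BT.leaf (.emul [(nat_lit 9), (nat_lit 293)])) (BT.leaf (.nmul (nat_lit 207) [(nat_lit 1)]))))) (BT.node (nat_lit 300) (BT.node (nat_lit 298) (BT.node (nat_lit 297) (BT.leaf (.rel (nat_lit 221) (nat_lit 1) [(nat_lit 208), (nat_lit 88)] [⟨(nat_lit 213), [(nat_lit 55), (nat_lit 294), (nat_lit 84)], [(nat_lit 24), (nat_lit 295), (nat_lit 244)]⟩])) (BT.leaf (.nmul (nat_lit 4) [(nat_lit 3)]))) (BT.node (nat_lit 299) (BT.leaf (.nmul (nat_lit 297) [(nat_lit 2)])) (BT.leaf (.nmul (nat_lit 298) [(nat_lit 4)])))) (BT.node (nat_lit 302) (BT.node (nat_lit 301) (BT.leaf (.emul [(nat_lit 147), (nat_lit 141)])) (BT.leaf (.emul [(nat_lit 141), (nat_lit 300)]))) (BT.node (nat_lit 303) (BT.leaf (.nmul (nat_lit 91) [(nat_lit 3)])) (BT.leaf (.rel (nat_lit 239) (nat_lit 0) [(nat_lit 27), (nat_lit 133), (nat_lit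 299)] [⟨(nat_lit 265), [(nat_lit 201), (nat_lit 301)], [(nat_lit 246), (nat_lit 211), (nat_lit 302)]⟩])))))) (BT.node (nat_lit 312) (BT.node (nat_lit 308) (BT.node (nat_lit 306) (BT.node (nat_lit 305) (BT.leaf (.inv (nat_lit 303))) (BT.leaf (.nmul (nat_lit 243) [(nat_lit 3)]))) (BT.node (nat_lit 307) (BT.leaf (.emul [(nat_lit 53), (nat_lit 191)])) (BT.leaf (.emul [(nat_lit 64), (nat_lit 306)])))) (BT.node (nat_lit 310) (BT.node (nat_lit 309) (BT.leaf (.emul [(nat_lit 64), (nat_lit 79)])) (BT.leaf (.emul [(nat_lit 79), (nat_lit 308)]))) (BT.node (nat_lit 311) (BT.leaf (.nmul (nat_lit 19) [(nat_lit 0)])) (BT.leaf (.rel (nat_lit 94) (nat_lit 0) [(nat_lit 1), (nat_lit 135), (nat_lit 305)] [⟨(nat_lit 247), [(nat_lit 307), (nat_lit 309)], [(nat_lit 231), (nat_lit 310), (nat_lit 163)]⟩]))))) (BT.node (nat_lit 316) (BT.node (nat_lit 314) (BT.node (nat_lit 313) (BT.leaf (.inv (nat_lit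 311))) (BT.leaf (.nmul (nat_lit 295) [(nat_lit 2)]))) (BT.node (nat_lit 315) (BT.leaf (.emul [(nat_lit 220), (nat_lit 250)])) (BT.leaf (.emul [(nat_lit 250), (nat_lit 314)])))) (BT.node (nat_lit 318) (BT.node (nat_lit 317) (BT.leaf (.emul [(nat_lit 220), (nat_lit 315)])) (BT.leaf (.emul [(nat_lit 250), (nat_lit 316)]))) (BT.node (nat_lit 319) (BT.leaf (.emul [(nat_lit 220), (nat_lit 220)])) (BT.leaf (.emul [(nat_lit 220), (nat_lit 318)]))))))))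
noncomputable def cF320 : BT Fc := (BT.node (nat_lit 352) (BT.node (nat_lit 336) (BT.node (nat_lit 328) (BT.node (nat_lit 324) (BT.node (nat_lit 322) (BT.node (nat_lit 321) (BT.leaf ⟨(nat_lit 2), (nat_lit 4), (nat_lit 4), z387, (nat_lit 0), (nat_lit 0)⟩) (BT.leaf ⟨(nat_lit 2), (nat_lit 4), (nat_lit 4), z388, (nat_lit 0), (nat_lit 0)⟩)) (BT.node (nat_lit 323) (BT.leaf ⟨(nat_lit 2), (nat_lit 4), (nat_lit 4), z389, (nat_lit 0), (nat_lit 0)⟩) (BT.leaf ⟨(nat_lit 2), (nat_lit 4), (nat_lit 4), z390, (nat_lit 0), (nat_lit 0)⟩))) (BT.node (nat_lit 326) (BT.node (nat_lit 325) (BT.leaf ⟨(nat_lit 1), (nat_lit 0), (nat_lit 0), z235, z326, (nat_lit 0)⟩) (BT.leaf ⟨(nat_lit 3), (nat_lit 4), (nat_lit 4), z391, z392, (nat_lit 0)⟩)) (BT.node (nat_lit 327) (BT.leaf ⟨(nat_lit 1), (nat_lit 0), (nat_lit 0), z393, z394, (nat_lit 0)⟩) (BT.leaf ⟨(nat_lit 2), (nat_lit 2), (nat_lit 2), z395, (nat_lit 0),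 (nat_lit 0)⟩)))) (BT.node (nat_lit 332) (BT.node (nat_lit 330) (BT.node (nat_lit 329) (BT.leaf ⟨(nat_lit 2), (nat_lit 2), (nat_lit 2), z396, (nat_lit 0), (nat_lit 0)⟩) (BT.leaf ⟨(nat_lit 2), (nat_lit 2), (nat_lit 2), z397, (nat_lit 0), (nat_lit 0)⟩)) (BT.node (nat_lit 331) (BT.leaf ⟨(nat_lit 2), (nat_lit 2), (nat_lit 2), z398, (nat_lit 0), (nat_lit 0)⟩) (BT.leaf ⟨(nat_lit 3), (nat_lit 4), (nat_lit 4), z399, z400, (nat_lit 0)⟩))) (BT.node (nat_lit 334) (BT.node (nat_lit 333) (BT.leaf ⟨(nat_lit 3), (nat_lit 4), (nat_lit 4), z400, z401, (nat_lit 0)⟩) (BT.leaf ⟨(nat_lit 1), (nat_lit 0), (nat_lit 0), z402, z403, (nat_lit 0)⟩)) (BT.node (nat_lit 335) (BT.leaf ⟨(nat_lit 1), (nat_lit 0), (nat_lit 0), z404, z302, (nat_lit 0)⟩) (BT.leaf ⟨(nat_lit 3), (nat_lit 4), (nat_lit 4), z405, z406, (nat_lit 0)⟩))))) (BT.node (nat_lit 344) (BT.node (nat_lit 340) (BT.node (nat_lit 338) (BT.node (nat_lit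 337) (BT.leaf ⟨(nat_lit 1), (nat_lit 0), (nat_lit 0), z407, z408, (nat_lit 0)⟩) (BT.leaf ⟨(nat_lit 1), (nat_lit 0), (nat_lit 0), z409, z410, (nat_lit 0)⟩)) (BT.node (nat_lit 339) (BT.leaf ⟨(nat_lit 2), (nat_lit 2), (nat_lit 2), z411, (nat_lit 0), (nat_lit 0)⟩) (BT.leaf ⟨(nat_lit 2), (nat_lit 2), (nat_lit 2), z412, (nat_lit 0), (nat_lit 0)⟩))) (BT.node (nat_lit 342) (BT.node (nat_lit 341) (BT.leaf ⟨(nat_lit 2), (nat_lit 2), (nat_lit 2), z122, (nat_lit 0), (nat_lit 0)⟩) (BT.leaf ⟨(nat_lit 2), (nat_lit 2), (nat_lit 2), z65, (nat_lit 0), (nat_lit 0)⟩)) (BT.node (nat_lit 343) (BT.leaf ⟨(nat_lit 3), (nat_lit 4), (nat_lit 4), z413, z414, (nat_lit 0)⟩) (BT.leaf ⟨(nat_lit 3), (nat_lit 4), (nat_lit 4), z414, z415, (nat_lit 0)⟩)))) (BT.node (nat_lit 348) (BT.node (nat_lit 346) (BT.node (nat_lit 345) (BT.leaf ⟨(nat_lit 1), (nat_lit 0), (nat_lit 0), z416, z417, (nat_lit 0)⟩) (BT.leaf ⟨(nat_lit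 2), (nat_lit 4), (nat_lit 4), z418, (nat_lit 0), (nat_lit 0)⟩)) (BT.node (nat_lit 347) (BT.leaf ⟨(nat_lit 2), (nat_lit 4), (nat_lit 4), z419, (nat_lit 0), (nat_lit 0)⟩) (BT.leaf ⟨(nat_lit 2), (nat_lit 4), (nat_lit 4), z420, (nat_lit 0), (nat_lit 0)⟩))) (BT.node (nat_lit 350) (BT.node (nat_lit 349) (BT.leaf ⟨(nat_lit 2), (nat_lit 4), (nat_lit 4), z421, (nat_lit 0), (nat_lit 0)⟩) (BT.leaf ⟨(nat_lit 2), (nat_lit 4), (nat_lit 4), z422, (nat_lit 0), (nat_lit 0)⟩)) (BT.node (nat_lit 351) (BT.leaf ⟨(nat_lit 2), (nat_lit 4), (nat_lit 4), z423, (nat_lit 0), (nat_lit 0)⟩) (BT.leaf ⟨(nat_lit 2), (nat_lit 4), (nat_lit 4), z424, (nat_lit 0), (nat_lit 0)⟩)))))) (BT.node (nat_lit 368) (BT.node (nat_lit 360) (BT.node (nat_lit 356) (BT.node (nat_lit 354) (BT.node (nat_lit 353) (BT.leaf ⟨(nat_lit 1), (nat_lit 0), (nat_lit 0), z425, z426, (nat_lit 0)⟩) (BT.leaf ⟨(nat_lit 3), (nat_lit 4), (nat_lit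 3), z427, z428, (nat_lit 0)⟩)) (BT.node (nat_lit 355) (BT.leaf ⟨(nat_lit 3), (nat_lit 3), (nat_lit 4), z428, z429, (nat_lit 0)⟩) (BT.leaf ⟨(nat_lit 2), (nat_lit 4), (nat_lit 4), z430, (nat_lit 0), (nat_lit 0)⟩))) (BT.node (nat_lit 358) (BT.node (nat_lit 357) (BT.leaf ⟨(nat_lit 2), (nat_lit 4), (nat_lit 4), z431, (nat_lit 0), (nat_lit 0)⟩) (BT.leaf ⟨(nat_lit 2), (nat_lit 4), (nat_lit 4), z432, (nat_lit 0), (nat_lit 0)⟩)) (BT.node (nat_lit 359) (BT.leaf ⟨(nat_lit 2), (nat_lit 4), (nat_lit 4), z433, (nat_lit 0), (nat_lit 0)⟩) (BT.leaf ⟨(nat_lit 1), (nat_lit 0), (nat_lit 0), z434, z435, (nat_lit 0)⟩)))) (BT.node (nat_lit 364) (BT.node (nat_lit 362) (BT.node (nat_lit 361) (BT.leaf ⟨(nat_lit 1), (nat_lit 0), (nat_lit 0), z436, z437, (nat_lit 0)⟩) (BT.leaf ⟨(nat_lit 1), (nat_lit 0), (nat_lit 0), z438, z439, (nat_lit 0)⟩)) (BT.node (nat_lit 363) (BT.leaf ⟨(nat_lit 3), (nat_lit 4), (nat_lit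 4), z440, z441, (nat_lit 0)⟩) (BT.leaf ⟨(nat_lit 3), (nat_lit 4), (nat_lit 4), z441, z442, (nat_lit 0)⟩))) (BT.node (nat_lit 366) (BT.node (nat_lit 365) (BT.leaf ⟨(nat_lit 2), (nat_lit 4), (nat_lit 4), z443, (nat_lit 0), (nat_lit 0)⟩) (BT.leaf ⟨(nat_lit 2), (nat_lit 4), (nat_lit 4), z444, (nat_lit 0), (nat_lit 0)⟩)) (BT.node (nat_lit 367) (BT.leaf ⟨(nat_lit 2), (nat_lit 4), (nat_lit 4), z445, (nat_lit 0), (nat_lit 0)⟩) (BT.leaf ⟨(nat_lit 2), (nat_lit 4), (nat_lit 4), z446, (nat_lit 0), (nat_lit 0)⟩))))) (BT.node (nat_lit 376) (BT.node (nat_lit 372) (BT.node (nat_lit 370) (BT.node (nat_lit 369) (BT.leaf ⟨(nat_lit 2), (nat_lit 4), (nat_lit 4), z447, (nat_lit 0), (nat_lit 0)⟩) (BT.leaf ⟨(nat_lit 2), (nat_lit 4), (nat_lit 4), z448, (nat_lit 0), (nat_lit 0)⟩)) (BT.node (nat_lit 371) (BT.leaf ⟨(nat_lit 3), (nat_lit 4), (nat_lit 3), z449, z450, (nat_lit 0)⟩) (BT.leaf ⟨(nat_lit 3), (nat_lit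 3), (nat_lit 4), z450, z451, (nat_lit 0)⟩))) (BT.node (nat_lit 374) (BT.node (nat_lit 373) (BT.leaf ⟨(nat_lit 1), (nat_lit 0), (nat_lit 0), z452, z453, (nat_lit 0)⟩) (BT.leaf ⟨(nat_lit 1), (nat_lit 0), (nat_lit 0), z454, z455, (nat_lit 0)⟩)) (BT.node (nat_lit 375) (BT.leaf ⟨(nat_lit 3), (nat_lit 4), (nat_lit 4), z456, z457, (nat_lit 0)⟩) (BT.leaf ⟨(nat_lit 3), (nat_lit 4), (nat_lit 4), z457, z458, (nat_lit 0)⟩)))) (BT.node (nat_lit 380) (BT.node (nat_lit 378) (BT.node (nat_lit 377) (BT.leaf ⟨(nat_lit 1), (nat_lit 0), (nat_lit 0), z47, z404, (nat_lit 0)⟩) (BT.leaf ⟨(nat_lit 2), (nat_lit 4), (nat_lit 4), z459, (nat_lit 0), (nat_lit 0)⟩)) (BT.node (nat_lit 379) (BT.leaf ⟨(nat_lit 2), (nat_lit 4), (nat_lit 4), z460, (nat_lit 0), (nat_lit 0)⟩) (BT.leaf ⟨(nat_lit 1), (nat_lit 0), (nat_lit 0), z461, z462, (nat_lit 0)⟩))) (BT.node (nat_lit 382) (BT.node (nat_lit 381) (BT.leaf ⟨(nat_lit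 3), (nat_lit 4), (nat_lit 4), z463, z464, (nat_lit 0)⟩) (BT.leaf ⟨(nat_lit 3), (nat_lit 4), (nat_lit 4), z465, z466, (nat_lit 0)⟩)) (BT.node (nat_lit 383) (BT.leaf ⟨(nat_lit 3), (nat_lit 4), (nat_lit 4), z466, z467, (nat_lit 0)⟩) (BT.leaf ⟨(nat_lit 2), (nat_lit 4), (nat_lit 4), z468, (nat_lit 0), (nat_lit 0)⟩)))))))
noncomputable def cP320 : BT Pf := (BT.node (nat_lit 352) (BT.node (nat_lit 336) (BT.node (nat_lit 328) (BT.node (nat_lit 324) (BT.node (nat_lit 322) (BT.node (nat_lit 321) (BT.leaf (.emul [(nat_lit 220), (nat_lit 319)])) (BT.leaf (.emul [(nat_lit 220), (nat_lit 320)]))) (BT.node (nat_lit 323) (BT.leaf (.emul [(nat_lit 220), (nat_lit 321)])) (BT.leaf (.emul [(nat_lit 224), (nat_lit 322)])))) (BT.node (nat_lit 326) (BT.node (nat_lit 325) (BT.leaf (.nmul (nat_lit 297) [(nat_lit 4)])) (BT.leaf (.rel (nat_lit 280) (nat_lit 1) [(nat_lit 223), (nat_lit 313), (nat_lit 297)]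 [⟨(nat_lit 304), [(nat_lit 317), (nat_lit 323)], [(nat_lit 26), (nat_lit 178), (nat_lit 324)]⟩]))) (BT.node (nat_lit 327) (BT.leaf (.nmul (nat_lit 254) [(nat_lit 0)])) (BT.leaf (.emul [(nat_lit 64), (nat_lit 53)]))))) (BT.node (nat_lit 332) (BT.node (nat_lit 330) (BT.node (nat_lit 329) (BT.leaf (.emul [(nat_lit 53), (nat_lit 327)])) (BT.leaf (.emul [(nat_lit 53), (nat_lit 328)]))) (BT.node (nat_lit 331) (BT.leaf (.emul [(nat_lit 79), (nat_lit 329)])) (BT.leaf (.rel (nat_lit 251) (nat_lit 1) [(nat_lit 0), (nat_lit 326), (nat_lit 298)] [⟨(nat_lit 247), [(nat_lit 87), (nat_lit 330)], [(nat_lit 107), (nat_lit 156), (nat_lit 92)]⟩])))) (BT.node (nat_lit 334) (BT.node (nat_lit 333) (BT.leaf (.inv (nat_lit 331))) (BT.leaf (.nmul (nat_lit 184) [(nat_lit 0)]))) (BT.node (nat_lit 335) (BT.leaf (.nmul (nat_lit 282) [(nat_lit 1)])) (BT.leaf (.rel (nat_lit 280) (nat_lit 0) [(nat_lit 334),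 (nat_lit 333), (nat_lit 96)] [⟨(nat_lit 280), [(nat_lit 319)], [(nat_lit 104), (nat_lit 208), (nat_lit 95)]⟩])))))) (BT.node (nat_lit 344) (BT.node (nat_lit 340) (BT.node (nat_lit 338) (BT.node (nat_lit 337) (BT.leaf (.nmul (nat_lit 298) [(nat_lit 3)])) (BT.leaf (.nmul (nat_lit 336) [(nat_lit 4)]))) (BT.node (nat_lit 339) (BT.leaf (.emul [(nat_lit 64), (nat_lit 190)])) (BT.leaf (.emul [(nat_lit 124), (nat_lit 338)])))) (BT.node (nat_lit 342) (BT.node (nat_lit 341) (BT.leaf (.emul [(nat_lit 64), (nat_lit 64)])) (BT.leaf (.emul [(nat_lit 64), (nat_lit 340)]))) (BT.node (nat_lit 343) (BT.leaf (.rel (nat_lit 232) (nat_lit 1) [(nat_lit 78), (nat_lit 75), (nat_lit 337)] [⟨(nat_lit 312), [(nat_lit 339), (nat_lit 341)], [(nat_lit 219), (nat_lit 235), (nat_lit 97)]⟩])) (BT.leaf (.inv (nat_lit 342)))))) (BT.node (nat_lit 348) (BT.node (nat_lit 346) (BT.node (nat_lit 345) (BT.leaf (.nmul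 (nat_lit 21) [(nat_lit 2)])) (BT.leaf (.emul [(nat_lit 220), (nat_lit 314)]))) (BT.node (nat_lit 347) (BT.leaf (.emul [(nat_lit 250), (nat_lit 345)])) (BT.leaf (.emul [(nat_lit 220), (nat_lit 346)])))) (BT.node (nat_lit 350) (BT.node (nat_lit 349) (BT.leaf (.emul [(nat_lit 220), (nat_lit 347)])) (BT.leaf (.emul [(nat_lit 250), (nat_lit 348)]))) (BT.node (nat_lit 351) (BT.leaf (.emul [(nat_lit 224), (nat_lit 349)])) (BT.leaf (.emul [(nat_lit 224), (nat_lit 319)]))))))) (BT.node (nat_lit 368) (BT.node (nat_lit 360) (BT.node (nat_lit 356) (BT.node (nat_lit 354) (BT.node (nat_lit 353) (BT.leaf (.nmul (nat_lit 245) [(nat_lit 3)])) (BT.leaf (.rel (nat_lit 238) (nat_lit 1) [(nat_lit 282), (nat_lit 344), (nat_lit 244)] [⟨(nat_lit 286), [(nat_lit 350), (nat_lit 351)], [(nat_lit 52), (nat_lit 134), (nat_lit 352)]⟩]))) (BT.node (nat_lit 355) (BT.leaf (.inv (nat_lit 353))) (BT.leaf (.emul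 [(nat_lit 220), (nat_lit 224)])))) (BT.node (nat_lit 358) (BT.node (nat_lit 357) (BT.leaf (.emul [(nat_lit 220), (nat_lit 355)])) (BT.leaf (.emul [(nat_lit 220), (nat_lit 356)]))) (BT.node (nat_lit 359) (BT.leaf (.emul [(nat_lit 220), (nat_lit 357)])) (BT.leaf (.nmul (nat_lit 183) [(nat_lit 0)]))))) (BT.node (nat_lit 364) (BT.node (nat_lit 362) (BT.node (nat_lit 361) (BT.leaf (.nmul (nat_lit 359) [(nat_lit 1)])) (BT.leaf (.nmul (nat_lit 360) [(nat_lit 2)]))) (BT.node (nat_lit 363) (BT.leaf (.rel (nat_lit 279) (nat_lit 1) [(nat_lit 219), (nat_lit 2), (nat_lit 291)] [⟨(nat_lit 325), [(nat_lit 358)], [(nat_lit 52), (nat_lit 361), (nat_lit 85)]⟩])) (BT.leaf (.inv (nat_lit 362))))) (BT.node (nat_lit 366) (BT.node (nat_lit 365) (BT.leaf (.emul [(nat_lit 224), (nat_lit 250)])) (BT.leaf (.emul [(nat_lit 220), (nat_lit 364)]))) (BT.node (nat_lit 367) (BT.leaf (.emul [(nat_lit 250), (nat_lit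 365)])) (BT.leaf (.emul [(nat_lit 220), (nat_lit 366)])))))) (BT.node (nat_lit 376) (BT.node (nat_lit 372) (BT.node (nat_lit 370) (BT.node (nat_lit 369) (BT.leaf (.emul [(nat_lit 220), (nat_lit 367)])) (BT.leaf (.emul [(nat_lit 220), (nat_lit 322)]))) (BT.node (nat_lit 371) (BT.leaf (.rel (nat_lit 265) (nat_lit 0) [(nat_lit 282), (nat_lit 48), (nat_lit 163)] [⟨(nat_lit 362), [(nat_lit 368), (nat_lit 369)], [(nat_lit 249), (nat_lit 313), (nat_lit 302)]⟩])) (BT.leaf (.inv (nat_lit 370))))) (BT.node (nat_lit 374) (BT.node (nat_lit 373) (BT.leaf (.nmul (nat_lit 359) [(nat_lit 2)])) (BT.leaf (.nmul (nat_lit 289) [(nat_lit 2)]))) (BT.node (nat_lit 375) (BT.leaf (.rel (nat_lit 335) (nat_lit 0) [(nat_lit 334), (nat_lit 372), (nat_lit 298)] [⟨(nat_lit 332), [(nat_lit 346), (nat_lit 357)], [(nat_lit 164), (nat_lit 373), (nat_lit 4)]⟩])) (BT.leaf (.inv (nat_lit 374)))))) (BT.node (nat_lit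 380) (BT.node (nat_lit 378) (BT.node (nat_lit 377) (BT.leaf (.nmul (nat_lit 27) [(nat_lit 1)])) (BT.leaf (.emul [(nat_lit 220), (nat_lit 316)]))) (BT.node (nat_lit 379) (BT.leaf (.emul [(nat_lit 250), (nat_lit 377)])) (BT.leaf (.nmul (nat_lit 277) [(nat_lit 0)])))) (BT.node (nat_lit 382) (BT.node (nat_lit 381) (BT.leaf (.rel (nat_lit 375) (nat_lit 0) [(nat_lit 376), (nat_lit 182), (nat_lit 281)] [⟨(nat_lit 375), [(nat_lit 378), (nat_lit 220)], [(nat_lit 52), (nat_lit 379), (nat_lit 116)]⟩])) (BT.leaf (.rel (nat_lit 374) (nat_lit 1) [(nat_lit 161), (nat_lit 101), (nat_lit 302)] [⟨(nat_lit 380), [(nat_lit 346), (nat_lit 220)], [(nat_lit 27), (nat_lit 73), (nat_lit 305)]⟩]))) (BT.node (nat_lit 383) (BT.leaf (.inv (nat_lit 381))) (BT.leaf (.emul [(nat_lit 224), (nat_lit 366)]))))))))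
noncomputable def cF384 : BT Fc := (BT.node (nat_lit 416) (BT.node (nat_lit 400) (BT.node (nat_lit 392) (BT.node (nat_lit 388) (BT.node (nat_lit 386) (BT.node (nat_lit 385) (BT.leaf ⟨(nat_lit 2), (nat_lit 4), (nat_lit 4), z469, (nat_lit 0), (nat_lit 0)⟩) (BT.leaf ⟨(nat_lit 2), (nat_lit 4), (nat_lit 4), z470, (nat_lit 0), (nat_lit 0)⟩)) (BT.node (nat_lit 387) (BT.leaf ⟨(nat_lit 1), (nat_lit 0), (nat_lit 0), z471, z179, (nat_lit 0)⟩) (BT.leaf ⟨(nat_lit 3), (nat_lit 4), (nat_lit 4), z472, z473, (nat_lit 0)⟩))) (BT.node (nat_lit 390) (BT.node (nat_lit 389) (BT.leaf ⟨(nat_lit 3), (nat_lit 4), (nat_lit 4), z474, z475, (nat_lit 0)⟩) (BT.leaf ⟨(nat_lit 2), (nat_lit 4), (nat_lit 4), z476, (nat_lit 0), (nat_lit 0)⟩)) (BT.node (nat_lit 391) (BT.leaf ⟨(nat_lit 1), (nat_lit 0), (nat_lit 0), z477, z478, (nat_lit 0)⟩) (BT.leaf ⟨(nat_lit 3), (nat_lit 3), (nat_lit 4), z479, z480, (nat_lit 0)⟩))))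 (BT.node (nat_lit 396) (BT.node (nat_lit 394) (BT.node (nat_lit 393) (BT.leaf ⟨(nat_lit 3), (nat_lit 4), (nat_lit 3), z480, z481, (nat_lit 0)⟩) (BT.leaf ⟨(nat_lit 1), (nat_lit 0), (nat_lit 0), z482, z483, (nat_lit 0)⟩)) (BT.node (nat_lit 395) (BT.leaf ⟨(nat_lit 1), (nat_lit 0), (nat_lit 0), z484, z485, (nat_lit 0)⟩) (BT.leaf ⟨(nat_lit 1), (nat_lit 0), (nat_lit 0), z486, z487, (nat_lit 0)⟩))) (BT.node (nat_lit 398) (BT.node (nat_lit 397) (BT.leaf ⟨(nat_lit 2), (nat_lit 4), (nat_lit 4), z488, (nat_lit 0), (nat_lit 0)⟩) (BT.leaf ⟨(nat_lit 1), (nat_lit 0), (nat_lit 0), z489, z490, (nat_lit 0)⟩)) (BT.node (nat_lit 399) (BT.leaf ⟨(nat_lit 3), (nat_lit 4), (nat_lit 3), z491, z492, (nat_lit 0)⟩) (BT.leaf ⟨(nat_lit 3), (nat_lit 3), (nat_lit 4), z492, z493, (nat_lit 0)⟩))))) (BT.node (nat_lit 408) (BT.node (nat_lit 404) (BT.node (nat_lit 402) (BT.node (nat_lit 401) (BT.leaf ⟨(nat_lit 1),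 (nat_lit 0), (nat_lit 0), z494, z69, (nat_lit 0)⟩) (BT.leaf ⟨(nat_lit 1), (nat_lit 0), (nat_lit 0), z495, z496, (nat_lit 0)⟩)) (BT.node (nat_lit 403) (BT.leaf ⟨(nat_lit 3), (nat_lit 4), (nat_lit 4), z497, z498, (nat_lit 0)⟩) (BT.leaf ⟨(nat_lit 3), (nat_lit 4), (nat_lit 4), z498, z499, (nat_lit 0)⟩))) (BT.node (nat_lit 406) (BT.node (nat_lit 405) (BT.leaf ⟨(nat_lit 1), (nat_lit 0), (nat_lit 0), z500, z501, (nat_lit 0)⟩) (BT.leaf ⟨(nat_lit 1), (nat_lit 0), (nat_lit 0), z502, z503, (nat_lit 0)⟩)) (BT.node (nat_lit 407) (BT.leaf ⟨(nat_lit 3), (nat_lit 3), (nat_lit 2), z504, z505, (nat_lit 0)⟩) (BT.leaf ⟨(nat_lit 3), (nat_lit 2), (nat_lit 3), z505, z506, (nat_lit 0)⟩)))) (BT.node (nat_lit 412) (BT.node (nat_lit 410) (BT.node (nat_lit 409) (BT.leaf ⟨(nat_lit 1), (nat_lit 0), (nat_lit 0), z507, z508, (nat_lit 0)⟩) (BT.leaf ⟨(nat_lit 1), (nat_lit 0), (nat_lit 0), z509, z510, (nat_lit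 0)⟩)) (BT.node (nat_lit 411) (BT.leaf ⟨(nat_lit 1), (nat_lit 0), (nat_lit 0), z511, z512, (nat_lit 0)⟩) (BT.leaf ⟨(nat_lit 1), (nat_lit 0), (nat_lit 0), z513, z514, (nat_lit 0)⟩))) (BT.node (nat_lit 414) (BT.node (nat_lit 413) (BT.leaf ⟨(nat_lit 1), (nat_lit 0), (nat_lit 0), z515, z516, (nat_lit 0)⟩) (BT.leaf ⟨(nat_lit 3), (nat_lit 4), (nat_lit 3), z517, z518, (nat_lit 0)⟩)) (BT.node (nat_lit 415) (BT.leaf ⟨(nat_lit 3), (nat_lit 3), (nat_lit 4), z518, z519, (nat_lit 0)⟩) (BT.leaf ⟨(nat_lit 3), (nat_lit 3), (nat_lit 3), z520, z521, (nat_lit 0)⟩)))))) (BT.node (nat_lit 432) (BT.node (nat_lit 424) (BT.node (nat_lit 420) (BT.node (nat_lit 418) (BT.node (nat_lit 417) (BT.leaf ⟨(nat_lit 2), (nat_lit 4), (nat_lit 4), z522, (nat_lit 0), (nat_lit 0)⟩) (BT.leaf ⟨(nat_lit 3), (nat_lit 4), (nat_lit 4), z523, z524, (nat_lit 0)⟩)) (BT.node (nat_lit 419) (BT.leaf ⟨(nat_lit 3), (nat_lit 4), (nat_lit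 4), z524, z525, (nat_lit 0)⟩) (BT.leaf ⟨(nat_lit 3), (nat_lit 3), (nat_lit 2), z526, z527, (nat_lit 0)⟩))) (BT.node (nat_lit 422) (BT.node (nat_lit 421) (BT.leaf ⟨(nat_lit 3), (nat_lit 2), (nat_lit 3), z527, z528, (nat_lit 0)⟩) (BT.leaf ⟨(nat_lit 1), (nat_lit 0), (nat_lit 0), z529, z78, (nat_lit 0)⟩)) (BT.node (nat_lit 423) (BT.leaf ⟨(nat_lit 3), (nat_lit 3), (nat_lit 3), z530, z531, (nat_lit 0)⟩) (BT.leaf ⟨(nat_lit 3), (nat_lit 3), (nat_lit 3), z531, z532, (nat_lit 0)⟩)))) (BT.node (nat_lit 428) (BT.node (nat_lit 426) (BT.node (nat_lit 425) (BT.leaf ⟨(nat_lit 4), (nat_lit 0), (nat_lit 0), P.one, (nat_lit 0), (nat_lit 0)⟩) (BT.leaf ⟨(nat_lit 4), (nat_lit 1), (nat_lit 0), X1, (nat_lit 0), (nat_lit 0)⟩)) (BT.node (nat_lit 427) (BT.leaf ⟨(nat_lit 4), (nat_lit 2), (nat_lit 0), X5, (nat_lit 0), (nat_lit 0)⟩) (BT.leaf ⟨(nat_lit 4), (nat_lit 7), (nat_lit 0), z156, (nat_lit 0), (nat_lit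 0)⟩))) (BT.node (nat_lit 430) (BT.node (nat_lit 429) (BT.leaf ⟨(nat_lit 4), (nat_lit 4), (nat_lit 0), X13, (nat_lit 0), (nat_lit 0)⟩) (BT.leaf ⟨(nat_lit 5), (nat_lit 1), (nat_lit 0), (nat_lit 0x97), (nat_lit 0), (nat_lit 0)⟩)) (BT.node (nat_lit 431) (BT.leaf ⟨(nat_lit 4), (nat_lit 5), (nat_lit 0), X14, (nat_lit 0), (nat_lit 0)⟩) (BT.leaf ⟨(nat_lit 4), (nat_lit 26), (nat_lit 0), z533, (nat_lit 0), (nat_lit 0)⟩))))) (BT.node (nat_lit 440) (BT.node (nat_lit 436) (BT.node (nat_lit 434) (BT.node (nat_lit 433) (BT.leaf ⟨(nat_lit 4), (nat_lit 110), (nat_lit 0), z534, (nat_lit 0), (nat_lit 0)⟩) (BT.leaf ⟨(nat_lit 4), (nat_lit 366), (nat_lit 0), z535, (nat_lit 0), (nat_lit 0)⟩)) (BT.node (nat_lit 435) (BT.leaf ⟨(nat_lit 4), (nat_lit 1155), (nat_lit 0), z536, (nat_lit 0), (nat_lit 0)⟩) (BT.leaf ⟨(nat_lit 4), (nat_lit 3190), (nat_lit 0), z537, (nat_lit 0), (nat_lit 0)⟩))) (BT.node (nat_lit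 438) (BT.node (nat_lit 437) (BT.leaf ⟨(nat_lit 4), (nat_lit 7764), (nat_lit 0), z538, (nat_lit 0), (nat_lit 0)⟩) (BT.leaf ⟨(nat_lit 4), (nat_lit 14074), (nat_lit 0), z539, (nat_lit 0), (nat_lit 0)⟩)) (BT.node (nat_lit 439) (BT.leaf ⟨(nat_lit 4), (nat_lit 10), (nat_lit 0), z540, (nat_lit 0), (nat_lit 0)⟩) (BT.leaf ⟨(nat_lit 1), (nat_lit 0), (nat_lit 0), z541, z542, (nat_lit 0)⟩)))) (BT.node (nat_lit 444) (BT.node (nat_lit 442) (BT.node (nat_lit 441) (BT.leaf ⟨(nat_lit 1), (nat_lit 0), (nat_lit 0), z543, z544, (nat_lit 0)⟩) (BT.leaf ⟨(nat_lit 1), (nat_lit 0), (nat_lit 0), z545, z546, (nat_lit 0)⟩)) (BT.node (nat_lit 443) (BT.leaf ⟨(nat_lit 4), (nat_lit 3), (nat_lit 0), X7, (nat_lit 0), (nat_lit 0)⟩) (BT.leaf ⟨(nat_lit 4), (nat_lit 15), (nat_lit 0), z547, (nat_lit 0), (nat_lit 0)⟩))) (BT.node (nat_lit 446) (BT.node (nat_lit 445) (BT.leaf ⟨(nat_lit 4), (nat_lit 67), (nat_lit 0), z548,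 (nat_lit 0), (nat_lit 0)⟩) (BT.leaf ⟨(nat_lit 4), (nat_lit 217), (nat_lit 0), z549, (nat_lit 0), (nat_lit 0)⟩)) (BT.node (nat_lit 447) (BT.leaf ⟨(nat_lit 4), (nat_lit 662), (nat_lit 0), z550, (nat_lit 0), (nat_lit 0)⟩) (BT.leaf ⟨(nat_lit 4), (nat_lit 1902), (nat_lit 0), z551, (nat_lit 0), (nat_lit 0)⟩)))))))
noncomputable def cP384 : BT Pf := (BT.node (nat_lit 416) (BT.node (nat_lit 400) (BT.node (nat_lit 392) (BT.node (nat_lit 388) (BT.node (nat_lit 386) (BT.node (nat_lit 385) (BT.leaf (.emul [(nat_lit 220), (nat_lit 383)])) (BT.leaf (.emul [(nat_lit 224), (nat_lit 369)]))) (BT.node (nat_lit 387) (BT.leaf (.nmul (nat_lit 244) [(nat_lit 4)])) (BT.leaf (.rel (nat_lit 303) (nat_lit 0) [(nat_lit 50), (nat_lit 49), (nat_lit 176)] [⟨(nat_lit 362), [(nat_lit 384), (nat_lit 385)], [(nat_lit 164), (nat_lit 152), (nat_lit 386)]⟩])))) (BT.node (nat_lit 390) (BT.node (nat_lit 389) (BT.leaf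 (.rel (nat_lit 304) (nat_lit 0) [(nat_lit 219), (nat_lit 14)] [⟨(nat_lit 363), [(nat_lit 346), (nat_lit 319)], [(nat_lit 282), (nat_lit 264), (nat_lit 96)]⟩])) (BT.leaf (.emul [(nat_lit 224), (nat_lit 355)]))) (BT.node (nat_lit 391) (BT.leaf (.nmul (nat_lit 133) [(nat_lit 1)])) (BT.leaf (.rel (nat_lit 286) (nat_lit 0) [(nat_lit 104), (nat_lit 156), (nat_lit 386)] [⟨(nat_lit 370), [(nat_lit 315), (nat_lit 389)], [(nat_lit 140), (nat_lit 390), (nat_lit 62)]⟩]))))) (BT.node (nat_lit 396) (BT.node (nat_lit 394) (BT.node (nat_lit 393) (BT.leaf (.inv (nat_lit 391))) (BT.leaf (.nmul (nat_lit 287) [(nat_lit 2)]))) (BT.node (nat_lit 395) (BT.leaf (.nmul (nat_lit 393) [(nat_lit 0)])) (BT.leaf (.nmul (nat_lit 394) [(nat_lit 2)])))) (BT.node (nat_lit 398) (BT.node (nat_lit 397) (BT.leaf (.emul [(nat_lit 224), (nat_lit 318)])) (BT.leaf (.nmul (nat_lit 63) [(nat_lit 4)]))) (BT.node (nat_lit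 399) (BT.leaf (.rel (nat_lit 265) (nat_lit 0) [(nat_lit 24), (nat_lit 395), (nat_lit 95)] [⟨(nat_lit 304), [(nat_lit 316), (nat_lit 396)], [(nat_lit 52), (nat_lit 19), (nat_lit 397)]⟩])) (BT.leaf (.inv (nat_lit 398))))))) (BT.node (nat_lit 408) (BT.node (nat_lit 404) (BT.node (nat_lit 402) (BT.node (nat_lit 401) (BT.leaf (.nmul (nat_lit 204) [(nat_lit 2)])) (BT.leaf (.nmul (nat_lit 295) [(nat_lit 0)]))) (BT.node (nat_lit 403) (BT.leaf (.rel (nat_lit 381) (nat_lit 1) [(nat_lit 1), (nat_lit 131), (nat_lit 400)] [⟨(nat_lit 325), [(nat_lit 347), (nat_lit 358)], [(nat_lit 401), (nat_lit 14)]⟩])) (BT.leaf (.inv (nat_lit 402))))) (BT.node (nat_lit 406) (BT.node (nat_lit 405) (BT.leaf (.nmul (nat_lit 305) [(nat_lit 3)])) (BT.leaf (.nmul (nat_lit 404) [(nat_lit 2)]))) (BT.node (nat_lit 407) (BT.leaf (.rel (nat_lit 247) (nat_lit 0) [(nat_lit 50), (nat_lit 373), (nat_lit 404)] [⟨(nat_lit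 370), [(nat_lit 347), (nat_lit 396)], [(nat_lit 219), (nat_lit 72), (nat_lit 405)]⟩])) (BT.leaf (.inv (nat_lit 406)))))) (BT.node (nat_lit 412) (BT.node (nat_lit 410) (BT.node (nat_lit 409) (BT.leaf (.nmul (nat_lit 207) [(nat_lit 0)])) (BT.leaf (.nmul (nat_lit 408) [(nat_lit 2)]))) (BT.node (nat_lit 411) (BT.leaf (.nmul (nat_lit 409) [(nat_lit 0)])) (BT.leaf (.nmul (nat_lit 15) [(nat_lit 2)])))) (BT.node (nat_lit 414) (BT.node (nat_lit 413) (BT.leaf (.nmul (nat_lit 218) [(nat_lit 1)])) (BT.leaf (.rel (nat_lit 371) (nat_lit 1) [(nat_lit 219), (nat_lit 410), (nat_lit 15)] [⟨(nat_lit 343), [(nat_lit 366), (nat_lit 389)], [(nat_lit 222), (nat_lit 412), (nat_lit 411)]⟩]))) (BT.node (nat_lit 415) (BT.leaf (.inv (nat_lit 413))) (BT.leaf (.rel (nat_lit 391) (nat_lit 0) [(nat_lit 376), (nat_lit 132), (nat_lit 116)] [⟨(nat_lit 398), [(nat_lit 314), (nat_lit 356)], [(nat_lit 26), (nat_lit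 379), (nat_lit 88)]⟩]))))))) (BT.node (nat_lit 432) (BT.node (nat_lit 424) (BT.node (nat_lit 420) (BT.node (nat_lit 418) (BT.node (nat_lit 417) (BT.leaf (.emul [(nat_lit 224), (nat_lit 356)])) (BT.leaf (.rel (nat_lit 343) (nat_lit 0) [(nat_lit 107), (nat_lit 227), (nat_lit 116)] [⟨(nat_lit 375), [(nat_lit 250), (nat_lit 416)], [(nat_lit 107), (nat_lit 310), (nat_lit 261)]⟩]))) (BT.node (nat_lit 419) (BT.leaf (.inv (nat_lit 417))) (BT.leaf (.rel (nat_lit 312) (nat_lit 0) [(nat_lit 77), (nat_lit 277), (nat_lit 386)] [⟨(nat_lit 353), [(nat_lit 349), (nat_lit 356)], [(nat_lit 223), (nat_lit 48), (nat_lit 305)]⟩])))) (BT.node (nat_lit 422) (BT.node (nat_lit 421) (BT.leaf (.inv (nat_lit 419))) (BT.leaf (.nmul (nat_lit 188) [(nat_lit 4)]))) (BT.node (nat_lit 423) (BT.leaf (.rel (nat_lit 265) (nat_lit 1) [(nat_lit 0), (nat_lit 326), (nat_lit 244)] [⟨(nat_lit 392), [(nat_lit 366), (nat_lit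 357)], [(nat_lit 222), (nat_lit 255), (nat_lit 421)]⟩])) (BT.leaf (.inv (nat_lit 422)))))) (BT.node (nat_lit 428) (BT.node (nat_lit 426) (BT.node (nat_lit 425) (BT.leaf (.pt0)) (BT.leaf (.pt (nat_lit 424) (nat_lit 1)))) (BT.node (nat_lit 427) (BT.leaf (.pt (nat_lit 424) (nat_lit 5))) (BT.leaf (.pt (nat_lit 425) (nat_lit 7))))) (BT.node (nat_lit 430) (BT.node (nat_lit 429) (BT.leaf (.pt (nat_lit 424) (nat_lit 13))) (BT.leaf (.cov [] [⟨(nat_lit 6), (nat_lit 424), []⟩, ⟨(nat_lit 28), (nat_lit 425), []⟩, ⟨(nat_lit 29), (nat_lit 426), []⟩, ⟨(nat_lit 125), (nat_lit 427), []⟩, ⟨(nat_lit 213), (nat_lit 428), []⟩]))) (BT.node (nat_lit 431) (BT.leaf (.pt (nat_lit 424) (nat_lit 14))) (BT.leaf (.pt (nat_lit 430) (nat_lit 11))))))) (BT.node (nat_lit 440) (BT.node (nat_lit 436) (BT.node (nat_lit 434) (BT.node (nat_lit 433) (BT.leaf (.pt (nat_lit 431) (nat_lit 1))) (BT.leaf (.pt (nat_lit 432)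 (nat_lit 13)))) (BT.node (nat_lit 435) (BT.leaf (.pt (nat_lit 433) (nat_lit 9))) (BT.leaf (.pt (nat_lit 434) (nat_lit 3))))) (BT.node (nat_lit 438) (BT.node (nat_lit 437) (BT.leaf (.pt (nat_lit 435) (nat_lit 17))) (BT.leaf (.pt (nat_lit 436) (nat_lit 7)))) (BT.node (nat_lit 439) (BT.leaf (.pt (nat_lit 426) (nat_lit 1))) (BT.leaf (.nmul (nat_lit 208) [(nat_lit 1)]))))) (BT.node (nat_lit 444) (BT.node (nat_lit 442) (BT.node (nat_lit 441) (BT.leaf (.nmul (nat_lit 439) [(nat_lit 0)])) (BT.leaf (.nmul (nat_lit 440) [(nat_lit 2)]))) (BT.node (nat_lit 443) (BT.leaf (.pt (nat_lit 424) (nat_lit 7))) (BT.leaf (.pt (nat_lit 442) (nat_lit 3))))) (BT.node (nat_lit 446) (BT.node (nat_lit 445) (BT.leaf (.pt (nat_lit 443) (nat_lit 11))) (BT.leaf (.pt (nat_lit 444) (nat_lit 13)))) (BT.node (nat_lit 447) (BT.leaf (.pt (nat_lit 445) (nat_lit 9))) (BT.leaf (.pt (nat_lit 446) (nat_lit 7)))))))))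
noncomputable def cF448 : BT Fc := (BT.node (nat_lit 480) (BT.node (nat_lit 464) (BT.node (nat_lit 456) (BT.node (nat_lit 452) (BT.node (nat_lit 450) (BT.node (nat_lit 449) (BT.leaf ⟨(nat_lit 4), (nat_lit 4777), (nat_lit 0), z552, (nat_lit 0), (nat_lit 0)⟩) (BT.leaf ⟨(nat_lit 4), (nat_lit 22), (nat_lit 0), z553, (nat_lit 0), (nat_lit 0)⟩)) (BT.node (nat_lit 451) (BT.leaf ⟨(nat_lit 4), (nat_lit 89), (nat_lit 0), z554, (nat_lit 0), (nat_lit 0)⟩) (BT.leaf ⟨(nat_lit 4), (nat_lit 284), (nat_lit 0), z555, (nat_lit 0), (nat_lit 0)⟩))) (BT.node (nat_lit 454) (BT.node (nat_lit 453) (BT.leaf ⟨(nat_lit 4), (nat_lit 873), (nat_lit 0), z556, (nat_lit 0), (nat_lit 0)⟩) (BT.leaf ⟨(nat_lit 4), (nat_lit 2418), (nat_lit 0), z557, (nat_lit 0), (nat_lit 0)⟩)) (BT.node (nat_lit 455) (BT.leaf ⟨(nat_lit 4), (nat_lit 5765), (nat_lit 0), z558, (nat_lit 0), (nat_lit 0)⟩) (BT.leaf ⟨(nat_lit 4), (nat_lit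 11845), (nat_lit 0), z559, (nat_lit 0), (nat_lit 0)⟩)))) (BT.node (nat_lit 460) (BT.node (nat_lit 458) (BT.node (nat_lit 457) (BT.leaf ⟨(nat_lit 4), (nat_lit 88), (nat_lit 0), z560, (nat_lit 0), (nat_lit 0)⟩) (BT.leaf ⟨(nat_lit 4), (nat_lit 280), (nat_lit 0), z561, (nat_lit 0), (nat_lit 0)⟩)) (BT.node (nat_lit 459) (BT.leaf ⟨(nat_lit 4), (nat_lit 859), (nat_lit 0), z562, (nat_lit 0), (nat_lit 0)⟩) (BT.leaf ⟨(nat_lit 4), (nat_lit 2373), (nat_lit 0), z563, (nat_lit 0), (nat_lit 0)⟩))) (BT.node (nat_lit 462) (BT.node (nat_lit 461) (BT.leaf ⟨(nat_lit 4), (nat_lit 5656), (nat_lit 0), z564, (nat_lit 0), (nat_lit 0)⟩) (BT.leaf ⟨(nat_lit 4), (nat_lit 11630), (nat_lit 0), z565, (nat_lit 0), (nat_lit 0)⟩)) (BT.node (nat_lit 463) (BT.leaf ⟨(nat_lit 4), (nat_lit 15296), (nat_lit 0), z566, (nat_lit 0), (nat_lit 0)⟩) (BT.leaf ⟨(nat_lit 4), (nat_lit 8), (nat_lit 0), z567, (nat_lit 0), (nat_lit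 0)⟩))))) (BT.node (nat_lit 472) (BT.node (nat_lit 468) (BT.node (nat_lit 466) (BT.node (nat_lit 465) (BT.leaf ⟨(nat_lit 4), (nat_lit 40), (nat_lit 0), z568, (nat_lit 0), (nat_lit 0)⟩) (BT.leaf ⟨(nat_lit 4), (nat_lit 144), (nat_lit 0), z569, (nat_lit 0), (nat_lit 0)⟩)) (BT.node (nat_lit 467) (BT.leaf ⟨(nat_lit 4), (nat_lit 462), (nat_lit 0), z570, (nat_lit 0), (nat_lit 0)⟩) (BT.leaf ⟨(nat_lit 4), (nat_lit 1433), (nat_lit 0), z571, (nat_lit 0), (nat_lit 0)⟩))) (BT.node (nat_lit 470) (BT.node (nat_lit 469) (BT.leaf ⟨(nat_lit 4), (nat_lit 3823), (nat_lit 0), z572, (nat_lit 0), (nat_lit 0)⟩) (BT.leaf ⟨(nat_lit 4), (nat_lit 8907), (nat_lit 0), z573, (nat_lit 0), (nat_lit 0)⟩)) (BT.node (nat_lit 471) (BT.leaf ⟨(nat_lit 4), (nat_lit 12), (nat_lit 0), z574, (nat_lit 0), (nat_lit 0)⟩) (BT.leaf ⟨(nat_lit 4), (nat_lit 55), (nat_lit 0), z575, (nat_lit 0), (nat_lit 0)⟩)))) (BT.node (nat_lit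 476) (BT.node (nat_lit 474) (BT.node (nat_lit 473) (BT.leaf ⟨(nat_lit 4), (nat_lit 182), (nat_lit 0), z576, (nat_lit 0), (nat_lit 0)⟩) (BT.leaf ⟨(nat_lit 4), (nat_lit 569), (nat_lit 0), z577, (nat_lit 0), (nat_lit 0)⟩)) (BT.node (nat_lit 475) (BT.leaf ⟨(nat_lit 4), (nat_lit 1699), (nat_lit 0), z578, (nat_lit 0), (nat_lit 0)⟩) (BT.leaf ⟨(nat_lit 4), (nat_lit 4419), (nat_lit 0), z579, (nat_lit 0), (nat_lit 0)⟩))) (BT.node (nat_lit 478) (BT.node (nat_lit 477) (BT.leaf ⟨(nat_lit 4), (nat_lit 9992), (nat_lit 0), z580, (nat_lit 0), (nat_lit 0)⟩) (BT.leaf ⟨(nat_lit 1), (nat_lit 0), (nat_lit 0), z581, z582, (nat_lit 0)⟩)) (BT.node (nat_lit 479) (BT.leaf ⟨(nat_lit 5), (nat_lit 2), (nat_lit 0), (nat_lit 0x100000000000000000000000000000000000000000000000000000000000000000000000000000000000000000000000000000000000000000000000000000000000000000000000000000000000000000000000000000000000000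0000000000000000000000000000000000000000000000000000000000000000000000000000000000000000000000000000000000000000000000000004000000000000000000000000000000000000000000000000000000000000000000000000000000000000000000000000000000000000000000000000000000000000000000000000000000000000000000000000000000000000000000000000000000000000000000000000000000000000000000000000000000000000000000000000000000000000000000000000000000000000000000000000000000000000000000000000000000000000000000000000000000000000000000000000000000000000000000000000000000000000000000000000000000000000000000000000000000000000000000000000000000000000000000000000000000000000000000000000000000000000000000000000000020000000000000000000000000000000000000000000000000000000000000000000000000000000000000000000000000000000000000000000000000000000000000000000000000000000000000000000000000000000000000000000000000000000000000000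0000000000000000000000000000000000000000000000000000000000000000000000000000000000000000000000000000000000000000000000000000000000000000000000000000000000000000000000000000000000000000000000000000000000000000000000000000000000000000000000000000000000000010000000000000000000000000000000000000000000000000000000000000000000000000000000000000000000000000000000000000000000000000000000000000000000000000000000000000000000000000000000000000000000000000000000000000000000000000000000000000000000000000000000000000000000000000000000800000000000000000000000000000000000000000000000000000000000000000000000000000000000000000000000000000000000000000000000000000000000000000000000000000000000000000000000000000000000000000000000000000000000000000000000000000000000000000000000000000000000000000000000000000000000000000000000000000000000000000000000000000000000000000000000000000000000000000000000000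0000000000000000000000000000000000000000000000000000000000000000000000000000000000000000000000000000000000000000000000000000000000000000000000000000000000000000000000000000000000000000000000000000000000000000000000000000000000000000000000000000000000000000000000000000000000000000000000000000000000000000000000000000000000000000000000000000000000000000000000000000000000000000000000000000000000000000000000000000000000000000000000000000000000000000000000000000000000000000000000000000000000000000000000000000000000000000000000000000000000000000000000000000000000000000000000000000000000000000000000000000000000000000000000000000000000000000000000000000000000000000000002000000000000000000000000000000000000000000000000000000000000000000000000000000000000000000000000000000000000000000000000000000000000000000000000000000000000000000000000000000000000000000000000000000000000000000000000000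000000000000000000000000000000000000000000000000000000000000000000000000000000000000000000000000000000000000000000000000000000000000000000000000000000000000000000000000000000000000000000000000000000000000000000000000000000000000000000000000000000000000000000000000000000000000000000000000000000000000000000000000000000000000000000000000000000000000000000000000000000000000000000000000000000000000000000000000000000000000000000000000000000000000000000000000000000000000000000000000000000000000000000000000000000000000000000000000000000000000000000000000000000000000000000000000000000000000000000000000000000000000000000000000000000000000000000000000000000000000000000000000000000000000000000000000000000000000000000000000000000000000000000000000000000000000000000000000000000000000000000000000000000000000000000000000000000000000000000000000000000000000000000000000000000000000000000000000000000000000000000000000000000000000000000000000000000000000000000000000000000000000401),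 (nat_lit 0), (nat_lit 0)⟩) (BT.leaf ⟨(nat_lit 4), (nat_lit 35), (nat_lit 0), z583, (nat_lit 0), (nat_lit 0)⟩)))))) (BT.node (nat_lit 496) (BT.node (nat_lit 488) (BT.node (nat_lit 484) (BT.node (nat_lit 482) (BT.node (nat_lit 481) (BT.leaf ⟨(nat_lit 1), (nat_lit 0), (nat_lit 0), z584, z585, (nat_lit 0)⟩) (BT.leaf ⟨(nat_lit 4), (nat_lit 6), (nat_lit 0), z586, (nat_lit 0), (nat_lit 0)⟩)) (BT.node (nat_lit 483) (BT.leaf ⟨(nat_lit 4), (nat_lit 30), (nat_lit 0), z587, (nat_lit 0), (nat_lit 0)⟩) (BT.leaf ⟨(nat_lit 4), (nat_lit 118), (nat_lit 0), z588, (nat_lit 0), (nat_lit 0)⟩))) (BT.node (nat_lit 486) (BT.node (nat_lit 485) (BT.leaf ⟨(nat_lit 4), (nat_lit 13), (nat_lit 0), z589, (nat_lit 0), (nat_lit 0)⟩) (BT.leaf ⟨(nat_lit 4), (nat_lit 58), (nat_lit 0), z590, (nat_lit 0), (nat_lit 0)⟩)) (BT.node (nat_lit 487) (BT.leaf ⟨(nat_lit 4), (nat_lit 192), (nat_lit 0), z591, (nat_lit 0), (nat_lit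 0)⟩) (BT.leaf ⟨(nat_lit 4), (nat_lit 602), (nat_lit 0), z592, (nat_lit 0), (nat_lit 0)⟩)))) (BT.node (nat_lit 492) (BT.node (nat_lit 490) (BT.node (nat_lit 489) (BT.leaf ⟨(nat_lit 4), (nat_lit 1775), (nat_lit 0), z593, (nat_lit 0), (nat_lit 0)⟩) (BT.leaf ⟨(nat_lit 4), (nat_lit 4585), (nat_lit 0), z594, (nat_lit 0), (nat_lit 0)⟩)) (BT.node (nat_lit 491) (BT.leaf ⟨(nat_lit 4), (nat_lit 31), (nat_lit 0), z595, (nat_lit 0), (nat_lit 0)⟩) (BT.leaf ⟨(nat_lit 4), (nat_lit 123), (nat_lit 0), z596, (nat_lit 0), (nat_lit 0)⟩))) (BT.node (nat_lit 494) (BT.node (nat_lit 493) (BT.leaf ⟨(nat_lit 4), (nat_lit 402), (nat_lit 0), z597, (nat_lit 0), (nat_lit 0)⟩) (BT.leaf ⟨(nat_lit 4), (nat_lit 1262), (nat_lit 0), z598, (nat_lit 0), (nat_lit 0)⟩)) (BT.node (nat_lit 495) (BT.leaf ⟨(nat_lit 4), (nat_lit 3444), (nat_lit 0), z599, (nat_lit 0), (nat_lit 0)⟩) (BT.leaf ⟨(nat_lit 4), (nat_lit 8269), (nat_lit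 0), z600, (nat_lit 0), (nat_lit 0)⟩))))) (BT.node (nat_lit 504) (BT.node (nat_lit 500) (BT.node (nat_lit 498) (BT.node (nat_lit 497) (BT.leaf ⟨(nat_lit 4), (nat_lit 279), (nat_lit 0), z601, (nat_lit 0), (nat_lit 0)⟩) (BT.leaf ⟨(nat_lit 4), (nat_lit 854), (nat_lit 0), z602, (nat_lit 0), (nat_lit 0)⟩)) (BT.node (nat_lit 499) (BT.leaf ⟨(nat_lit 4), (nat_lit 2358), (nat_lit 0), z603, (nat_lit 0), (nat_lit 0)⟩) (BT.leaf ⟨(nat_lit 4), (nat_lit 5609), (nat_lit 0), z604, (nat_lit 0), (nat_lit 0)⟩))) (BT.node (nat_lit 502) (BT.node (nat_lit 501) (BT.leaf ⟨(nat_lit 1), (nat_lit 0), (nat_lit 0), z605, z606, (nat_lit 0)⟩) (BT.leaf ⟨(nat_lit 4), (nat_lit 20), (nat_lit 0), z607, (nat_lit 0), (nat_lit 0)⟩)) (BT.node (nat_lit 503) (BT.leaf ⟨(nat_lit 4), (nat_lit 82), (nat_lit 0), z608, (nat_lit 0), (nat_lit 0)⟩) (BT.leaf ⟨(nat_lit 4), (nat_lit 258), (nat_lit 0), z609, (nat_lit 0), (nat_lit 0)⟩))))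 (BT.node (nat_lit 508) (BT.node (nat_lit 506) (BT.node (nat_lit 505) (BT.leaf ⟨(nat_lit 4), (nat_lit 794), (nat_lit 0), z610, (nat_lit 0), (nat_lit 0)⟩) (BT.leaf ⟨(nat_lit 4), (nat_lit 2196), (nat_lit 0), z611, (nat_lit 0), (nat_lit 0)⟩)) (BT.node (nat_lit 507) (BT.leaf ⟨(nat_lit 4), (nat_lit 5157), (nat_lit 0), z612, (nat_lit 0), (nat_lit 0)⟩) (BT.leaf ⟨(nat_lit 4), (nat_lit 10801), (nat_lit 0), z613, (nat_lit 0), (nat_lit 0)⟩))) (BT.node (nat_lit 510) (BT.node (nat_lit 509) (BT.leaf ⟨(nat_lit 1), (nat_lit 0), (nat_lit 0), z614, z615, (nat_lit 0)⟩) (BT.leaf ⟨(nat_lit 1), (nat_lit 0), (nat_lit 0), z616, z617, (nat_lit 0)⟩)) (BT.node (nat_lit 511) (BT.leaf ⟨(nat_lit 1), (nat_lit 0), (nat_lit 0), z618, z619, (nat_lit 0)⟩) (BT.leaf ⟨(nat_lit 4), (nat_lit 25), (nat_lit 0), z620, (nat_lit 0), (nat_lit 0)⟩)))))))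
noncomputable def cP448 : BT Pf := (BT.node (nat_lit 480) (BT.node (nat_lit 464) (BT.node (nat_lit 456) (BT.node (nat_lit 452) (BT.node (nat_lit 450) (BT.node (nat_lit 449) (BT.leaf (.pt (nat_lit 447) (nat_lit 5))) (BT.leaf (.pt (nat_lit 428) (nat_lit 9)))) (BT.node (nat_lit 451) (BT.leaf (.pt (nat_lit 449) (nat_lit 7))) (BT.leaf (.pt (nat_lit 450) (nat_lit 11))))) (BT.node (nat_lit 454) (BT.node (nat_lit 453) (BT.leaf (.pt (nat_lit 451) (nat_lit 3))) (BT.leaf (.pt (nat_lit 452) (nat_lit 7)))) (BT.node (nat_lit 455) (BT.leaf (.pt (nat_lit 453) (nat_lit 5))) (BT.leaf (.pt (nat_lit 454) (nat_lit 9)))))) (BT.node (nat_lit 460) (BT.node (nat_lit 458) (BT.node (nat_lit 457) (BT.leaf (.pt (nat_lit 449) (nat_lit 3))) (BT.leaf (.pt (nat_lit 456) (nat_lit 11)))) (BT.node (nat_lit 459) (BT.leaf (.pt (nat_lit 457) (nat_lit 7))) (BT.leaf (.pt (nat_lit 458) (nat_lit 9))))) (BT.node (nat_lit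 462) (BT.node (nat_lit 461) (BT.leaf (.pt (nat_lit 459) (nat_lit 3))) (BT.leaf (.pt (nat_lit 460) (nat_lit 11)))) (BT.node (nat_lit 463) (BT.leaf (.pt (nat_lit 461) (nat_lit 14))) (BT.leaf (.pt (nat_lit 425) (nat_lit 13))))))) (BT.node (nat_lit 472) (BT.node (nat_lit 468) (BT.node (nat_lit 466) (BT.node (nat_lit 465) (BT.leaf (.pt (nat_lit 463) (nat_lit 11))) (BT.leaf (.pt (nat_lit 464) (nat_lit 1)))) (BT.node (nat_lit 467) (BT.leaf (.pt (nat_lit 465) (nat_lit 17))) (BT.leaf (.pt (nat_lit 466) (nat_lit 13))))) (BT.node (nat_lit 470) (BT.node (nat_lit 469) (BT.leaf (.pt (nat_lit 467) (nat_lit 11))) (BT.leaf (.pt (nat_lit 468) (nat_lit 13)))) (BT.node (nat_lit 471) (BT.leaf (.pt (nat_lit 426) (nat_lit 13))) (BT.leaf (.pt (nat_lit 470) (nat_lit 9)))))) (BT.node (nat_lit 476) (BT.node (nat_lit 474) (BT.node (nat_lit 473) (BT.leaf (.pt (nat_lit 471) (nat_lit 7))) (BT.leaf (.pt (nat_lit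 472) (nat_lit 5)))) (BT.node (nat_lit 475) (BT.leaf (.pt (nat_lit 473) (nat_lit 11))) (BT.leaf (.pt (nat_lit 474) (nat_lit 13))))) (BT.node (nat_lit 478) (BT.node (nat_lit 477) (BT.leaf (.pt (nat_lit 475) (nat_lit 11))) (BT.leaf (.nmul (nat_lit 245) [(nat_lit 2)]))) (BT.node (nat_lit 479) (BT.leaf (.cov [] [⟨(nat_lit 54), (nat_lit 424), []⟩, ⟨(nat_lit 94), (nat_lit 437), [(nat_lit 165), (nat_lit 17)]⟩, ⟨(nat_lit 189), (nat_lit 438), [(nat_lit 161), (nat_lit 441), (nat_lit 62)]⟩, ⟨(nat_lit 233), (nat_lit 448), [(nat_lit 118), (nat_lit 326), (nat_lit 261)]⟩, ⟨(nat_lit 247), (nat_lit 455), [(nat_lit 160), (nat_lit 132), (nat_lit 61)]⟩, ⟨(nat_lit 312), (nat_lit 462), [(nat_lit 140), (nat_lit 207), (nat_lit 204)]⟩, ⟨(nat_lit 407), (nat_lit 469), [(nat_lit 52), (nat_lit 20), (nat_lit 88)]⟩, ⟨(nat_lit 420), (nat_lit 476), [(nat_lit 159), (nat_lit 49), (nat_lit 477)]⟩])) (BT.leaf (.pt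 (nat_lit 427) (nat_lit 9)))))))) (BT.node (nat_lit 496) (BT.node (nat_lit 488) (BT.node (nat_lit 484) (BT.node (nat_lit 482) (BT.node (nat_lit 481) (BT.leaf (.nmul (nat_lit 187) [(nat_lit 3)])) (BT.leaf (.pt (nat_lit 425) (nat_lit 5)))) (BT.node (nat_lit 483) (BT.leaf (.pt (nat_lit 481) (nat_lit 7))) (BT.leaf (.pt (nat_lit 482) (nat_lit 5))))) (BT.node (nat_lit 486) (BT.node (nat_lit 485) (BT.leaf (.pt (nat_lit 426) (nat_lit 14))) (BT.leaf (.pt (nat_lit 484) (nat_lit 11)))) (BT.node (nat_lit 487) (BT.leaf (.pt (nat_lit 485) (nat_lit 13))) (BT.leaf (.pt (nat_lit 486) (nat_lit 9)))))) (BT.node (nat_lit 492) (BT.node (nat_lit 490) (BT.node (nat_lit 489) (BT.leaf (.pt (nat_lit 487) (nat_lit 7))) (BT.leaf (.pt (nat_lit 488) (nat_lit 11)))) (BT.node (nat_lit 491) (BT.leaf (.pt (nat_lit 481) (nat_lit 13))) (BT.leaf (.pt (nat_lit 490) (nat_lit 11))))) (BT.node (nat_lit 494) (BT.node (nat_lit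 493) (BT.leaf (.pt (nat_lit 491) (nat_lit 7))) (BT.leaf (.pt (nat_lit 492) (nat_lit 14)))) (BT.node (nat_lit 495) (BT.leaf (.pt (nat_lit 493) (nat_lit 9))) (BT.leaf (.pt (nat_lit 494) (nat_lit 7))))))) (BT.node (nat_lit 504) (BT.node (nat_lit 500) (BT.node (nat_lit 498) (BT.node (nat_lit 497) (BT.leaf (.pt (nat_lit 456) (nat_lit 7))) (BT.leaf (.pt (nat_lit 496) (nat_lit 5)))) (BT.node (nat_lit 499) (BT.leaf (.pt (nat_lit 497) (nat_lit 9))) (BT.leaf (.pt (nat_lit 498) (nat_lit 14))))) (BT.node (nat_lit 502) (BT.node (nat_lit 501) (BT.leaf (.nmul (nat_lit 297) [(nat_lit 3)])) (BT.leaf (.pt (nat_lit 442) (nat_lit 14)))) (BT.node (nat_lit 503) (BT.leaf (.pt (nat_lit 501) (nat_lit 9))) (BT.leaf (.pt (nat_lit 502) (nat_lit 7)))))) (BT.node (nat_lit 508) (BT.node (nat_lit 506) (BT.node (nat_lit 505) (BT.leaf (.pt (nat_lit 503) (nat_lit 11))) (BT.leaf (.pt (nat_lit 504) (nat_lit 14))))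 (BT.node (nat_lit 507) (BT.leaf (.pt (nat_lit 505) (nat_lit 11))) (BT.leaf (.pt (nat_lit 506) (nat_lit 9))))) (BT.node (nat_lit 510) (BT.node (nat_lit 509) (BT.leaf (.nmul (nat_lit 152) [(nat_lit 0)])) (BT.leaf (.nmul (nat_lit 508) [(nat_lit 1)]))) (BT.node (nat_lit 511) (BT.leaf (.nmul (nat_lit 509) [(nat_lit 0)])) (BT.leaf (.pt (nat_lit 430) (nat_lit 9)))))))))
noncomputable def cF512 : BT Fc := (BT.node (nat_lit 544) (BT.node (nat_lit 528) (BT.node (nat_lit 520) (BT.node (nat_lit 516) (BT.node (nat_lit 514) (BT.node (nat_lit 513) (BT.leaf ⟨(nat_lit 4), (nat_lit 106), (nat_lit 0), z621, (nat_lit 0), (nat_lit 0)⟩) (BT.leaf ⟨(nat_lit 4), (nat_lit 354), (nat_lit 0), z622, (nat_lit 0), (nat_lit 0)⟩)) (BT.node (nat_lit 515) (BT.leaf ⟨(nat_lit 4), (nat_lit 1125), (nat_lit 0), z623, (nat_lit 0), (nat_lit 0)⟩) (BT.leaf ⟨(nat_lit 4), (nat_lit 3109), (nat_lit 0), z624, (nat_lit 0), (nat_lit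 0)⟩))) (BT.node (nat_lit 518) (BT.node (nat_lit 517) (BT.leaf ⟨(nat_lit 4), (nat_lit 7562), (nat_lit 0), z625, (nat_lit 0), (nat_lit 0)⟩) (BT.leaf ⟨(nat_lit 4), (nat_lit 13911), (nat_lit 0), z626, (nat_lit 0), (nat_lit 0)⟩)) (BT.node (nat_lit 519) (BT.leaf ⟨(nat_lit 4), (nat_lit 21), (nat_lit 0), z627, (nat_lit 0), (nat_lit 0)⟩) (BT.leaf ⟨(nat_lit 4), (nat_lit 86), (nat_lit 0), z628, (nat_lit 0), (nat_lit 0)⟩)))) (BT.node (nat_lit 524) (BT.node (nat_lit 522) (BT.node (nat_lit 521) (BT.leaf ⟨(nat_lit 4), (nat_lit 275), (nat_lit 0), z629, (nat_lit 0), (nat_lit 0)⟩) (BT.leaf ⟨(nat_lit 4), (nat_lit 844), (nat_lit 0), z630, (nat_lit 0), (nat_lit 0)⟩)) (BT.node (nat_lit 523) (BT.leaf ⟨(nat_lit 4), (nat_lit 2339), (nat_lit 0), z631, (nat_lit 0), (nat_lit 0)⟩) (BT.leaf ⟨(nat_lit 4), (nat_lit 5569), (nat_lit 0), z632, (nat_lit 0), (nat_lit 0)⟩))) (BT.node (nat_lit 526) (BT.node (nat_lit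 525) (BT.leaf ⟨(nat_lit 4), (nat_lit 23), (nat_lit 0), z633, (nat_lit 0), (nat_lit 0)⟩) (BT.leaf ⟨(nat_lit 4), (nat_lit 96), (nat_lit 0), z634, (nat_lit 0), (nat_lit 0)⟩)) (BT.node (nat_lit 527) (BT.leaf ⟨(nat_lit 4), (nat_lit 313), (nat_lit 0), z635, (nat_lit 0), (nat_lit 0)⟩) (BT.leaf ⟨(nat_lit 4), (nat_lit 981), (nat_lit 0), z636, (nat_lit 0), (nat_lit 0)⟩))))) (BT.node (nat_lit 536) (BT.node (nat_lit 532) (BT.node (nat_lit 530) (BT.node (nat_lit 529) (BT.leaf ⟨(nat_lit 4), (nat_lit 2730), (nat_lit 0), z637, (nat_lit 0), (nat_lit 0)⟩) (BT.leaf ⟨(nat_lit 4), (nat_lit 6658), (nat_lit 0), z638, (nat_lit 0), (nat_lit 0)⟩)) (BT.node (nat_lit 531) (BT.leaf ⟨(nat_lit 1), (nat_lit 0), (nat_lit 0), z639, z640, (nat_lit 0)⟩) (BT.leaf ⟨(nat_lit 4), (nat_lit 97), (nat_lit 0), z641, (nat_lit 0), (nat_lit 0)⟩))) (BT.node (nat_lit 534) (BT.node (nat_lit 533) (BT.leaf ⟨(nat_lit 4), (nat_lit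 317), (nat_lit 0), z642, (nat_lit 0), (nat_lit 0)⟩) (BT.leaf ⟨(nat_lit 4), (nat_lit 996), (nat_lit 0), z643, (nat_lit 0), (nat_lit 0)⟩)) (BT.node (nat_lit 535) (BT.leaf ⟨(nat_lit 4), (nat_lit 2784), (nat_lit 0), z644, (nat_lit 0), (nat_lit 0)⟩) (BT.leaf ⟨(nat_lit 4), (nat_lit 6805), (nat_lit 0), z645, (nat_lit 0), (nat_lit 0)⟩)))) (BT.node (nat_lit 540) (BT.node (nat_lit 538) (BT.node (nat_lit 537) (BT.leaf ⟨(nat_lit 4), (nat_lit 282), (nat_lit 0), z646, (nat_lit 0), (nat_lit 0)⟩) (BT.leaf ⟨(nat_lit 4), (nat_lit 867), (nat_lit 0), z647, (nat_lit 0), (nat_lit 0)⟩)) (BT.node (nat_lit 539) (BT.leaf ⟨(nat_lit 4), (nat_lit 2397), (nat_lit 0), z648, (nat_lit 0), (nat_lit 0)⟩) (BT.leaf ⟨(nat_lit 4), (nat_lit 5730), (nat_lit 0), z649, (nat_lit 0), (nat_lit 0)⟩))) (BT.node (nat_lit 542) (BT.node (nat_lit 541) (BT.leaf ⟨(nat_lit 4), (nat_lit 11780), (nat_lit 0), z650, (nat_lit 0), (nat_lit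 0)⟩) (BT.leaf ⟨(nat_lit 1), (nat_lit 0), (nat_lit 0), z651, z652, (nat_lit 0)⟩)) (BT.node (nat_lit 543) (BT.leaf ⟨(nat_lit 4), (nat_lit 39), (nat_lit 0), z653, (nat_lit 0), (nat_lit 0)⟩) (BT.leaf ⟨(nat_lit 4), (nat_lit 141), (nat_lit 0), z654, (nat_lit 0), (nat_lit 0)⟩)))))) (BT.node (nat_lit 560) (BT.node (nat_lit 552) (BT.node (nat_lit 548) (BT.node (nat_lit 546) (BT.node (nat_lit 545) (BT.leaf ⟨(nat_lit 4), (nat_lit 449), (nat_lit 0), z655, (nat_lit 0), (nat_lit 0)⟩) (BT.leaf ⟨(nat_lit 4), (nat_lit 1386), (nat_lit 0), z656, (nat_lit 0), (nat_lit 0)⟩)) (BT.node (nat_lit 547) (BT.leaf ⟨(nat_lit 4), (nat_lit 3703), (nat_lit 0), z657, (nat_lit 0), (nat_lit 0)⟩) (BT.leaf ⟨(nat_lit 1), (nat_lit 0), (nat_lit 0), z658, z659, (nat_lit 0)⟩))) (BT.node (nat_lit 550) (BT.node (nat_lit 549) (BT.leaf ⟨(nat_lit 1), (nat_lit 0), (nat_lit 0), z660, z661, (nat_lit 0)⟩) (BT.leaf ⟨(nat_lit 4),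 (nat_lit 146), (nat_lit 0), z662, (nat_lit 0), (nat_lit 0)⟩)) (BT.node (nat_lit 551) (BT.leaf ⟨(nat_lit 4), (nat_lit 470), (nat_lit 0), z663, (nat_lit 0), (nat_lit 0)⟩) (BT.leaf ⟨(nat_lit 4), (nat_lit 1457), (nat_lit 0), z664, (nat_lit 0), (nat_lit 0)⟩)))) (BT.node (nat_lit 556) (BT.node (nat_lit 554) (BT.node (nat_lit 553) (BT.leaf ⟨(nat_lit 4), (nat_lit 3884), (nat_lit 0), z665, (nat_lit 0), (nat_lit 0)⟩) (BT.leaf ⟨(nat_lit 4), (nat_lit 9047), (nat_lit 0), z666, (nat_lit 0), (nat_lit 0)⟩)) (BT.node (nat_lit 555) (BT.leaf ⟨(nat_lit 4), (nat_lit 14715), (nat_lit 0), z667, (nat_lit 0), (nat_lit 0)⟩) (BT.leaf ⟨(nat_lit 1), (nat_lit 0), (nat_lit 0), z668, z40, (nat_lit 0)⟩))) (BT.node (nat_lit 558) (BT.node (nat_lit 557) (BT.leaf ⟨(nat_lit 4), (nat_lit 95), (nat_lit 0), z669, (nat_lit 0), (nat_lit 0)⟩) (BT.leaf ⟨(nat_lit 4), (nat_lit 305), (nat_lit 0), z670, (nat_lit 0), (nat_lit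 0)⟩)) (BT.node (nat_lit 559) (BT.leaf ⟨(nat_lit 4), (nat_lit 950), (nat_lit 0), z671, (nat_lit 0), (nat_lit 0)⟩) (BT.leaf ⟨(nat_lit 4), (nat_lit 2644), (nat_lit 0), z672, (nat_lit 0), (nat_lit 0)⟩))))) (BT.node (nat_lit 568) (BT.node (nat_lit 564) (BT.node (nat_lit 562) (BT.node (nat_lit 561) (BT.leaf ⟨(nat_lit 4), (nat_lit 6424), (nat_lit 0), z673, (nat_lit 0), (nat_lit 0)⟩) (BT.leaf ⟨(nat_lit 4), (nat_lit 12803), (nat_lit 0), z674, (nat_lit 0), (nat_lit 0)⟩)) (BT.node (nat_lit 563) (BT.leaf ⟨(nat_lit 5), (nat_lit 3), (nat_lit 0), (nat_lit 0x800000000000000000000000000000000000000000000000000000000000000000000000000000000000000000000000000000000000000000000000000000000000000000000000000000000000000000000000000000000000000000000000000000000800000000000000000000000000000000000000000000000000000000000000000000000000000000000000000000000000000000000000000000000000000000000000000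0000000000000000000000000000000000000000000000000000000000000000000000000000000000000000000000000000000000000000000000000000000000000000000800000000000000000000000000000000000000000000000000000000000000000000000000000000000000000000000000000000000000000000000000000000000000000000000000000000000000000000000000000000000000000000000000000000000000000000000000000000000000000000000000000000000000100000000000000000000000000000000000000000000000000000000000000000000000000000000000000000000000000000000000000000000000000000000000000000000000000000000000000000000000000000000000000000000000000000000000000000000000000000000000000000000000000002000000000000000000000000000000000000000000000000000000000000000000000000000000000000000000000000000000000000000000000000000000000000000000000000000000000000000000000000000000000000000000000000000000000000000000000000000000000000000000000000000000000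0000000000000000000000000000000000000000000000000000000000000000000000000000000000000000000000000000000000000000000000000000000000000000000000000000000000000000000000000000000000000000000000000000000000000000000000000000000000000000000000000000000000000000000000000000000000000000000000000000000000000000000000000000000000000000000000000000000000000000000000000000000000000000000000020000000000000000000000000000000000000000000000000000000000000000000000000000000000000000000000000000000000000000000000000000010000000000000000000000000000000000000000000000000000000000000000000000000000000000000000000000000000000000000000000000000000000000000000000000000000000000000000000000000000000000000000000000000000000000000000000000000000000000000000000000020000000000000000000000000000000000004000000000000000000000000000000000000000000000000000000000000000000000000000000000000000000000000000000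0000000000000000000000000000000000000000000000000000000000000000000000000000000000000000000000000000000000000000000000000000000000000000000000000000000000000002000000000200000000000000000000000000000000000000000000000000000000000000000000000000000000000000000000000000000000000000000000000000000000000000000000000000000000000000000000000000000000000000000000000000000000000000000000000000000000000000000000000000000200000000000000000000000000000000000000000000000000000000000000000000000000000000000000000000000000000000000000000000000000000000000000000000000000000000000000000000000000000000000000000000000000000000000000000000000000008000000000000000000000000000000000000000000000000000000000000000000000000000000000000000000000000000000000000000000000000000000000000000000000000000000000000000000000000000000000000000000000000000000000000000000000000000000000000000000000000000000000000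0000000000000000000000000000000000000000000000000000000000000000000000000000000000000000000000000000000000000000000000000000000000000000000000000000000000000000000000000000000000000000000000000000000000000000000000000000000000000000000000000000000000000000000000000000000000000000000000000000000000000000000000000000000000000000000000000000000000000000000000000000000000000000000000000000000000000000000000000000000000000000000000000000000000000000000000000000000000000000000000000000000000000000000000000000000000000000000000000000000000000000000000000000000000000000000000000000000000000000000000000000000000000000000000000000000000000000000400000000000000000000800000001), (nat_lit 0), (nat_lit 0)⟩) (BT.leaf ⟨(nat_lit 4), (nat_lit 147), (nat_lit 0), z675, (nat_lit 0), (nat_lit 0)⟩))) (BT.node (nat_lit 566) (BT.node (nat_lit 565) (BT.leaf ⟨(nat_lit 4), (nat_lit 476), (nat_lit 0), z676,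 (nat_lit 0), (nat_lit 0)⟩) (BT.leaf ⟨(nat_lit 4), (nat_lit 1485), (nat_lit 0), z677, (nat_lit 0), (nat_lit 0)⟩)) (BT.node (nat_lit 567) (BT.leaf ⟨(nat_lit 4), (nat_lit 3961), (nat_lit 0), z678, (nat_lit 0), (nat_lit 0)⟩) (BT.leaf ⟨(nat_lit 4), (nat_lit 145), (nat_lit 0), z679, (nat_lit 0), (nat_lit 0)⟩)))) (BT.node (nat_lit 572) (BT.node (nat_lit 570) (BT.node (nat_lit 569) (BT.leaf ⟨(nat_lit 4), (nat_lit 466), (nat_lit 0), z680, (nat_lit 0), (nat_lit 0)⟩) (BT.leaf ⟨(nat_lit 4), (nat_lit 1451), (nat_lit 0), z681, (nat_lit 0), (nat_lit 0)⟩)) (BT.node (nat_lit 571) (BT.leaf ⟨(nat_lit 4), (nat_lit 3866), (nat_lit 0), z682, (nat_lit 0), (nat_lit 0)⟩) (BT.leaf ⟨(nat_lit 4), (nat_lit 24), (nat_lit 0), z683, (nat_lit 0), (nat_lit 0)⟩))) (BT.node (nat_lit 574) (BT.node (nat_lit 573) (BT.leaf ⟨(nat_lit 4), (nat_lit 101), (nat_lit 0), z684, (nat_lit 0), (nat_lit 0)⟩) (BT.leaf ⟨(nat_lit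 4), (nat_lit 330), (nat_lit 0), z685, (nat_lit 0), (nat_lit 0)⟩)) (BT.node (nat_lit 575) (BT.leaf ⟨(nat_lit 4), (nat_lit 1044), (nat_lit 0), z686, (nat_lit 0), (nat_lit 0)⟩) (BT.leaf ⟨(nat_lit 4), (nat_lit 2890), (nat_lit 0), z687, (nat_lit 0), (nat_lit 0)⟩)))))))
noncomputable def cP512 : BT Pf := (BT.node (nat_lit 544) (BT.node (nat_lit 528) (BT.node (nat_lit 520) (BT.node (nat_lit 516) (BT.node (nat_lit 514) (BT.node (nat_lit 513) (BT.leaf (.pt (nat_lit 511) (nat_lit 11))) (BT.leaf (.pt (nat_lit 512) (nat_lit 13)))) (BT.node (nat_lit 515) (BT.leaf (.pt (nat_lit 513) (nat_lit 11))) (BT.leaf (.pt (nat_lit 514) (nat_lit 7))))) (BT.node (nat_lit 518) (BT.node (nat_lit 517) (BT.leaf (.pt (nat_lit 515) (nat_lit 5))) (BT.leaf (.pt (nat_lit 516) (nat_lit 1)))) (BT.node (nat_lit 519) (BT.leaf (.pt (nat_lit 428) (nat_lit 3))) (BT.leaf (.pt (nat_lit 518) (nat_lit 11)))))) (BT.node (nat_lit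 524) (BT.node (nat_lit 522) (BT.node (nat_lit 521) (BT.leaf (.pt (nat_lit 519) (nat_lit 14))) (BT.leaf (.pt (nat_lit 520) (nat_lit 9)))) (BT.node (nat_lit 523) (BT.leaf (.pt (nat_lit 521) (nat_lit 14))) (BT.leaf (.pt (nat_lit 522) (nat_lit 11))))) (BT.node (nat_lit 526) (BT.node (nat_lit 525) (BT.leaf (.pt (nat_lit 428) (nat_lit 11))) (BT.leaf (.pt (nat_lit 524) (nat_lit 9)))) (BT.node (nat_lit 527) (BT.leaf (.pt (nat_lit 525) (nat_lit 7))) (BT.leaf (.pt (nat_lit 526) (nat_lit 11))))))) (BT.node (nat_lit 536) (BT.node (nat_lit 532) (BT.node (nat_lit 530) (BT.node (nat_lit 529) (BT.leaf (.pt (nat_lit 527) (nat_lit 7))) (BT.leaf (.pt (nat_lit 528) (nat_lit 1)))) (BT.node (nat_lit 531) (BT.leaf (.nmul (nat_lit 333) [(nat_lit 1)])) (BT.leaf (.pt (nat_lit 524) (nat_lit 13))))) (BT.node (nat_lit 534) (BT.node (nat_lit 533) (BT.leaf (.pt (nat_lit 531) (nat_lit 9))) (BT.leaf (.pt (nat_lit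 532) (nat_lit 3)))) (BT.node (nat_lit 535) (BT.leaf (.pt (nat_lit 533) (nat_lit 17))) (BT.leaf (.pt (nat_lit 534) (nat_lit 14)))))) (BT.node (nat_lit 540) (BT.node (nat_lit 538) (BT.node (nat_lit 537) (BT.leaf (.pt (nat_lit 450) (nat_lit 5))) (BT.leaf (.pt (nat_lit 536) (nat_lit 11)))) (BT.node (nat_lit 539) (BT.leaf (.pt (nat_lit 537) (nat_lit 13))) (BT.leaf (.pt (nat_lit 538) (nat_lit 11))))) (BT.node (nat_lit 542) (BT.node (nat_lit 541) (BT.leaf (.pt (nat_lit 539) (nat_lit 1))) (BT.leaf (.nmul (nat_lit 500) [(nat_lit 2)]))) (BT.node (nat_lit 543) (BT.leaf (.pt (nat_lit 463) (nat_lit 9))) (BT.leaf (.pt (nat_lit 542) (nat_lit 11)))))))) (BT.node (nat_lit 560) (BT.node (nat_lit 552) (BT.node (nat_lit 548) (BT.node (nat_lit 546) (BT.node (nat_lit 545) (BT.leaf (.pt (nat_lit 543) (nat_lit 1))) (BT.leaf (.pt (nat_lit 544) (nat_lit 13)))) (BT.node (nat_lit 547) (BT.leaf (.pt (nat_lit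 545) (nat_lit 11))) (BT.leaf (.nmul (nat_lit 408) [(nat_lit 1)])))) (BT.node (nat_lit 550) (BT.node (nat_lit 549) (BT.leaf (.nmul (nat_lit 547) [(nat_lit 0)])) (BT.leaf (.pt (nat_lit 464) (nat_lit 9)))) (BT.node (nat_lit 551) (BT.leaf (.pt (nat_lit 549) (nat_lit 1))) (BT.leaf (.pt (nat_lit 550) (nat_lit 7)))))) (BT.node (nat_lit 556) (BT.node (nat_lit 554) (BT.node (nat_lit 553) (BT.leaf (.pt (nat_lit 551) (nat_lit 13))) (BT.leaf (.pt (nat_lit 552) (nat_lit 9)))) (BT.node (nat_lit 555) (BT.leaf (.pt (nat_lit 553) (nat_lit 13))) (BT.leaf (.nmul (nat_lit 299) [(nat_lit 2)])))) (BT.node (nat_lit 558) (BT.node (nat_lit 557) (BT.leaf (.pt (nat_lit 524) (nat_lit 7))) (BT.leaf (.pt (nat_lit 556) (nat_lit 3)))) (BT.node (nat_lit 559) (BT.leaf (.pt (nat_lit 557) (nat_lit 9))) (BT.leaf (.pt (nat_lit 558) (nat_lit 17))))))) (BT.node (nat_lit 568) (BT.node (nat_lit 564) (BT.node (nat_lit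 562) (BT.node (nat_lit 561) (BT.leaf (.pt (nat_lit 559) (nat_lit 7))) (BT.leaf (.pt (nat_lit 560) (nat_lit 9)))) (BT.node (nat_lit 563) (BT.leaf (.cov [] [⟨(nat_lit 142), (nat_lit 424), []⟩, ⟨(nat_lit 181), (nat_lit 479), [(nat_lit 52), (nat_lit 394), (nat_lit 480)]⟩, ⟨(nat_lit 202), (nat_lit 483), [(nat_lit 106), (nat_lit 394), (nat_lit 245)]⟩, ⟨(nat_lit 212), (nat_lit 489), [(nat_lit 52), (nat_lit 401), (nat_lit 62)]⟩, ⟨(nat_lit 238), (nat_lit 495), [(nat_lit 219), (nat_lit 155), (nat_lit 13)]⟩, ⟨(nat_lit 265), (nat_lit 499), [(nat_lit 140), (nat_lit 313), (nat_lit 500)]⟩, ⟨(nat_lit 354), (nat_lit 507), [(nat_lit 219), (nat_lit 510), (nat_lit 305)]⟩, ⟨(nat_lit 371), (nat_lit 517), [(nat_lit 159), (nat_lit 136), (nat_lit 386)]⟩, ⟨(nat_lit 391), (nat_lit 523), [(nat_lit 105), (nat_lit 182), (nat_lit 116)]⟩, ⟨(nat_lit 399), (nat_lit 529), [(nat_lit 161), (nat_lit 530), (nat_lit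 299)]⟩, ⟨(nat_lit 406), (nat_lit 535), [(nat_lit 231), (nat_lit 206), (nat_lit 92)]⟩, ⟨(nat_lit 414), (nat_lit 540), [(nat_lit 118), (nat_lit 151), (nat_lit 541)]⟩, ⟨(nat_lit 415), (nat_lit 546), [(nat_lit 282), (nat_lit 548), (nat_lit 352)]⟩, ⟨(nat_lit 419), (nat_lit 554), [(nat_lit 140), (nat_lit 360), (nat_lit 555)]⟩, ⟨(nat_lit 422), (nat_lit 561), [(nat_lit 161), (nat_lit 410), (nat_lit 352)]⟩, ⟨(nat_lit 423), (nat_lit 436), [(nat_lit 119), (nat_lit 158), (nat_lit 541)]⟩])) (BT.leaf (.pt (nat_lit 464) (nat_lit 13))))) (BT.node (nat_lit 566) (BT.node (nat_lit 565) (BT.leaf (.pt (nat_lit 563) (nat_lit 11))) (BT.leaf (.pt (nat_lit 564) (nat_lit 17)))) (BT.node (nat_lit 567) (BT.leaf (.pt (nat_lit 565) (nat_lit 14))) (BT.leaf (.pt (nat_lit 464) (nat_lit 7)))))) (BT.node (nat_lit 572) (BT.node (nat_lit 570) (BT.node (nat_lit 569) (BT.leaf (.pt (nat_lit 567) (nat_lit 11))) (BT.leaf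 (.pt (nat_lit 568) (nat_lit 14)))) (BT.node (nat_lit 571) (BT.leaf (.pt (nat_lit 569) (nat_lit 17))) (BT.leaf (.pt (nat_lit 430) (nat_lit 3))))) (BT.node (nat_lit 574) (BT.node (nat_lit 573) (BT.leaf (.pt (nat_lit 571) (nat_lit 11))) (BT.leaf (.pt (nat_lit 572) (nat_lit 1)))) (BT.node (nat_lit 575) (BT.leaf (.pt (nat_lit 573) (nat_lit 7))) (BT.leaf (.pt (nat_lit 574) (nat_lit 9)))))))))
noncomputable def cF576 : BT Fc := (BT.node (nat_lit 608) (BT.node (nat_lit 592) (BT.node (nat_lit 584) (BT.node (nat_lit 580) (BT.node (nat_lit 578) (BT.node (nat_lit 577) (BT.leaf ⟨(nat_lit 4), (nat_lit 7011), (nat_lit 0), z688, (nat_lit 0), (nat_lit 0)⟩) (BT.leaf ⟨(nat_lit 4), (nat_lit 13410), (nat_lit 0), z689, (nat_lit 0), (nat_lit 0)⟩)) (BT.node (nat_lit 579) (BT.leaf ⟨(nat_lit 4), (nat_lit 16), (nat_lit 0), z690, (nat_lit 0), (nat_lit 0)⟩) (BT.leaf ⟨(nat_lit 4), (nat_lit 71), (nat_lit 0),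 z691, (nat_lit 0), (nat_lit 0)⟩))) (BT.node (nat_lit 582) (BT.node (nat_lit 581) (BT.leaf ⟨(nat_lit 4), (nat_lit 224), (nat_lit 0), z692, (nat_lit 0), (nat_lit 0)⟩) (BT.leaf ⟨(nat_lit 4), (nat_lit 684), (nat_lit 0), z693, (nat_lit 0), (nat_lit 0)⟩)) (BT.node (nat_lit 583) (BT.leaf ⟨(nat_lit 4), (nat_lit 1955), (nat_lit 0), z694, (nat_lit 0), (nat_lit 0)⟩) (BT.leaf ⟨(nat_lit 1), (nat_lit 0), (nat_lit 0), z695, z696, (nat_lit 0)⟩)))) (BT.node (nat_lit 588) (BT.node (nat_lit 586) (BT.node (nat_lit 585) (BT.leaf ⟨(nat_lit 4), (nat_lit 17), (nat_lit 0), z697, (nat_lit 0), (nat_lit 0)⟩) (BT.leaf ⟨(nat_lit 4), (nat_lit 74), (nat_lit 0), z698, (nat_lit 0), (nat_lit 0)⟩)) (BT.node (nat_lit 587) (BT.leaf ⟨(nat_lit 4), (nat_lit 231), (nat_lit 0), z699, (nat_lit 0), (nat_lit 0)⟩) (BT.leaf ⟨(nat_lit 4), (nat_lit 702), (nat_lit 0), z700, (nat_lit 0), (nat_lit 0)⟩))) (BT.node (nat_lit 590) (BT.node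 (nat_lit 589) (BT.leaf ⟨(nat_lit 4), (nat_lit 1990), (nat_lit 0), z701, (nat_lit 0), (nat_lit 0)⟩) (BT.leaf ⟨(nat_lit 4), (nat_lit 9), (nat_lit 0), z702, (nat_lit 0), (nat_lit 0)⟩)) (BT.node (nat_lit 591) (BT.leaf ⟨(nat_lit 4), (nat_lit 43), (nat_lit 0), z703, (nat_lit 0), (nat_lit 0)⟩) (BT.leaf ⟨(nat_lit 4), (nat_lit 155), (nat_lit 0), z704, (nat_lit 0), (nat_lit 0)⟩))))) (BT.node (nat_lit 600) (BT.node (nat_lit 596) (BT.node (nat_lit 594) (BT.node (nat_lit 593) (BT.leaf ⟨(nat_lit 4), (nat_lit 501), (nat_lit 0), z705, (nat_lit 0), (nat_lit 0)⟩) (BT.leaf ⟨(nat_lit 4), (nat_lit 1547), (nat_lit 0), z706, (nat_lit 0), (nat_lit 0)⟩)) (BT.node (nat_lit 595) (BT.leaf ⟨(nat_lit 4), (nat_lit 4113), (nat_lit 0), z707, (nat_lit 0), (nat_lit 0)⟩) (BT.leaf ⟨(nat_lit 4), (nat_lit 9468), (nat_lit 0), z708, (nat_lit 0), (nat_lit 0)⟩))) (BT.node (nat_lit 598) (BT.node (nat_lit 597) (BT.leaf ⟨(nat_lit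 4), (nat_lit 14891), (nat_lit 0), z709, (nat_lit 0), (nat_lit 0)⟩) (BT.leaf ⟨(nat_lit 1), (nat_lit 0), (nat_lit 0), z710, z711, (nat_lit 0)⟩)) (BT.node (nat_lit 599) (BT.leaf ⟨(nat_lit 4), (nat_lit 308), (nat_lit 0), z712, (nat_lit 0), (nat_lit 0)⟩) (BT.leaf ⟨(nat_lit 4), (nat_lit 966), (nat_lit 0), z713, (nat_lit 0), (nat_lit 0)⟩)))) (BT.node (nat_lit 604) (BT.node (nat_lit 602) (BT.node (nat_lit 601) (BT.leaf ⟨(nat_lit 4), (nat_lit 2686), (nat_lit 0), z714, (nat_lit 0), (nat_lit 0)⟩) (BT.leaf ⟨(nat_lit 4), (nat_lit 968), (nat_lit 0), z715, (nat_lit 0), (nat_lit 0)⟩)) (BT.node (nat_lit 603) (BT.leaf ⟨(nat_lit 4), (nat_lit 115), (nat_lit 0), z716, (nat_lit 0), (nat_lit 0)⟩) (BT.leaf ⟨(nat_lit 4), (nat_lit 389), (nat_lit 0), z717, (nat_lit 0), (nat_lit 0)⟩))) (BT.node (nat_lit 606) (BT.node (nat_lit 605) (BT.leaf ⟨(nat_lit 4), (nat_lit 1233), (nat_lit 0), z718, (nat_lit 0), (nat_lit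 0)⟩) (BT.leaf ⟨(nat_lit 4), (nat_lit 3395), (nat_lit 0), z719, (nat_lit 0), (nat_lit 0)⟩)) (BT.node (nat_lit 607) (BT.leaf ⟨(nat_lit 4), (nat_lit 121), (nat_lit 0), z720, (nat_lit 0), (nat_lit 0)⟩) (BT.leaf ⟨(nat_lit 4), (nat_lit 399), (nat_lit 0), z721, (nat_lit 0), (nat_lit 0)⟩)))))) (BT.node (nat_lit 624) (BT.node (nat_lit 616) (BT.node (nat_lit 612) (BT.node (nat_lit 610) (BT.node (nat_lit 609) (BT.leaf ⟨(nat_lit 4), (nat_lit 1250), (nat_lit 0), z722, (nat_lit 0), (nat_lit 0)⟩) (BT.leaf ⟨(nat_lit 4), (nat_lit 92), (nat_lit 0), z723, (nat_lit 0), (nat_lit 0)⟩)) (BT.node (nat_lit 611) (BT.leaf ⟨(nat_lit 4), (nat_lit 295), (nat_lit 0), z724, (nat_lit 0), (nat_lit 0)⟩) (BT.leaf ⟨(nat_lit 4), (nat_lit 911), (nat_lit 0), z725, (nat_lit 0), (nat_lit 0)⟩))) (BT.node (nat_lit 614) (BT.node (nat_lit 613) (BT.leaf ⟨(nat_lit 4), (nat_lit 2547), (nat_lit 0), z726, (nat_lit 0), (nat_lit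 0)⟩) (BT.leaf ⟨(nat_lit 4), (nat_lit 6191), (nat_lit 0), z727, (nat_lit 0), (nat_lit 0)⟩)) (BT.node (nat_lit 615) (BT.leaf ⟨(nat_lit 4), (nat_lit 12527), (nat_lit 0), z728, (nat_lit 0), (nat_lit 0)⟩) (BT.leaf ⟨(nat_lit 4), (nat_lit 113), (nat_lit 0), z729, (nat_lit 0), (nat_lit 0)⟩)))) (BT.node (nat_lit 620) (BT.node (nat_lit 618) (BT.node (nat_lit 617) (BT.leaf ⟨(nat_lit 4), (nat_lit 383), (nat_lit 0), z730, (nat_lit 0), (nat_lit 0)⟩) (BT.leaf ⟨(nat_lit 4), (nat_lit 1207), (nat_lit 0), z731, (nat_lit 0), (nat_lit 0)⟩)) (BT.node (nat_lit 619) (BT.leaf ⟨(nat_lit 4), (nat_lit 3326), (nat_lit 0), z732, (nat_lit 0), (nat_lit 0)⟩) (BT.leaf ⟨(nat_lit 4), (nat_lit 14), (nat_lit 0), z733, (nat_lit 0), (nat_lit 0)⟩))) (BT.node (nat_lit 622) (BT.node (nat_lit 621) (BT.leaf ⟨(nat_lit 4), (nat_lit 63), (nat_lit 0), z734, (nat_lit 0), (nat_lit 0)⟩) (BT.leaf ⟨(nat_lit 4), (nat_lit 205), (nat_lit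 0), z735, (nat_lit 0), (nat_lit 0)⟩)) (BT.node (nat_lit 623) (BT.leaf ⟨(nat_lit 4), (nat_lit 632), (nat_lit 0), z736, (nat_lit 0), (nat_lit 0)⟩) (BT.leaf ⟨(nat_lit 4), (nat_lit 1833), (nat_lit 0), z737, (nat_lit 0), (nat_lit 0)⟩))))) (BT.node (nat_lit 632) (BT.node (nat_lit 628) (BT.node (nat_lit 626) (BT.node (nat_lit 625) (BT.leaf ⟨(nat_lit 4), (nat_lit 94), (nat_lit 0), z738, (nat_lit 0), (nat_lit 0)⟩) (BT.leaf ⟨(nat_lit 4), (nat_lit 303), (nat_lit 0), z739, (nat_lit 0), (nat_lit 0)⟩)) (BT.node (nat_lit 627) (BT.leaf ⟨(nat_lit 4), (nat_lit 941), (nat_lit 0), z740, (nat_lit 0), (nat_lit 0)⟩) (BT.leaf ⟨(nat_lit 4), (nat_lit 2628), (nat_lit 0), z741, (nat_lit 0), (nat_lit 0)⟩))) (BT.node (nat_lit 630) (BT.node (nat_lit 629) (BT.leaf ⟨(nat_lit 4), (nat_lit 6379), (nat_lit 0), z742, (nat_lit 0), (nat_lit 0)⟩) (BT.leaf ⟨(nat_lit 4), (nat_lit 983), (nat_lit 0), z743, (nat_lit 0),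 (nat_lit 0)⟩)) (BT.node (nat_lit 631) (BT.leaf ⟨(nat_lit 4), (nat_lit 2737), (nat_lit 0), z744, (nat_lit 0), (nat_lit 0)⟩) (BT.leaf ⟨(nat_lit 4), (nat_lit 6684), (nat_lit 0), z745, (nat_lit 0), (nat_lit 0)⟩)))) (BT.node (nat_lit 636) (BT.node (nat_lit 634) (BT.node (nat_lit 633) (BT.leaf ⟨(nat_lit 4), (nat_lit 140), (nat_lit 0), z746, (nat_lit 0), (nat_lit 0)⟩) (BT.leaf ⟨(nat_lit 4), (nat_lit 445), (nat_lit 0), z747, (nat_lit 0), (nat_lit 0)⟩)) (BT.node (nat_lit 635) (BT.leaf ⟨(nat_lit 4), (nat_lit 1376), (nat_lit 0), z748, (nat_lit 0), (nat_lit 0)⟩) (BT.leaf ⟨(nat_lit 4), (nat_lit 3665), (nat_lit 0), z749, (nat_lit 0), (nat_lit 0)⟩))) (BT.node (nat_lit 638) (BT.node (nat_lit 637) (BT.leaf ⟨(nat_lit 4), (nat_lit 148), (nat_lit 0), z750, (nat_lit 0), (nat_lit 0)⟩) (BT.leaf ⟨(nat_lit 4), (nat_lit 478), (nat_lit 0), z751, (nat_lit 0), (nat_lit 0)⟩)) (BT.node (nat_lit 639) (BT.leaf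 ⟨(nat_lit 4), (nat_lit 1489), (nat_lit 0), z752, (nat_lit 0), (nat_lit 0)⟩) (BT.leaf ⟨(nat_lit 4), (nat_lit 3973), (nat_lit 0), z753, (nat_lit 0), (nat_lit 0)⟩)))))))
noncomputable def cP576 : BT Pf := (BT.node (nat_lit 608) (BT.node (nat_lit 592) (BT.node (nat_lit 584) (BT.node (nat_lit 580) (BT.node (nat_lit 578) (BT.node (nat_lit 577) (BT.leaf (.pt (nat_lit 575) (nat_lit 3))) (BT.leaf (.pt (nat_lit 576) (nat_lit 7)))) (BT.node (nat_lit 579) (BT.leaf (.pt (nat_lit 442) (nat_lit 5))) (BT.leaf (.pt (nat_lit 578) (nat_lit 14))))) (BT.node (nat_lit 582) (BT.node (nat_lit 581) (BT.leaf (.pt (nat_lit 579) (nat_lit 11))) (BT.leaf (.pt (nat_lit 580) (nat_lit 7)))) (BT.node (nat_lit 583) (BT.leaf (.pt (nat_lit 581) (nat_lit 13))) (BT.leaf (.nmul (nat_lit 373) [(nat_lit 1)]))))) (BT.node (nat_lit 588) (BT.node (nat_lit 586) (BT.node (nat_lit 585) (BT.leaf (.pt (nat_lit 442) (nat_lit 9)))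 (BT.leaf (.pt (nat_lit 584) (nat_lit 13)))) (BT.node (nat_lit 587) (BT.leaf (.pt (nat_lit 585) (nat_lit 11))) (BT.leaf (.pt (nat_lit 586) (nat_lit 1))))) (BT.node (nat_lit 590) (BT.node (nat_lit 589) (BT.leaf (.pt (nat_lit 587) (nat_lit 14))) (BT.leaf (.pt (nat_lit 425) (nat_lit 14)))) (BT.node (nat_lit 591) (BT.leaf (.pt (nat_lit 589) (nat_lit 9))) (BT.leaf (.pt (nat_lit 590) (nat_lit 11))))))) (BT.node (nat_lit 600) (BT.node (nat_lit 596) (BT.node (nat_lit 594) (BT.node (nat_lit 593) (BT.leaf (.pt (nat_lit 591) (nat_lit 7))) (BT.leaf (.pt (nat_lit 592) (nat_lit 9)))) (BT.node (nat_lit 595) (BT.leaf (.pt (nat_lit 593) (nat_lit 11))) (BT.leaf (.pt (nat_lit 594) (nat_lit 1))))) (BT.node (nat_lit 598) (BT.node (nat_lit 597) (BT.leaf (.pt (nat_lit 595) (nat_lit 13))) (BT.leaf (.nmul (nat_lit 379) [(nat_lit 2)]))) (BT.node (nat_lit 599) (BT.leaf (.pt (nat_lit 556) (nat_lit 11))) (BT.leaf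 (.pt (nat_lit 598) (nat_lit 1)))))) (BT.node (nat_lit 604) (BT.node (nat_lit 602) (BT.node (nat_lit 601) (BT.leaf (.pt (nat_lit 599) (nat_lit 14))) (BT.leaf (.pt (nat_lit 598) (nat_lit 14)))) (BT.node (nat_lit 603) (BT.leaf (.pt (nat_lit 431) (nat_lit 14))) (BT.leaf (.pt (nat_lit 602) (nat_lit 9))))) (BT.node (nat_lit 606) (BT.node (nat_lit 605) (BT.leaf (.pt (nat_lit 603) (nat_lit 7))) (BT.leaf (.pt (nat_lit 604) (nat_lit 5)))) (BT.node (nat_lit 607) (BT.leaf (.pt (nat_lit 482) (nat_lit 13))) (BT.leaf (.pt (nat_lit 606) (nat_lit 11)))))))) (BT.node (nat_lit 624) (BT.node (nat_lit 616) (BT.node (nat_lit 612) (BT.node (nat_lit 610) (BT.node (nat_lit 609) (BT.leaf (.pt (nat_lit 607) (nat_lit 1))) (BT.leaf (.pt (nat_lit 449) (nat_lit 14)))) (BT.node (nat_lit 611) (BT.leaf (.pt (nat_lit 609) (nat_lit 11))) (BT.leaf (.pt (nat_lit 610) (nat_lit 3))))) (BT.node (nat_lit 614) (BT.node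 (nat_lit 613) (BT.leaf (.pt (nat_lit 611) (nat_lit 1))) (BT.leaf (.pt (nat_lit 612) (nat_lit 7)))) (BT.node (nat_lit 615) (BT.leaf (.pt (nat_lit 613) (nat_lit 9))) (BT.leaf (.pt (nat_lit 431) (nat_lit 9)))))) (BT.node (nat_lit 620) (BT.node (nat_lit 618) (BT.node (nat_lit 617) (BT.leaf (.pt (nat_lit 615) (nat_lit 14))) (BT.leaf (.pt (nat_lit 616) (nat_lit 3)))) (BT.node (nat_lit 619) (BT.leaf (.pt (nat_lit 617) (nat_lit 17))) (BT.leaf (.pt (nat_lit 442) (nat_lit 1))))) (BT.node (nat_lit 622) (BT.node (nat_lit 621) (BT.leaf (.pt (nat_lit 619) (nat_lit 13))) (BT.leaf (.pt (nat_lit 620) (nat_lit 9)))) (BT.node (nat_lit 623) (BT.leaf (.pt (nat_lit 621) (nat_lit 11))) (BT.leaf (.pt (nat_lit 622) (nat_lit 1))))))) (BT.node (nat_lit 632) (BT.node (nat_lit 628) (BT.node (nat_lit 626) (BT.node (nat_lit 625) (BT.leaf (.pt (nat_lit 524) (nat_lit 3))) (BT.leaf (.pt (nat_lit 624) (nat_lit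 14)))) (BT.node (nat_lit 627) (BT.leaf (.pt (nat_lit 625) (nat_lit 9))) (BT.leaf (.pt (nat_lit 626) (nat_lit 14))))) (BT.node (nat_lit 630) (BT.node (nat_lit 629) (BT.leaf (.pt (nat_lit 627) (nat_lit 11))) (BT.leaf (.pt (nat_lit 526) (nat_lit 14)))) (BT.node (nat_lit 631) (BT.leaf (.pt (nat_lit 629) (nat_lit 9))) (BT.leaf (.pt (nat_lit 630) (nat_lit 13)))))) (BT.node (nat_lit 636) (BT.node (nat_lit 634) (BT.node (nat_lit 633) (BT.leaf (.pt (nat_lit 542) (nat_lit 7))) (BT.leaf (.pt (nat_lit 632) (nat_lit 9)))) (BT.node (nat_lit 635) (BT.leaf (.pt (nat_lit 633) (nat_lit 14))) (BT.leaf (.pt (nat_lit 634) (nat_lit 9))))) (BT.node (nat_lit 638) (BT.node (nat_lit 637) (BT.leaf (.pt (nat_lit 464) (nat_lit 14))) (BT.leaf (.pt (nat_lit 636) (nat_lit 9)))) (BT.node (nat_lit 639) (BT.leaf (.pt (nat_lit 637) (nat_lit 7))) (BT.leaf (.pt (nat_lit 638) (nat_lit 9)))))))))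
noncomputable def cF640 : BT Fc := (BT.node (nat_lit 672) (BT.node (nat_lit 656) (BT.node (nat_lit 648) (BT.node (nat_lit 644) (BT.node (nat_lit 642) (BT.node (nat_lit 641) (BT.leaf ⟨(nat_lit 4), (nat_lit 9197), (nat_lit 0), z754, (nat_lit 0), (nat_lit 0)⟩) (BT.leaf ⟨(nat_lit 4), (nat_lit 14778), (nat_lit 0), z755, (nat_lit 0), (nat_lit 0)⟩)) (BT.node (nat_lit 643) (BT.leaf ⟨(nat_lit 4), (nat_lit 104), (nat_lit 0), z756, (nat_lit 0), (nat_lit 0)⟩) (BT.leaf ⟨(nat_lit 4), (nat_lit 340), (nat_lit 0), z757, (nat_lit 0), (nat_lit 0)⟩))) (BT.node (nat_lit 646) (BT.node (nat_lit 645) (BT.leaf ⟨(nat_lit 4), (nat_lit 1077), (nat_lit 0), z758, (nat_lit 0), (nat_lit 0)⟩) (BT.leaf ⟨(nat_lit 4), (nat_lit 2955), (nat_lit 0), z759, (nat_lit 0), (nat_lit 0)⟩)) (BT.node (nat_lit 647) (BT.leaf ⟨(nat_lit 4), (nat_lit 7146), (nat_lit 0), z760, (nat_lit 0), (nat_lit 0)⟩) (BT.leaf ⟨(nat_lit 4), (nat_lit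 194), (nat_lit 0), z761, (nat_lit 0), (nat_lit 0)⟩)))) (BT.node (nat_lit 652) (BT.node (nat_lit 650) (BT.node (nat_lit 649) (BT.leaf ⟨(nat_lit 4), (nat_lit 608), (nat_lit 0), z762, (nat_lit 0), (nat_lit 0)⟩) (BT.leaf ⟨(nat_lit 4), (nat_lit 1788), (nat_lit 0), z763, (nat_lit 0), (nat_lit 0)⟩)) (BT.node (nat_lit 651) (BT.leaf ⟨(nat_lit 4), (nat_lit 4613), (nat_lit 0), z764, (nat_lit 0), (nat_lit 0)⟩) (BT.leaf ⟨(nat_lit 4), (nat_lit 10300), (nat_lit 0), z765, (nat_lit 0), (nat_lit 0)⟩))) (BT.node (nat_lit 654) (BT.node (nat_lit 653) (BT.leaf ⟨(nat_lit 4), (nat_lit 446), (nat_lit 0), z766, (nat_lit 0), (nat_lit 0)⟩) (BT.leaf ⟨(nat_lit 4), (nat_lit 1378), (nat_lit 0), z767, (nat_lit 0), (nat_lit 0)⟩)) (BT.node (nat_lit 655) (BT.leaf ⟨(nat_lit 4), (nat_lit 3676), (nat_lit 0), z768, (nat_lit 0), (nat_lit 0)⟩) (BT.leaf ⟨(nat_lit 4), (nat_lit 8598), (nat_lit 0), z769, (nat_lit 0), (nat_lit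 0)⟩))))) (BT.node (nat_lit 664) (BT.node (nat_lit 660) (BT.node (nat_lit 658) (BT.node (nat_lit 657) (BT.leaf ⟨(nat_lit 4), (nat_lit 381), (nat_lit 0), z770, (nat_lit 0), (nat_lit 0)⟩) (BT.leaf ⟨(nat_lit 4), (nat_lit 1200), (nat_lit 0), z771, (nat_lit 0), (nat_lit 0)⟩)) (BT.node (nat_lit 659) (BT.leaf ⟨(nat_lit 4), (nat_lit 3301), (nat_lit 0), z772, (nat_lit 0), (nat_lit 0)⟩) (BT.leaf ⟨(nat_lit 1), (nat_lit 0), (nat_lit 0), z773, z774, (nat_lit 0)⟩))) (BT.node (nat_lit 662) (BT.node (nat_lit 661) (BT.leaf ⟨(nat_lit 4), (nat_lit 37), (nat_lit 0), z775, (nat_lit 0), (nat_lit 0)⟩) (BT.leaf ⟨(nat_lit 4), (nat_lit 136), (nat_lit 0), z776, (nat_lit 0), (nat_lit 0)⟩)) (BT.node (nat_lit 663) (BT.leaf ⟨(nat_lit 4), (nat_lit 435), (nat_lit 0), z777, (nat_lit 0), (nat_lit 0)⟩) (BT.leaf ⟨(nat_lit 4), (nat_lit 1353), (nat_lit 0), z778, (nat_lit 0), (nat_lit 0)⟩)))) (BT.node (nat_lit 668) (BT.node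 (nat_lit 666) (BT.node (nat_lit 665) (BT.leaf ⟨(nat_lit 4), (nat_lit 3613), (nat_lit 0), z779, (nat_lit 0), (nat_lit 0)⟩) (BT.leaf ⟨(nat_lit 4), (nat_lit 8475), (nat_lit 0), z780, (nat_lit 0), (nat_lit 0)⟩)) (BT.node (nat_lit 667) (BT.leaf ⟨(nat_lit 4), (nat_lit 14466), (nat_lit 0), z781, (nat_lit 0), (nat_lit 0)⟩) (BT.leaf ⟨(nat_lit 4), (nat_lit 56), (nat_lit 0), z782, (nat_lit 0), (nat_lit 0)⟩))) (BT.node (nat_lit 670) (BT.node (nat_lit 669) (BT.leaf ⟨(nat_lit 4), (nat_lit 184), (nat_lit 0), z783, (nat_lit 0), (nat_lit 0)⟩) (BT.leaf ⟨(nat_lit 4), (nat_lit 578), (nat_lit 0), z784, (nat_lit 0), (nat_lit 0)⟩)) (BT.node (nat_lit 671) (BT.leaf ⟨(nat_lit 4), (nat_lit 1721), (nat_lit 0), z785, (nat_lit 0), (nat_lit 0)⟩) (BT.leaf ⟨(nat_lit 4), (nat_lit 4466), (nat_lit 0), z786, (nat_lit 0), (nat_lit 0)⟩)))))) (BT.node (nat_lit 688) (BT.node (nat_lit 680) (BT.node (nat_lit 676) (BT.node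 (nat_lit 674) (BT.node (nat_lit 673) (BT.leaf ⟨(nat_lit 4), (nat_lit 10096), (nat_lit 0), z787, (nat_lit 0), (nat_lit 0)⟩) (BT.leaf ⟨(nat_lit 4), (nat_lit 15058), (nat_lit 0), z788, (nat_lit 0), (nat_lit 0)⟩)) (BT.node (nat_lit 675) (BT.leaf ⟨(nat_lit 4), (nat_lit 451), (nat_lit 0), z789, (nat_lit 0), (nat_lit 0)⟩) (BT.leaf ⟨(nat_lit 4), (nat_lit 1396), (nat_lit 0), z790, (nat_lit 0), (nat_lit 0)⟩))) (BT.node (nat_lit 678) (BT.node (nat_lit 677) (BT.leaf ⟨(nat_lit 4), (nat_lit 3742), (nat_lit 0), z791, (nat_lit 0), (nat_lit 0)⟩) (BT.leaf ⟨(nat_lit 4), (nat_lit 353), (nat_lit 0), z792, (nat_lit 0), (nat_lit 0)⟩)) (BT.node (nat_lit 679) (BT.leaf ⟨(nat_lit 4), (nat_lit 1122), (nat_lit 0), z793, (nat_lit 0), (nat_lit 0)⟩) (BT.leaf ⟨(nat_lit 4), (nat_lit 3101), (nat_lit 0), z794, (nat_lit 0), (nat_lit 0)⟩)))) (BT.node (nat_lit 684) (BT.node (nat_lit 682) (BT.node (nat_lit 681) (BT.leaf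 ⟨(nat_lit 4), (nat_lit 2336), (nat_lit 0), z795, (nat_lit 0), (nat_lit 0)⟩) (BT.leaf ⟨(nat_lit 4), (nat_lit 5563), (nat_lit 0), z796, (nat_lit 0), (nat_lit 0)⟩)) (BT.node (nat_lit 683) (BT.leaf ⟨(nat_lit 4), (nat_lit 11476), (nat_lit 0), z797, (nat_lit 0), (nat_lit 0)⟩) (BT.leaf ⟨(nat_lit 4), (nat_lit 93), (nat_lit 0), z798, (nat_lit 0), (nat_lit 0)⟩))) (BT.node (nat_lit 686) (BT.node (nat_lit 685) (BT.leaf ⟨(nat_lit 4), (nat_lit 297), (nat_lit 0), z799, (nat_lit 0), (nat_lit 0)⟩) (BT.leaf ⟨(nat_lit 4), (nat_lit 920), (nat_lit 0), z800, (nat_lit 0), (nat_lit 0)⟩)) (BT.node (nat_lit 687) (BT.leaf ⟨(nat_lit 1), (nat_lit 0), (nat_lit 0), z801, z802, (nat_lit 0)⟩) (BT.leaf ⟨(nat_lit 4), (nat_lit 157), (nat_lit 0), z803, (nat_lit 0), (nat_lit 0)⟩))))) (BT.node (nat_lit 696) (BT.node (nat_lit 692) (BT.node (nat_lit 690) (BT.node (nat_lit 689) (BT.leaf ⟨(nat_lit 4), (nat_lit 509), (nat_lit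 0), z804, (nat_lit 0), (nat_lit 0)⟩) (BT.leaf ⟨(nat_lit 4), (nat_lit 1569), (nat_lit 0), z805, (nat_lit 0), (nat_lit 0)⟩)) (BT.node (nat_lit 691) (BT.leaf ⟨(nat_lit 4), (nat_lit 4185), (nat_lit 0), z806, (nat_lit 0), (nat_lit 0)⟩) (BT.leaf ⟨(nat_lit 4), (nat_lit 9612), (nat_lit 0), z807, (nat_lit 0), (nat_lit 0)⟩))) (BT.node (nat_lit 694) (BT.node (nat_lit 693) (BT.leaf ⟨(nat_lit 1), (nat_lit 0), (nat_lit 0), z808, z809, (nat_lit 0)⟩) (BT.leaf ⟨(nat_lit 1), (nat_lit 0), (nat_lit 0), z810, z811, (nat_lit 0)⟩)) (BT.node (nat_lit 695) (BT.leaf ⟨(nat_lit 4), (nat_lit 450), (nat_lit 0), z812, (nat_lit 0), (nat_lit 0)⟩) (BT.leaf ⟨(nat_lit 4), (nat_lit 1389), (nat_lit 0), z813, (nat_lit 0), (nat_lit 0)⟩)))) (BT.node (nat_lit 700) (BT.node (nat_lit 698) (BT.node (nat_lit 697) (BT.leaf ⟨(nat_lit 4), (nat_lit 3710), (nat_lit 0), z814, (nat_lit 0), (nat_lit 0)⟩) (BT.leaf ⟨(nat_lit 4), (nat_lit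 8677), (nat_lit 0), z815, (nat_lit 0), (nat_lit 0)⟩)) (BT.node (nat_lit 699) (BT.leaf ⟨(nat_lit 4), (nat_lit 14585), (nat_lit 0), z816, (nat_lit 0), (nat_lit 0)⟩) (BT.leaf ⟨(nat_lit 4), (nat_lit 105), (nat_lit 0), z817, (nat_lit 0), (nat_lit 0)⟩))) (BT.node (nat_lit 702) (BT.node (nat_lit 701) (BT.leaf ⟨(nat_lit 4), (nat_lit 345), (nat_lit 0), z818, (nat_lit 0), (nat_lit 0)⟩) (BT.leaf ⟨(nat_lit 4), (nat_lit 1092), (nat_lit 0), z819, (nat_lit 0), (nat_lit 0)⟩)) (BT.node (nat_lit 703) (BT.leaf ⟨(nat_lit 4), (nat_lit 2986), (nat_lit 0), z820, (nat_lit 0), (nat_lit 0)⟩) (BT.leaf ⟨(nat_lit 4), (nat_lit 7231), (nat_lit 0), z821, (nat_lit 0), (nat_lit 0)⟩)))))))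
noncomputable def cP640 : BT Pf := (BT.node (nat_lit 672) (BT.node (nat_lit 656) (BT.node (nat_lit 648) (BT.node (nat_lit 644) (BT.node (nat_lit 642) (BT.node (nat_lit 641) (BT.leaf (.pt (nat_lit 639) (nat_lit 14))) (BT.leaf (.pt (nat_lit 640) (nat_lit 11)))) (BT.node (nat_lit 643) (BT.leaf (.pt (nat_lit 511) (nat_lit 3))) (BT.leaf (.pt (nat_lit 642) (nat_lit 11))))) (BT.node (nat_lit 646) (BT.node (nat_lit 645) (BT.leaf (.pt (nat_lit 643) (nat_lit 14))) (BT.leaf (.pt (nat_lit 644) (nat_lit 9)))) (BT.node (nat_lit 647) (BT.leaf (.pt (nat_lit 645) (nat_lit 7))) (BT.leaf (.pt (nat_lit 485) (nat_lit 17)))))) (BT.node (nat_lit 652) (BT.node (nat_lit 650) (BT.node (nat_lit 649) (BT.leaf (.pt (nat_lit 647) (nat_lit 13))) (BT.leaf (.pt (nat_lit 648) (nat_lit 11)))) (BT.node (nat_lit 651) (BT.leaf (.pt (nat_lit 649) (nat_lit 7))) (BT.leaf (.pt (nat_lit 650) (nat_lit 3))))) (BT.node (nat_lit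 654) (BT.node (nat_lit 653) (BT.leaf (.pt (nat_lit 632) (nat_lit 11))) (BT.leaf (.pt (nat_lit 652) (nat_lit 7)))) (BT.node (nat_lit 655) (BT.leaf (.pt (nat_lit 653) (nat_lit 17))) (BT.leaf (.pt (nat_lit 654) (nat_lit 13))))))) (BT.node (nat_lit 664) (BT.node (nat_lit 660) (BT.node (nat_lit 658) (BT.node (nat_lit 657) (BT.leaf (.pt (nat_lit 615) (nat_lit 7))) (BT.leaf (.pt (nat_lit 656) (nat_lit 9)))) (BT.node (nat_lit 659) (BT.leaf (.pt (nat_lit 657) (nat_lit 14))) (BT.leaf (.nmul (nat_lit 477) [(nat_lit 3)])))) (BT.node (nat_lit 662) (BT.node (nat_lit 661) (BT.leaf (.pt (nat_lit 427) (nat_lit 14))) (BT.leaf (.pt (nat_lit 660) (nat_lit 9)))) (BT.node (nat_lit 663) (BT.leaf (.pt (nat_lit 661) (nat_lit 11))) (BT.leaf (.pt (nat_lit 662) (nat_lit 14)))))) (BT.node (nat_lit 668) (BT.node (nat_lit 666) (BT.node (nat_lit 665) (BT.leaf (.pt (nat_lit 663) (nat_lit 9))) (BT.leaf (.pt (nat_lit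 664) (nat_lit 7)))) (BT.node (nat_lit 667) (BT.leaf (.pt (nat_lit 665) (nat_lit 5))) (BT.leaf (.pt (nat_lit 470) (nat_lit 11))))) (BT.node (nat_lit 670) (BT.node (nat_lit 669) (BT.leaf (.pt (nat_lit 667) (nat_lit 7))) (BT.leaf (.pt (nat_lit 668) (nat_lit 13)))) (BT.node (nat_lit 671) (BT.leaf (.pt (nat_lit 669) (nat_lit 9))) (BT.leaf (.pt (nat_lit 670) (nat_lit 13)))))))) (BT.node (nat_lit 688) (BT.node (nat_lit 680) (BT.node (nat_lit 676) (BT.node (nat_lit 674) (BT.node (nat_lit 673) (BT.leaf (.pt (nat_lit 671) (nat_lit 11))) (BT.leaf (.pt (nat_lit 672) (nat_lit 17)))) (BT.node (nat_lit 675) (BT.leaf (.pt (nat_lit 543) (nat_lit 7))) (BT.leaf (.pt (nat_lit 674) (nat_lit 11))))) (BT.node (nat_lit 678) (BT.node (nat_lit 677) (BT.leaf (.pt (nat_lit 675) (nat_lit 9))) (BT.leaf (.pt (nat_lit 512) (nat_lit 7)))) (BT.node (nat_lit 679) (BT.leaf (.pt (nat_lit 677) (nat_lit 14))) (BT.leaf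 (.pt (nat_lit 678) (nat_lit 11)))))) (BT.node (nat_lit 684) (BT.node (nat_lit 682) (BT.node (nat_lit 681) (BT.leaf (.pt (nat_lit 521) (nat_lit 7))) (BT.leaf (.pt (nat_lit 680) (nat_lit 14)))) (BT.node (nat_lit 683) (BT.leaf (.pt (nat_lit 681) (nat_lit 9))) (BT.leaf (.pt (nat_lit 524) (nat_lit 1))))) (BT.node (nat_lit 686) (BT.node (nat_lit 685) (BT.leaf (.pt (nat_lit 683) (nat_lit 5))) (BT.leaf (.pt (nat_lit 684) (nat_lit 14)))) (BT.node (nat_lit 687) (BT.leaf (.nmul (nat_lit 401) [(nat_lit 2)])) (BT.leaf (.pt (nat_lit 590) (nat_lit 17))))))) (BT.node (nat_lit 696) (BT.node (nat_lit 692) (BT.node (nat_lit 690) (BT.node (nat_lit 689) (BT.leaf (.pt (nat_lit 687) (nat_lit 14))) (BT.leaf (.pt (nat_lit 688) (nat_lit 9)))) (BT.node (nat_lit 691) (BT.leaf (.pt (nat_lit 689) (nat_lit 14))) (BT.leaf (.pt (nat_lit 690) (nat_lit 11))))) (BT.node (nat_lit 694) (BT.node (nat_lit 693) (BT.leaf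 (.nmul (nat_lit 153) [(nat_lit 2)])) (BT.leaf (.nmul (nat_lit 692) [(nat_lit 0)]))) (BT.node (nat_lit 695) (BT.leaf (.pt (nat_lit 543) (nat_lit 3))) (BT.leaf (.pt (nat_lit 694) (nat_lit 1)))))) (BT.node (nat_lit 700) (BT.node (nat_lit 698) (BT.node (nat_lit 697) (BT.leaf (.pt (nat_lit 695) (nat_lit 7))) (BT.leaf (.pt (nat_lit 696) (nat_lit 9)))) (BT.node (nat_lit 699) (BT.leaf (.pt (nat_lit 697) (nat_lit 13))) (BT.leaf (.pt (nat_lit 511) (nat_lit 7))))) (BT.node (nat_lit 702) (BT.node (nat_lit 701) (BT.leaf (.pt (nat_lit 699) (nat_lit 5))) (BT.leaf (.pt (nat_lit 700) (nat_lit 11)))) (BT.node (nat_lit 703) (BT.leaf (.pt (nat_lit 701) (nat_lit 1))) (BT.leaf (.pt (nat_lit 702) (nat_lit 13)))))))))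
noncomputable def cF704 : BT Fc := (BT.node (nat_lit 715) (BT.node (nat_lit 709) (BT.node (nat_lit 706) (BT.node (nat_lit 705) (BT.leaf ⟨(nat_lit 4), (nat_lit 13621), (nat_lit 0), z822, (nat_lit 0), (nat_lit 0)⟩) (BT.leaf ⟨(nat_lit 1), (nat_lit 0), (nat_lit 0), z823, z824, (nat_lit 0)⟩)) (BT.node (nat_lit 707) (BT.leaf ⟨(nat_lit 4), (nat_lit 630), (nat_lit 0), z825, (nat_lit 0), (nat_lit 0)⟩) (BT.node (nat_lit 708) (BT.leaf ⟨(nat_lit 4), (nat_lit 1826), (nat_lit 0), z826, (nat_lit 0), (nat_lit 0)⟩) (BT.leaf ⟨(nat_lit 4), (nat_lit 314), (nat_lit 0), z827, (nat_lit 0), (nat_lit 0)⟩)))) (BT.node (nat_lit 712) (BT.node (nat_lit 710) (BT.leaf ⟨(nat_lit 4), (nat_lit 985), (nat_lit 0), z828, (nat_lit 0), (nat_lit 0)⟩) (BT.node (nat_lit 711) (BT.leaf ⟨(nat_lit 4), (nat_lit 2743), (nat_lit 0), z829, (nat_lit 0), (nat_lit 0)⟩) (BT.leaf ⟨(nat_lit 4), (nat_lit 6699), (nat_lit 0), z830, (nat_lit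 0), (nat_lit 0)⟩))) (BT.node (nat_lit 713) (BT.leaf ⟨(nat_lit 4), (nat_lit 13121), (nat_lit 0), z831, (nat_lit 0), (nat_lit 0)⟩) (BT.node (nat_lit 714) (BT.leaf ⟨(nat_lit 4), (nat_lit 685), (nat_lit 0), z832, (nat_lit 0), (nat_lit 0)⟩) (BT.leaf ⟨(nat_lit 4), (nat_lit 1956), (nat_lit 0), z833, (nat_lit 0), (nat_lit 0)⟩))))) (BT.node (nat_lit 721) (BT.node (nat_lit 718) (BT.node (nat_lit 716) (BT.leaf ⟨(nat_lit 4), (nat_lit 4842), (nat_lit 0), z834, (nat_lit 0), (nat_lit 0)⟩) (BT.node (nat_lit 717) (BT.leaf ⟨(nat_lit 4), (nat_lit 90), (nat_lit 0), z835, (nat_lit 0), (nat_lit 0)⟩) (BT.leaf ⟨(nat_lit 4), (nat_lit 291), (nat_lit 0), z836, (nat_lit 0), (nat_lit 0)⟩))) (BT.node (nat_lit 719) (BT.leaf ⟨(nat_lit 4), (nat_lit 899), (nat_lit 0), z837, (nat_lit 0), (nat_lit 0)⟩) (BT.node (nat_lit 720) (BT.leaf ⟨(nat_lit 4), (nat_lit 2513), (nat_lit 0), z838, (nat_lit 0), (nat_lit 0)⟩) (BT.leaf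 ⟨(nat_lit 4), (nat_lit 6092), (nat_lit 0), z839, (nat_lit 0), (nat_lit 0)⟩)))) (BT.node (nat_lit 724) (BT.node (nat_lit 722) (BT.leaf ⟨(nat_lit 4), (nat_lit 12369), (nat_lit 0), z840, (nat_lit 0), (nat_lit 0)⟩) (BT.node (nat_lit 723) (BT.leaf ⟨(nat_lit 4), (nat_lit 979), (nat_lit 0), z841, (nat_lit 0), (nat_lit 0)⟩) (BT.leaf ⟨(nat_lit 4), (nat_lit 2725), (nat_lit 0), z842, (nat_lit 0), (nat_lit 0)⟩))) (BT.node (nat_lit 725) (BT.leaf ⟨(nat_lit 4), (nat_lit 6644), (nat_lit 0), z843, (nat_lit 0), (nat_lit 0)⟩) (BT.node (nat_lit 726) (BT.leaf ⟨(nat_lit 4), (nat_lit 13061), (nat_lit 0), z844, (nat_lit 0), (nat_lit 0)⟩) (BT.leaf ⟨(nat_lit 5), (nat_lit 4), (nat_lit 0), (nat_lit 0x40000000000000000000000000000000000000000080000000000000000000000000004000000000000000000000000000000000000000000000002000000000000000000000000000004000000000000000000000000000000000000000000000000000000000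0000000000000000000000000000000000000000000000000000000000000000000000000000000000000000000000000000000000000000000000000000000000000000000000000000000002000000000000000000000000000000000000000000000000000040000000000000000000000000000000000000000000000000000000000000000000000020000000000000020000000000000000000000000000000000000000000000000000000000000000000000000000000000000000000000000000000000000000000000000000000000000800000000000000000000000000000000000000200000000000000000000000000000000000000000000000000000000000000000000000000000000000000000000000000000000000000000000000000000000000000000000000000000000000000000000000000000000000000000000000000000000000000000000000000000010000000000000000000000000000000000000000000000000000000000000000000000000000000000000000000000000000000000000000000000000000000000000000000000000000000000000000000000000000000000000000000000000000000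0000000000000000000000000000000000000000000000000000000000000000000000000000000000000000000000100000000000000000000000000000000000000000000000000000000000000000000000000000000000000000000000000000000000000000000000000000000000000000000000000000000000000000000000000010000000000000000000000000000000000000000000000000000000000000000000000000000000000000000000000000000000000000000000000000000000000000000000000000000000000000000000000000000000000000000000000000000000000000000000000000000000000000000000000000000000000000400000000000000000000000000000000000000000000000000000000000000000000000000000000000000000000000000000000000000000000000000000000000000000000000000000000000000000000000000000000000000000000000000000000000000000000000000000000000000000000000000000000000000000000000000000000000000000000000000000000000000000000000000000000000000000000000000000000000000000000000000400000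0000000000000000000000000000000000000000000000000000000000000000000000000000000000000000000000000000000000000100000000000000000000000000000000000000000000000000000000000000000000000000008000000000000000000000000000000000000000000000000000000000000000000000000000000000000000000000000000000000000000000000000000000000000000000000000000000000000000000000000000000000000000000000000000000000000000000000000000000000000000000000000000000000000000000000000000000000000000000000000000000000000000000000000000000000000000000000000000000000000000000000000000000000000000000000004000000000000000000000000000000000000000000000000000000000000000000000000000000000000000000000000000000000000000000000000000000000000000000000000000000000000000000000000000000000000000000000000000000000000000000000000000200000000000000000000000400000000008000000000000000000040000000000000000002000000000000000000000000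0000000000000000000000000000000000000000000800000000000000004000002000000000000000000000000000000000000000000000000020000000000000000000000000000000000000000000000000000000000000000000000000000000000000000000000000000000400000000000000000000000000000000000000000000000000000000000000000000000000000000000000000000000000000000000000000000000000000000000000000000000000000000000000000000000000000400000000800000000000000000000000000000204000000000000000000000000000000000000000000000000000000000000000000000000000000000000000000000000000000000000000000000000000000000000000000000004000000000000000000000000000000000000000000000000000000000000000000000100000000000100000000000000000000000000000000000000000000000000000000000000000000000000000000000000000000000000000000000000000000000000000000000000000000000000000000000000000000000000000000000000000000000000000000000000000000000000000000000003),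 (nat_lit 0), (nat_lit 0)⟩))))))
noncomputable def cP704 : BT Pf := (BT.node (nat_lit 715) (BT.node (nat_lit 709) (BT.node (nat_lit 706) (BT.node (nat_lit 705) (BT.leaf (.pt (nat_lit 703) (nat_lit 17))) (BT.leaf (.nmul (nat_lit 390) [(nat_lit 1)]))) (BT.node (nat_lit 707) (BT.leaf (.pt (nat_lit 621) (nat_lit 3))) (BT.node (nat_lit 708) (BT.leaf (.pt (nat_lit 706) (nat_lit 7))) (BT.leaf (.pt (nat_lit 525) (nat_lit 13)))))) (BT.node (nat_lit 712) (BT.node (nat_lit 710) (BT.leaf (.pt (nat_lit 708) (nat_lit 11))) (BT.node (nat_lit 711) (BT.leaf (.pt (nat_lit 709) (nat_lit 1))) (BT.leaf (.pt (nat_lit 710) (nat_lit 7))))) (BT.node (nat_lit 713) (BT.leaf (.pt (nat_lit 711) (nat_lit 14))) (BT.node (nat_lit 714) (BT.leaf (.pt (nat_lit 580) (nat_lit 9))) (BT.leaf (.pt (nat_lit 713) (nat_lit 1))))))) (BT.node (nat_lit 721) (BT.node (nat_lit 718) (BT.node (nat_lit 716) (BT.leaf (.pt (nat_lit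 714) (nat_lit 7))) (BT.node (nat_lit 717) (BT.leaf (.pt (nat_lit 449) (nat_lit 11))) (BT.leaf (.pt (nat_lit 716) (nat_lit 13))))) (BT.node (nat_lit 719) (BT.leaf (.pt (nat_lit 717) (nat_lit 11))) (BT.node (nat_lit 720) (BT.leaf (.pt (nat_lit 718) (nat_lit 13))) (BT.leaf (.pt (nat_lit 719) (nat_lit 11)))))) (BT.node (nat_lit 724) (BT.node (nat_lit 722) (BT.leaf (.pt (nat_lit 720) (nat_lit 1))) (BT.node (nat_lit 723) (BT.leaf (.pt (nat_lit 526) (nat_lit 5))) (BT.leaf (.pt (nat_lit 722) (nat_lit 14))))) (BT.node (nat_lit 725) (BT.leaf (.pt (nat_lit 723) (nat_lit 9))) (BT.node (nat_lit 726) (BT.leaf (.pt (nat_lit 724) (nat_lit 7))) (BT.leaf (.cov [] [⟨(nat_lit 221), (nat_lit 424), []⟩, ⟨(nat_lit 232), (nat_lit 566), [(nat_lit 223), (nat_lit 93)]⟩, ⟨(nat_lit 239), (nat_lit 570), [(nat_lit 160), (nat_lit 439), (nat_lit 98)]⟩, ⟨(nat_lit 251), (nat_lit 577), [(nat_lit 334), (nat_lit 333),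 (nat_lit 3)]⟩, ⟨(nat_lit 266), (nat_lit 582), [(nat_lit 50), (nat_lit 583), (nat_lit 63)]⟩, ⟨(nat_lit 279), (nat_lit 588), [(nat_lit 104), (nat_lit 288), (nat_lit 405)]⟩, ⟨(nat_lit 280), (nat_lit 596), [(nat_lit 24), (nat_lit 313), (nat_lit 291)]⟩, ⟨(nat_lit 285), (nat_lit 425), [(nat_lit 159), (nat_lit 597), (nat_lit 13)]⟩, ⟨(nat_lit 286), (nat_lit 600), [(nat_lit 51), (nat_lit 439), (nat_lit 281)]⟩, ⟨(nat_lit 292), (nat_lit 601), [(nat_lit 140), (nat_lit 99), (nat_lit 98)]⟩, ⟨(nat_lit 296), (nat_lit 605), [(nat_lit 105), (nat_lit 45), (nat_lit 217)]⟩, ⟨(nat_lit 303), (nat_lit 608), [(nat_lit 231), (nat_lit 275), (nat_lit 14)]⟩, ⟨(nat_lit 304), (nat_lit 614), [(nat_lit 231), (nat_lit 17), (nat_lit 13)]⟩, ⟨(nat_lit 311), (nat_lit 618), [(nat_lit 159), (nat_lit 47), (nat_lit 91)]⟩, ⟨(nat_lit 325), (nat_lit 623), [(nat_lit 105), (nat_lit 253), (nat_lit 85)]⟩, ⟨(nat_lit 331), (nat_lit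 628), [(nat_lit 118), (nat_lit 46), (nat_lit 404)]⟩, ⟨(nat_lit 332), (nat_lit 631), [(nat_lit 78), (nat_lit 288), (nat_lit 203)]⟩, ⟨(nat_lit 335), (nat_lit 635), [(nat_lit 118), (nat_lit 275), (nat_lit 14)]⟩, ⟨(nat_lit 342), (nat_lit 641), [(nat_lit 334), (nat_lit 151), (nat_lit 98)]⟩, ⟨(nat_lit 343), (nat_lit 646), [(nat_lit 138), (nat_lit 132), (nat_lit 163)]⟩, ⟨(nat_lit 353), (nat_lit 651), [(nat_lit 223), (nat_lit 89), (nat_lit 541)]⟩, ⟨(nat_lit 362), (nat_lit 655), [(nat_lit 107), (nat_lit 206), (nat_lit 555)]⟩, ⟨(nat_lit 363), (nat_lit 658), [(nat_lit 52), (nat_lit 75), (nat_lit 659)]⟩, ⟨(nat_lit 370), (nat_lit 666), [(nat_lit 161), (nat_lit 182), (nat_lit 177)]⟩, ⟨(nat_lit 374), (nat_lit 673), [(nat_lit 106), (nat_lit 206), (nat_lit 480)]⟩, ⟨(nat_lit 375), (nat_lit 676), [(nat_lit 219), (nat_lit 20), (nat_lit 85)]⟩, ⟨(nat_lit 380), (nat_lit 679), [(nat_lit 119), (nat_lit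 262), (nat_lit 400)]⟩, ⟨(nat_lit 381), (nat_lit 468), [(nat_lit 282), (nat_lit 508), (nat_lit 659)]⟩, ⟨(nat_lit 382), (nat_lit 682), [(nat_lit 231), (nat_lit 200), (nat_lit 297)]⟩, ⟨(nat_lit 387), (nat_lit 685), [(nat_lit 106), (nat_lit 686), (nat_lit 299)]⟩, ⟨(nat_lit 388), (nat_lit 691), [(nat_lit 139), (nat_lit 693), (nat_lit 541)]⟩, ⟨(nat_lit 392), (nat_lit 698), [(nat_lit 219), (nat_lit 74), (nat_lit 291)]⟩, ⟨(nat_lit 398), (nat_lit 704), [(nat_lit 27), (nat_lit 705), (nat_lit 96)]⟩, ⟨(nat_lit 402), (nat_lit 707), [(nat_lit 334), (nat_lit 102), (nat_lit 3)]⟩, ⟨(nat_lit 403), (nat_lit 712), [(nat_lit 106), (nat_lit 185), (nat_lit 477)]⟩, ⟨(nat_lit 413), (nat_lit 715), [(nat_lit 52), (nat_lit 22), (nat_lit 4)]⟩, ⟨(nat_lit 417), (nat_lit 721), [(nat_lit 160), (nat_lit 401), (nat_lit 299)]⟩, ⟨(nat_lit 418), (nat_lit 725), [(nat_lit 27), (nat_lit 264), (nat_lit 243)]⟩])))))))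
noncomputable def cF : BT Fc := (BT.node (nat_lit 384) (BT.node (nat_lit 192) (BT.node (nat_lit 64) cF0 (BT.node (nat_lit 128) cF64 cF128)) (BT.node (nat_lit 256) cF192 (BT.node (nat_lit 320) cF256 cF320))) (BT.node (nat_lit 576) (BT.node (nat_lit 448) cF384 (BT.node (nat_lit 512) cF448 cF512)) (BT.node (nat_lit 640) cF576 (BT.node (nat_lit 704) cF640 cF704))))
noncomputable def cP : BT Pf := (BT.node (nat_lit 384) (BT.node (nat_lit 192) (BT.node (nat_lit 64) cP0 (BT.node (nat_lit 128) cP64 cP128)) (BT.node (nat_lit 256) cP192 (BT.node (nat_lit 320) cP256 cP320))) (BT.node (nat_lit 576) (BT.node (nat_lit 448) cP384 (BT.node (nat_lit 512) cP448 cP512)) (BT.node (nat_lit 640) cP576 (BT.node (nat_lit 704) cP640 cP704))))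
noncomputable def cnd : BT Nat := (BT.node (nat_lit 2) (BT.node (nat_lit 1) (BT.leaf (nat_lit 0)) (BT.leaf (nat_lit 5))) (BT.node (nat_lit 3) (BT.leaf (nat_lit 29)) (BT.node (nat_lit 4) (BT.leaf (nat_lit 125)) (BT.leaf (nat_lit 213)))))
noncomputable def cR : List (List Nat) := [[X1, X1, X1], [z845, z845, z845]]
noncomputable def nds0 : Nd := ⟨(nat_lit 1), (nat_lit 429), [((nat_lit 8), [(nat_lit 18)]), ((nat_lit 9), [(nat_lit 1), (nat_lit 14), (nat_lit 11), (nat_lit 7), (nat_lit 11), (nat_lit 13), (nat_lit 9), (nat_lit 14), (nat_lit 11), (nat_lit 7), (nat_lit 11), (nat_lit 13), (nat_lit 3), (nat_lit 1)]), ((nat_lit 10), [(nat_lit 18), (nat_lit 3), (nat_lit 7), (nat_lit 11), (nat_lit 9), (nat_lit 7), (nat_lit 1)]), ((nat_lit 11), [(nat_lit 16), (nat_lit 1), (nat_lit 11), (nat_lit 3), (nat_lit 9)]), ((nat_lit 12), [(nat_lit 5), (nat_lit 1), (nat_lit 3), (nat_lit 5), (nat_lit 3),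 (nat_lit 1)])], (nat_lit 4)⟩
noncomputable def nds1 : Nd := ⟨(nat_lit 2), (nat_lit 478), [((nat_lit 53), [(nat_lit 17), (nat_lit 11), (nat_lit 9), (nat_lit 7), (nat_lit 11), (nat_lit 9), (nat_lit 5), (nat_lit 7)]), ((nat_lit 124), [(nat_lit 9), (nat_lit 11), (nat_lit 5), (nat_lit 3), (nat_lit 7), (nat_lit 1), (nat_lit 11), (nat_lit 9), (nat_lit 5)])], (nat_lit 12)⟩
noncomputable def nds2 : Nd := ⟨(nat_lit 3), (nat_lit 562), [((nat_lit 141), [(nat_lit 11), (nat_lit 14), (nat_lit 18), (nat_lit 3), (nat_lit 14), (nat_lit 7), (nat_lit 1), (nat_lit 11)]), ((nat_lit 162), [(nat_lit 7), (nat_lit 1), (nat_lit 11), (nat_lit 14), (nat_lit 18), (nat_lit 3), (nat_lit 14), (nat_lit 1), (nat_lit 11), (nat_lit 1), (nat_lit 7), (nat_lit 9)]), ((nat_lit 201), [(nat_lit 11), (nat_lit 7), (nat_lit 11), (nat_lit 3), (nat_lit 9), (nat_lit 1), (nat_lit 7), (nat_lit 1), (nat_lit 11), (nat_lit 3)])],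 (nat_lit 6)⟩
noncomputable def nds3 : Nd := ⟨(nat_lit 4), (nat_lit 726), [((nat_lit 220), [(nat_lit 1), (nat_lit 11), (nat_lit 7), (nat_lit 13), (nat_lit 9), (nat_lit 1), (nat_lit 13), (nat_lit 11), (nat_lit 14), (nat_lit 9), (nat_lit 1), (nat_lit 3), (nat_lit 7), (nat_lit 11), (nat_lit 13), (nat_lit 1), (nat_lit 7)]), ((nat_lit 250), [(nat_lit 16), (nat_lit 17), (nat_lit 14), (nat_lit 11), (nat_lit 13), (nat_lit 9), (nat_lit 7), (nat_lit 18), (nat_lit 14), (nat_lit 9), (nat_lit 14), (nat_lit 1), (nat_lit 11), (nat_lit 13), (nat_lit 17), (nat_lit 1)])], (nat_lit 12)⟩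
noncomputable def nds : List Nd := [nds0, nds1, nds2, nds3]
noncomputable def Ns : List (List Nat × List Nat) := [([(nat_lit 14), (nat_lit 11), (nat_lit 7), (nat_lit 11), (nat_lit 13), (nat_lit 9), (nat_lit 14), (nat_lit 11), (nat_lit 7), (nat_lit 11), (nat_lit 13), (nat_lit 3)], [(nat_lit 1), (nat_lit 14), (nat_lit 11), (nat_lit 7), (nat_lit 11), (nat_lit 13), (nat_lit 9), (nat_lit 14), (nat_lit 11), (nat_lit 7), (nat_lit 11), (nat_lit 13), (nat_lit 3), (nat_lit 1)]),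
  ([(nat_lit 17)], [(nat_lit 17)]),
  ([(nat_lit 5), (nat_lit 3), (nat_lit 1), (nat_lit 5)], [(nat_lit 18), (nat_lit 3), (nat_lit 7), (nat_lit 11), (nat_lit 9), (nat_lit 7), (nat_lit 1)]),
  ([(nat_lit 1), (nat_lit 11)], [(nat_lit 16), (nat_lit 1), (nat_lit 11), (nat_lit 3), (nat_lit 9)]),
  ([(nat_lit 7), (nat_lit 11), (nat_lit 9), (nat_lit 5), (nat_lit 7)], [(nat_lit 5), (nat_lit 1), (nat_lit 3), (nat_lit 5), (nat_lit 3), (nat_lit 1)]),
  ([(nat_lit 15)], [(nat_lit 11), (nat_lit 3), (nat_lit 9), (nat_lit 1)])]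
noncomputable def Ws : List (List (List Nat)) := [[[(nat_lit 1)],
  [(nat_lit 1)],
  [(nat_lit 1)]],
 [[(nat_lit 18), (nat_lit 1)],
  [(nat_lit 18), (nat_lit 1)],
  [(nat_lit 18), (nat_lit 1)]]]
noncomputable def A : Alg := ⟨P.mul, P.one, P.ok, fun _ _ => nat_lit 0, nat_lit 0, fun _ => true, fun _ => nat_lit 0,
  X17, nth (nat_lit 0) X, nat_lit 524286, fun x => mapW NT [x], nat_lit 31⟩
noncomputable def ck : Nat → Bool := chkAt A cF.get cP.get (bsOf A Ns []) (nth [] cR) cnd.get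

end CF.Recog.Ly
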