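import Cfsg.Agent.Dce.Defs
import Cfsg.Agent.Bt.Defs

set_option autoImplicit false
set_option maxRecDepth 1000000
set_option maxHeartbeats 0
set_option Elab.async false

namespace CF.Recog.Ly
open CF.Comp CF.Dce CF.Bt

/-- the arithmetic of degree 16 -/
noncomputable def Q : Par := mkPar (nat_lit 5) (nat_lit 16) (nat_lit 16) (nat_lit 205) (nat_lit 10) (nat_lit 3)
noncomputable def Y1 : Nat := (nat_lit 0x4000100010001000400040001000400040004000100040001000400040004000100010001000400040001000400040004000100040004000400040004000100010001000400010001000400040004000100040004000400040004000100040001000400010001000400040004000100040004000400010004000100040004000400040001000400010004000400040001000400040004000100010004000100040001000400040004000400040001000400040004000100010004000100010001000400040004000400040001000400040004000100040004000100010001000400040004000100040001000400040004000100040004000100010001000400040004000100040001000400040004000400010001000100040004000100040004000100040004000400040004000100010001000100040004000100040004000100040004000400040004000100040001000100040001000100040004000400040004000400010004000100040004000100040001000100040004000400010001000400040004000100010004000100040004000100040001000400040004000400040004000100010004000100010004000100040004000400040004000100040004000100040004000100010001000100040004000400040004000100040004000100040004000100010001000400040004000400010004000100040004)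
noncomputable def Y3 : Nat := (nat_lit 0x200000004000000010000000300000001000000030000000300000001000100000003000000020000000400000002000000040000000400000002000000000004000000020000000300000001000000030000000100000001000000030003000000010000000400000002000000040000000200000002000000040000000000010000000300000003000000010000000300000001000000040000000200020000000400000004000000020000000400000002000000030000000100000000000300000001000000010000000300000001000000030000000200000004000400000002000000020000000400000002000000040000000100000003000000000001000000030000000300000001000000020000000400000001000000030002000000040000000400000002000000010000000300000002000000040000000000030000000100000001000000030000000400000002000000030000000100040000000200000002000000040000000300000001000000040000000200000000000300000001000000040000000200000001000000030000000300000001000400000002000000030000000100000002000000040000000400000002000000000001000000030000000200000004000000030000000100000001000000030002000000040000000100000003000000040000000200000002000000040000)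
noncomputable def Y5 : Nat := (nat_lit 0x30001000000000003000400000000000100030000000000010002000000000004000200000000000100020000000000020004000000000003000400040003000000000001000300000000000200010000000000030001000000000002000100000000000200040000000000040003000000000004000200000000000000000002000100000000000200040000000000040003000000000004000200000000000400030000000000010003000000000002000100000000000300010004000200000000000100020000000000020004000000000003000400000000000300010000000000030004000000000001000300000000000100020000000000000000000100030000000000010002000000000003000100000000000300040000000000020004000000000003000400000000000400020000000000010002000200010000000000030001000000000004000300000000000100030000000000040003000000000004000200000000000200010000000000020004000000000000000000040003000000000004000200000000000200010000000000020004000000000002000100000000000300010000000000040003000000000001000300020004000000000003000400000000000400020000000000010002000000000001000300000000000100020000000000030001000000000003000400000000)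
noncomputable def Y7 : Nat := (nat_lit 0x4000200000000000000000000000000040003000000000000000000000000000300010000000000000000000000000002000100000000000300040000000000000000000000000002000400000000000000000000000000010002000000000000000000000000000100030000000000000000000000000000000000020001000000000000000000000000000300010000000000000000000000000004000300000000000000000000000000040002000000000001000300000000000000000000000000010002000000000000000000000000000200040000000000000000000000000003000400000000000000000000000000000000000000000000000000040003000000000000000000000000000400020000000000000000000000000002000100000000000000000000000000030001000000000002000400000000000000000000000000030004000000000000000000000000000100030000000000000000000000000001000200000000000000000000000000000000000300010000000000000000000000000002000100000000000000000000000000040002000000000000000000000000000400030000000000010002000000000000000000000000000100030000000000000000000000000003000400000000000000000000000000020004000000000000000000000000)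
noncomputable def Y9 : Nat := (nat_lit 0x4000400040004000400040001000100040004000100010001000100010001000400040001000100040004000400040004000400040004000100010004000400040001000100040001000400010004000100040001000400010004000400010004000100040001000100040004000100010004000400010001000400010004000400040001000100010001000100010001000100010001000100010004000400040004000400040001000100040004000100010004000400010001000100010001000400010004000100040004000100010004000400010004000100040001000100040004000100010004000100040001000400010004000400010001000400040004000100010001000100010001000400040004000400040004000100010004000400040004000100010004000400040004000100010004000400040004000100040001000400010004000400010004000100010004000100040001000400010004000400010001000400010004000400010004000100010004000400010001000100010001000100010004000400040004000100010001000100010001000100010004000400010001000100010004000400040004000100010004000400010004000400010004000100040001000100040001000400010004000400010001000400010004000400010001000400010004000400010001000400010004)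
noncomputable def Y11 : Nat := (nat_lit 0x4000100030002000100040003000200010004000300020001000400020003000100040003000200040001000300020004000100030002000400010002000300020002000100010002000200040004000200020004000400030003000400040003000300010001000300030004000400030003000400040002000200040004000100040003000200010004000200030001000400020003000400010002000300040001000300020004000100020003000400010002000300010004000200030002000200040004000300030004000400030003000400040003000300010001000300030004000400020002000400040002000200040004000200020001000100010004000300020001000400020003000400010003000200010004000300020004000100030002000400010002000300010004000300020004000100030002000200020004000400030003000400040002000200010001000200020004000400030003000400040002000200040004000300030001000100030003000400040001000400020003000400010002000300010004000300020001000400020003000400010002000300010004000200030004000100030002000400010002000300030003000400040003000300010001000200020004000400030003000400040002000200040004000200020001000100030003000400040002000200040004)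
noncomputable def Y15 : Nat := (nat_lit 0x3000200000003000000000000000000000000000000000000000000000004000200000002000000030000000000000000000000000000000000000000000100000002000200000000000300000000000000000000000000000000000000000001000100000000000000000003000000000000000000000000000000000004000000000000000200020003000000000000000000000000000000000000000000040000000000010000000000030000000000000000000000000000000000000000000400000004000000000003000000000000000000000000000000000000000000000004000000040004000200020002000300000002000000000000000400000000000000000000000000000001000000000003000000020000000000000004000000000000000000000000000400000000000300000000000200000000000000040000000000000000000000000004000400020000000000000002000000000000000400000000000000000001000000000000000000030002000000000000000000000004000000000000000000010000000000040002000000020000000000000000000000040000000000000000000100000001000000020002000000000000000000000000000400000000000000000001000000010001000000000000000000000000000000000004)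
noncomputable def Y16 : Nat := (nat_lit 0x4000000000000000000000000000000000002000300000002000000000000000000040000000000000000000000000001000300000003000000020000000000000000000400000000000000000000000400000003000300000000000200000000000000000004000000000000000000000004000400000000000000000002000000000000000000040000000000000001000000000000000300030002000000000000000000000000000400000000000000010000000000040000000000020000000000000000000000000004000000000000000100000001000000000002000000000000000000000000000000040000000000000001000000010001000300030003000200000003000000000000000000000000000000000000000000000004000000000002000000030000000000000000000000000000000000000000000100000000000200000000000300000000000000000000000000000000000000000001000100030000000000000003000000000000000000000000000000000004000000000000000000020003000000000000000000000000000000000000000000040000000000010003000000030000000000000000000000000000000000000000000400000004000000030003000000000000000000000000000000000000000000000004000000040004000000000000000000000000000000000000)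
noncomputable def Y17 : Nat := (nat_lit 0x3000400010002000400030000000000040003000000000000000000000000000000020003000400020001000000000002000100000000000000000000000000020004000400010000000000010002000000000001000200000000000000000001000300030001000000000003000400000000000300040000000000000000000300010000000000040001000100020000000000000000000100020000000000040002000000000003000100030004000000000000000000030004000000000000000000020004000200040003000400000000000000000000000000040003000000000001000300010003000000020000000000000000000000000002000100040003000000000000000000000000000400010001000200040003000000000002000100000000000000000000000000030001000300040002000100000000000000000001000200000000000000000002000400030004000000000001000200000000000300040000000000000000000100030000000200000000000300040000000000000000000100020000000000030001000000000003000400010002000000000000000000030004000000000004000200000000000000020003000400000000000000000000000000040003000000000002000400020004000400010000000000000000000000000002000100000000000100030001000300030001)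
noncomputable def Y18 : Nat := (nat_lit 0x2000100040003000100020000000000010002000000000000000000000000000000030002000100030004000000000003000400000000000000000000000000030001000100040000000000040003000000000004000300000000000000000004000200020004000000000002000100000000000200010000000000000000000200040000000000010004000400030000000000000000000400030000000000010003000000000002000400020001000000000000000000020001000000000000000000030001000300010002000100000000000000000000000000010002000000000004000200040002000000030000000000000000000000000003000400010002000000000000000000000000000100040004000300010002000000000003000400000000000000000000000000020004000200010003000400000000000000000004000300000000000000000003000100020001000000000004000300000000000200010000000000000000000400020000000300000000000200010000000000000000000400030000000000020004000000000002000100040003000000000000000000020001000000000001000300000000000000030002000100000000000000000000000000010002000000000003000100030001000100040000000000000000000000000003000400000000000400020004000200020004)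
noncomputable def Y19 : Nat := (nat_lit 0x1000100000000000400000004000400010001000000000004000000040004000200020002000200010003000000030000000000020002000300030002000000020002000300030000000200020004000400040000000000020001000200020004000400040004000400030000000100040004000400040004000300000001000000000003000300020002000300000002000200010001000200040004000300020002000100010002000400040003000200020001000100020004000400030000000000030003000400040001000300000000000300030004000400010003000100010000000000030004000300030000000000030003000400040001000300040004000200040004000100040000000200000001000300030001000000040001000200030003000300000002000300010002000300030003000000020003000000040003000400030004000000020000000400030004000300040000000200040000000100010001000200040001000400020000000300000004000400020002000100010000000000020001000200020001000100000000000200010002000200000001000300030001000000040002000100010000000000020001000200040002000000030000000400040002000300010004000300040000000300000003000100040003000400000003000000030001000400030004000000030000)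
noncomputable def Y20 : Nat := (nat_lit 0x4000100040001000200010000000200000000000400010001000400040003000300020002000300000001000400020001000400020003000200000001000000030002000300020004000200040000000000000001000400030002000000030003000200040001000200040004000300020003000000000000000400010004000000000004000100010004000400030001000400010004000300040000000300020003000000000003000100030002000400010004000100020001000000020003000200020003000100000004000200030002000400010002000400040003000200030000000000000004000100040002000300010004000300010001000200010004000100000003000300040003000000040002000400020001000100000001000300030004000000040000000300040003000000020003000000040002000200030002000400010001000100000000000200020001000100030000000200040003000100040003000000020002000300000001000000030001000400030004000000010004000400030002000200040002000200010000000100000002000100020000000300020000000100030001000300030004000000040000000300000003000300040004000200000003000200030002000400010001000100000004000200000001000000010002000100030002000300010004000400040000)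
noncomputable def Y : List Nat := [Q.one, Y1, Y1, Y3, Y3, Y5, Y5, Y7, Y7, Y9, Y9, Y11, Y11, Q.one, Q.one, Y15, Y16, Y17, Y18, Y19, Y20]
noncomputable def R0 : List (List Nat) := [[(nat_lit 1), (nat_lit 1)],
  [(nat_lit 3), (nat_lit 3)],
  [(nat_lit 5), (nat_lit 5)],
  [(nat_lit 7), (nat_lit 7)],
  [(nat_lit 5), (nat_lit 7), (nat_lit 5), (nat_lit 7), (nat_lit 5), (nat_lit 7)],
  [(nat_lit 1), (nat_lit 5), (nat_lit 1), (nat_lit 5), (nat_lit 7), (nat_lit 1), (nat_lit 7)],
  [(nat_lit 3), (nat_lit 5), (nat_lit 3), (nat_lit 5), (nat_lit 7), (nat_lit 3), (nat_lit 7)],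
  [(nat_lit 1), (nat_lit 3), (nat_lit 1), (nat_lit 3), (nat_lit 1), (nat_lit 3), (nat_lit 1), (nat_lit 3)],
  [(nat_lit 1), (nat_lit 5), (nat_lit 7), (nat_lit 5), (nat_lit 1), (nat_lit 5), (nat_lit 7), (nat_lit 5)],
  [(nat_lit 3), (nat_lit 5), (nat_lit 7), (nat_lit 5), (nat_lit 3), (nat_lit 5), (nat_lit 7), (nat_lit 5)],
  [(nat_lit 1), (nat_lit 3), (nat_lit 1), (nat_lit 3), (nat_lit 5), (nat_lit 1), (nat_lit 3), (nat_lit 1), (nat_lit 3), (nat_lit 5)],
  [(nat_lit 1), (nat_lit 3), (nat_lit 1), (nat_lit 3), (nat_lit 5), (nat_lit 3), (nat_lit 1), (nat_lit 3), (nat_lit 1), (nat_lit 5)],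
  [(nat_lit 1), (nat_lit 3), (nat_lit 1), (nat_lit 3), (nat_lit 7), (nat_lit 1), (nat_lit 3), (nat_lit 1), (nat_lit 3), (nat_lit 7)],
  [(nat_lit 1), (nat_lit 3), (nat_lit 1), (nat_lit 3), (nat_lit 7), (nat_lit 3), (nat_lit 1), (nat_lit 3), (nat_lit 1), (nat_lit 7)],
  [(nat_lit 1), (nat_lit 3), (nat_lit 5), (nat_lit 1), (nat_lit 7), (nat_lit 3), (nat_lit 1), (nat_lit 7), (nat_lit 3), (nat_lit 5)],
  [(nat_lit 9), (nat_lit 9)],
  [(nat_lit 11), (nat_lit 11)],
  [(nat_lit 5), (nat_lit 9), (nat_lit 5), (nat_lit 9)],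
  [(nat_lit 5), (nat_lit 11), (nat_lit 5), (nat_lit 11)],
  [(nat_lit 1), (nat_lit 3), (nat_lit 1), (nat_lit 11), (nat_lit 3), (nat_lit 11)],
  [(nat_lit 1), (nat_lit 3), (nat_lit 9), (nat_lit 1), (nat_lit 9), (nat_lit 3)],
  [(nat_lit 1), (nat_lit 9), (nat_lit 1), (nat_lit 11), (nat_lit 9), (nat_lit 11)],
  [(nat_lit 1), (nat_lit 11), (nat_lit 1), (nat_lit 11), (nat_lit 1), (nat_lit 11)],
  [(nat_lit 3), (nat_lit 9), (nat_lit 3), (nat_lit 9), (nat_lit 3), (nat_lit 9)],
  [(nat_lit 3), (nat_lit 9), (nat_lit 11), (nat_lit 9), (nat_lit 3), (nat_lit 11)],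
  [(nat_lit 1), (nat_lit 5), (nat_lit 1), (nat_lit 9), (nat_lit 1), (nat_lit 5), (nat_lit 1), (nat_lit 9)],
  [(nat_lit 1), (nat_lit 5), (nat_lit 1), (nat_lit 11), (nat_lit 7), (nat_lit 1), (nat_lit 7), (nat_lit 11)],
  [(nat_lit 1), (nat_lit 7), (nat_lit 9), (nat_lit 7), (nat_lit 1), (nat_lit 7), (nat_lit 9), (nat_lit 7)],
  [(nat_lit 3), (nat_lit 7), (nat_lit 11), (nat_lit 7), (nat_lit 3), (nat_lit 7), (nat_lit 11), (nat_lit 7)],
  [(nat_lit 7), (nat_lit 9), (nat_lit 7), (nat_lit 9), (nat_lit 7), (nat_lit 9), (nat_lit 7), (nat_lit 9)],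
  [(nat_lit 7), (nat_lit 11), (nat_lit 7), (nat_lit 11), (nat_lit 7), (nat_lit 11), (nat_lit 7), (nat_lit 11)],
  [(nat_lit 5), (nat_lit 7), (nat_lit 5), (nat_lit 9), (nat_lit 7), (nat_lit 5), (nat_lit 9), (nat_lit 7), (nat_lit 9)],
  [(nat_lit 5), (nat_lit 7), (nat_lit 5), (nat_lit 11), (nat_lit 7), (nat_lit 5), (nat_lit 11), (nat_lit 7), (nat_lit 11)],
  [(nat_lit 5), (nat_lit 7), (nat_lit 9), (nat_lit 7), (nat_lit 5), (nat_lit 7), (nat_lit 9), (nat_lit 7), (nat_lit 9)],
  [(nat_lit 5), (nat_lit 7), (nat_lit 11), (nat_lit 7), (nat_lit 5), (nat_lit 7), (nat_lit 11), (nat_lit 7), (nat_lit 11)],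
  [(nat_lit 1), (nat_lit 3), (nat_lit 1), (nat_lit 5), (nat_lit 3), (nat_lit 9), (nat_lit 7), (nat_lit 3), (nat_lit 7), (nat_lit 9)],
  [(nat_lit 3), (nat_lit 5), (nat_lit 3), (nat_lit 9), (nat_lit 7), (nat_lit 11), (nat_lit 3), (nat_lit 11), (nat_lit 7), (nat_lit 9)],
  [(nat_lit 3), (nat_lit 5), (nat_lit 3), (nat_lit 9), (nat_lit 11), (nat_lit 7), (nat_lit 3), (nat_lit 7), (nat_lit 9), (nat_lit 11)],
  [(nat_lit 3), (nat_lit 7), (nat_lit 5), (nat_lit 11), (nat_lit 7), (nat_lit 3), (nat_lit 7), (nat_lit 11), (nat_lit 5), (nat_lit 7)],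
  [(nat_lit 13), (nat_lit 5), (nat_lit 13), (nat_lit 5)],
  [(nat_lit 5), (nat_lit 9), (nat_lit 11), (nat_lit 5), (nat_lit 11), (nat_lit 9)],
  [(nat_lit 1), (nat_lit 5), (nat_lit 13), (nat_lit 5), (nat_lit 1), (nat_lit 13), (nat_lit 5), (nat_lit 5)],
  [(nat_lit 3), (nat_lit 7), (nat_lit 13), (nat_lit 5), (nat_lit 3), (nat_lit 13), (nat_lit 5), (nat_lit 7)],
  [(nat_lit 5), (nat_lit 7), (nat_lit 13), (nat_lit 5), (nat_lit 5), (nat_lit 7), (nat_lit 13), (nat_lit 5), (nat_lit 16)],
  [(nat_lit 5), (nat_lit 13), (nat_lit 5), (nat_lit 5), (nat_lit 13), (nat_lit 5), (nat_lit 5), (nat_lit 13), (nat_lit 5)],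
  [(nat_lit 7), (nat_lit 13), (nat_lit 5), (nat_lit 7), (nat_lit 13), (nat_lit 5), (nat_lit 7), (nat_lit 13), (nat_lit 5)],
  [(nat_lit 9), (nat_lit 13), (nat_lit 5), (nat_lit 9), (nat_lit 13), (nat_lit 5), (nat_lit 9), (nat_lit 13), (nat_lit 5)],
  [(nat_lit 1), (nat_lit 7), (nat_lit 1), (nat_lit 7), (nat_lit 13), (nat_lit 5), (nat_lit 1), (nat_lit 13), (nat_lit 5)],
  [(nat_lit 3), (nat_lit 5), (nat_lit 3), (nat_lit 5), (nat_lit 13), (nat_lit 5), (nat_lit 3), (nat_lit 13), (nat_lit 5)],
  [(nat_lit 1), (nat_lit 3), (nat_lit 1), (nat_lit 3), (nat_lit 1), (nat_lit 9), (nat_lit 1), (nat_lit 9)],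
  [(nat_lit 1), (nat_lit 3), (nat_lit 1), (nat_lit 3), (nat_lit 11), (nat_lit 3), (nat_lit 11), (nat_lit 3)],
  [(nat_lit 1), (nat_lit 3), (nat_lit 1), (nat_lit 3), (nat_lit 11), (nat_lit 9), (nat_lit 11), (nat_lit 9)],
  [(nat_lit 1), (nat_lit 3), (nat_lit 5), (nat_lit 9), (nat_lit 5), (nat_lit 1), (nat_lit 9), (nat_lit 3)],
  [(nat_lit 1), (nat_lit 3), (nat_lit 11), (nat_lit 3), (nat_lit 11), (nat_lit 9), (nat_lit 1), (nat_lit 9)],
  [(nat_lit 1), (nat_lit 5), (nat_lit 7), (nat_lit 5), (nat_lit 1), (nat_lit 7), (nat_lit 5), (nat_lit 7)],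
  [(nat_lit 1), (nat_lit 5), (nat_lit 11), (nat_lit 5), (nat_lit 1), (nat_lit 11), (nat_lit 1), (nat_lit 11)],
  [(nat_lit 1), (nat_lit 5), (nat_lit 11), (nat_lit 9), (nat_lit 11), (nat_lit 5), (nat_lit 1), (nat_lit 9)],
  [(nat_lit 1), (nat_lit 9), (nat_lit 11), (nat_lit 1), (nat_lit 9), (nat_lit 11), (nat_lit 1), (nat_lit 11)],
  [(nat_lit 3), (nat_lit 5), (nat_lit 3), (nat_lit 11), (nat_lit 3), (nat_lit 5), (nat_lit 3), (nat_lit 11)],
  [(nat_lit 3), (nat_lit 5), (nat_lit 7), (nat_lit 5), (nat_lit 3), (nat_lit 7), (nat_lit 5), (nat_lit 7)],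
  [(nat_lit 3), (nat_lit 5), (nat_lit 9), (nat_lit 11), (nat_lit 9), (nat_lit 5), (nat_lit 3), (nat_lit 11)],
  [(nat_lit 3), (nat_lit 9), (nat_lit 3), (nat_lit 9), (nat_lit 11), (nat_lit 3), (nat_lit 9), (nat_lit 11)],
  [(nat_lit 5), (nat_lit 7), (nat_lit 5), (nat_lit 7), (nat_lit 9), (nat_lit 5), (nat_lit 9), (nat_lit 7)],
  [(nat_lit 5), (nat_lit 7), (nat_lit 5), (nat_lit 7), (nat_lit 11), (nat_lit 5), (nat_lit 11), (nat_lit 7)],
  [(nat_lit 1), (nat_lit 5), (nat_lit 1), (nat_lit 5), (nat_lit 1), (nat_lit 13), (nat_lit 5), (nat_lit 1), (nat_lit 13), (nat_lit 5)],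
  [(nat_lit 1), (nat_lit 5), (nat_lit 7), (nat_lit 13), (nat_lit 5), (nat_lit 1), (nat_lit 5), (nat_lit 7), (nat_lit 13), (nat_lit 5), (nat_lit 16)],
  [(nat_lit 1), (nat_lit 5), (nat_lit 7), (nat_lit 13), (nat_lit 5), (nat_lit 1), (nat_lit 13), (nat_lit 5), (nat_lit 7), (nat_lit 5)],
  [(nat_lit 1), (nat_lit 5), (nat_lit 13), (nat_lit 5), (nat_lit 1), (nat_lit 5), (nat_lit 13), (nat_lit 5), (nat_lit 5), (nat_lit 13), (nat_lit 5)],
  [(nat_lit 1), (nat_lit 5), (nat_lit 13), (nat_lit 5), (nat_lit 1), (nat_lit 7), (nat_lit 5), (nat_lit 13), (nat_lit 5), (nat_lit 7), (nat_lit 15)],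
  [(nat_lit 1), (nat_lit 7), (nat_lit 13), (nat_lit 5), (nat_lit 7), (nat_lit 1), (nat_lit 7), (nat_lit 13), (nat_lit 5), (nat_lit 7)],
  [(nat_lit 1), (nat_lit 7), (nat_lit 13), (nat_lit 5), (nat_lit 7), (nat_lit 1), (nat_lit 13), (nat_lit 5), (nat_lit 7), (nat_lit 13), (nat_lit 5)],
  [(nat_lit 3), (nat_lit 5), (nat_lit 7), (nat_lit 13), (nat_lit 5), (nat_lit 5), (nat_lit 3), (nat_lit 7), (nat_lit 13), (nat_lit 5), (nat_lit 16)],
  [(nat_lit 3), (nat_lit 5), (nat_lit 13), (nat_lit 5), (nat_lit 5), (nat_lit 3), (nat_lit 5), (nat_lit 13), (nat_lit 5), (nat_lit 5)],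
  [(nat_lit 3), (nat_lit 5), (nat_lit 13), (nat_lit 5), (nat_lit 5), (nat_lit 3), (nat_lit 13), (nat_lit 5), (nat_lit 5), (nat_lit 13), (nat_lit 5)],
  [(nat_lit 3), (nat_lit 7), (nat_lit 3), (nat_lit 7), (nat_lit 3), (nat_lit 13), (nat_lit 5), (nat_lit 3), (nat_lit 13), (nat_lit 5)],
  [(nat_lit 3), (nat_lit 7), (nat_lit 5), (nat_lit 13), (nat_lit 5), (nat_lit 3), (nat_lit 7), (nat_lit 5), (nat_lit 13), (nat_lit 5), (nat_lit 15)],
  [(nat_lit 3), (nat_lit 7), (nat_lit 5), (nat_lit 13), (nat_lit 5), (nat_lit 3), (nat_lit 13), (nat_lit 5), (nat_lit 5), (nat_lit 7)],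
  [(nat_lit 5), (nat_lit 7), (nat_lit 5), (nat_lit 7), (nat_lit 13), (nat_lit 5), (nat_lit 7), (nat_lit 5), (nat_lit 13), (nat_lit 5), (nat_lit 15)],
  [(nat_lit 3), (nat_lit 7), (nat_lit 11), (nat_lit 13), (nat_lit 5), (nat_lit 3), (nat_lit 13), (nat_lit 5), (nat_lit 11), (nat_lit 7)],
  [(nat_lit 3), (nat_lit 13), (nat_lit 5), (nat_lit 11), (nat_lit 13), (nat_lit 5), (nat_lit 3), (nat_lit 13), (nat_lit 5), (nat_lit 11), (nat_lit 13), (nat_lit 5)],
  [(nat_lit 5), (nat_lit 7), (nat_lit 13), (nat_lit 5), (nat_lit 11), (nat_lit 5), (nat_lit 11), (nat_lit 7), (nat_lit 13), (nat_lit 5), (nat_lit 16)],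
  [(nat_lit 1), (nat_lit 5), (nat_lit 1), (nat_lit 5), (nat_lit 9), (nat_lit 7), (nat_lit 1), (nat_lit 7), (nat_lit 9)],
  [(nat_lit 1), (nat_lit 5), (nat_lit 1), (nat_lit 5), (nat_lit 11), (nat_lit 1), (nat_lit 5), (nat_lit 1), (nat_lit 11)],
  [(nat_lit 1), (nat_lit 5), (nat_lit 1), (nat_lit 7), (nat_lit 1), (nat_lit 7), (nat_lit 11), (nat_lit 5), (nat_lit 11)],
  [(nat_lit 1), (nat_lit 5), (nat_lit 7), (nat_lit 1), (nat_lit 7), (nat_lit 1), (nat_lit 11), (nat_lit 5), (nat_lit 11)],
  [(nat_lit 1), (nat_lit 5), (nat_lit 11), (nat_lit 1), (nat_lit 5), (nat_lit 11), (nat_lit 1), (nat_lit 11), (nat_lit 5)],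
  [(nat_lit 1), (nat_lit 7), (nat_lit 5), (nat_lit 11), (nat_lit 7), (nat_lit 1), (nat_lit 7), (nat_lit 11), (nat_lit 7)],
  [(nat_lit 3), (nat_lit 5), (nat_lit 3), (nat_lit 5), (nat_lit 11), (nat_lit 7), (nat_lit 3), (nat_lit 7), (nat_lit 11)],
  [(nat_lit 3), (nat_lit 5), (nat_lit 3), (nat_lit 11), (nat_lit 5), (nat_lit 7), (nat_lit 3), (nat_lit 7), (nat_lit 11)],
  [(nat_lit 1), (nat_lit 3), (nat_lit 5), (nat_lit 3), (nat_lit 13), (nat_lit 5), (nat_lit 3), (nat_lit 1), (nat_lit 13), (nat_lit 5), (nat_lit 5)],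
  [(nat_lit 1), (nat_lit 3), (nat_lit 7), (nat_lit 13), (nat_lit 5), (nat_lit 3), (nat_lit 1), (nat_lit 13), (nat_lit 5), (nat_lit 1), (nat_lit 7)],
  [(nat_lit 1), (nat_lit 5), (nat_lit 1), (nat_lit 5), (nat_lit 13), (nat_lit 5), (nat_lit 7), (nat_lit 1), (nat_lit 7), (nat_lit 13), (nat_lit 5)],
  [(nat_lit 1), (nat_lit 5), (nat_lit 7), (nat_lit 1), (nat_lit 7), (nat_lit 5), (nat_lit 13), (nat_lit 5), (nat_lit 1), (nat_lit 13), (nat_lit 5)],
  [(nat_lit 1), (nat_lit 7), (nat_lit 9), (nat_lit 1), (nat_lit 13), (nat_lit 5), (nat_lit 1), (nat_lit 13), (nat_lit 5), (nat_lit 9), (nat_lit 7)],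
  [(nat_lit 3), (nat_lit 5), (nat_lit 3), (nat_lit 7), (nat_lit 3), (nat_lit 13), (nat_lit 5), (nat_lit 5), (nat_lit 7), (nat_lit 13), (nat_lit 5), (nat_lit 16)],
  [(nat_lit 1), (nat_lit 5), (nat_lit 1), (nat_lit 11), (nat_lit 1), (nat_lit 13), (nat_lit 5), (nat_lit 1), (nat_lit 13), (nat_lit 5), (nat_lit 11)],
  [(nat_lit 1), (nat_lit 5), (nat_lit 11), (nat_lit 1), (nat_lit 11), (nat_lit 13), (nat_lit 5), (nat_lit 1), (nat_lit 13), (nat_lit 5), (nat_lit 11)],
  [(nat_lit 3), (nat_lit 5), (nat_lit 3), (nat_lit 5), (nat_lit 11), (nat_lit 13), (nat_lit 5), (nat_lit 3), (nat_lit 13), (nat_lit 5), (nat_lit 11)],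
  [(nat_lit 3), (nat_lit 5), (nat_lit 3), (nat_lit 11), (nat_lit 5), (nat_lit 13), (nat_lit 5), (nat_lit 3), (nat_lit 13), (nat_lit 5), (nat_lit 11)],
  [(nat_lit 1), (nat_lit 3), (nat_lit 1), (nat_lit 3), (nat_lit 5), (nat_lit 1), (nat_lit 9), (nat_lit 1), (nat_lit 9), (nat_lit 5)],
  [(nat_lit 1), (nat_lit 3), (nat_lit 1), (nat_lit 3), (nat_lit 5), (nat_lit 9), (nat_lit 1), (nat_lit 9), (nat_lit 1), (nat_lit 5)],
  [(nat_lit 1), (nat_lit 3), (nat_lit 1), (nat_lit 3), (nat_lit 5), (nat_lit 11), (nat_lit 9), (nat_lit 11), (nat_lit 9), (nat_lit 5)],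
  [(nat_lit 1), (nat_lit 3), (nat_lit 1), (nat_lit 3), (nat_lit 7), (nat_lit 1), (nat_lit 9), (nat_lit 1), (nat_lit 9), (nat_lit 7)],
  [(nat_lit 1), (nat_lit 3), (nat_lit 1), (nat_lit 3), (nat_lit 7), (nat_lit 9), (nat_lit 1), (nat_lit 9), (nat_lit 1), (nat_lit 7)],
  [(nat_lit 1), (nat_lit 3), (nat_lit 1), (nat_lit 3), (nat_lit 7), (nat_lit 9), (nat_lit 11), (nat_lit 9), (nat_lit 11), (nat_lit 7)],
  [(nat_lit 1), (nat_lit 3), (nat_lit 1), (nat_lit 3), (nat_lit 7), (nat_lit 11), (nat_lit 9), (nat_lit 11), (nat_lit 9), (nat_lit 7)],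
  [(nat_lit 1), (nat_lit 3), (nat_lit 1), (nat_lit 7), (nat_lit 9), (nat_lit 3), (nat_lit 5), (nat_lit 3), (nat_lit 9), (nat_lit 7)],
  [(nat_lit 1), (nat_lit 3), (nat_lit 5), (nat_lit 3), (nat_lit 9), (nat_lit 7), (nat_lit 3), (nat_lit 7), (nat_lit 1), (nat_lit 9)],
  [(nat_lit 1), (nat_lit 3), (nat_lit 5), (nat_lit 7), (nat_lit 5), (nat_lit 3), (nat_lit 1), (nat_lit 7), (nat_lit 5), (nat_lit 7)],
  [(nat_lit 1), (nat_lit 5), (nat_lit 1), (nat_lit 9), (nat_lit 11), (nat_lit 7), (nat_lit 1), (nat_lit 7), (nat_lit 11), (nat_lit 9)],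
  [(nat_lit 1), (nat_lit 5), (nat_lit 1), (nat_lit 11), (nat_lit 9), (nat_lit 7), (nat_lit 1), (nat_lit 7), (nat_lit 9), (nat_lit 11)],
  [(nat_lit 1), (nat_lit 5), (nat_lit 11), (nat_lit 7), (nat_lit 5), (nat_lit 11), (nat_lit 1), (nat_lit 7), (nat_lit 11), (nat_lit 7)],
  [(nat_lit 1), (nat_lit 7), (nat_lit 1), (nat_lit 9), (nat_lit 1), (nat_lit 9), (nat_lit 7), (nat_lit 9), (nat_lit 1), (nat_lit 9)],
  [(nat_lit 1), (nat_lit 7), (nat_lit 3), (nat_lit 11), (nat_lit 3), (nat_lit 11), (nat_lit 7), (nat_lit 9), (nat_lit 1), (nat_lit 9)],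
  [(nat_lit 1), (nat_lit 7), (nat_lit 9), (nat_lit 1), (nat_lit 9), (nat_lit 1), (nat_lit 7), (nat_lit 9), (nat_lit 1), (nat_lit 9)],
  [(nat_lit 1), (nat_lit 7), (nat_lit 9), (nat_lit 11), (nat_lit 9), (nat_lit 11), (nat_lit 7), (nat_lit 9), (nat_lit 1), (nat_lit 9)],
  [(nat_lit 1), (nat_lit 7), (nat_lit 11), (nat_lit 3), (nat_lit 11), (nat_lit 3), (nat_lit 7), (nat_lit 9), (nat_lit 1), (nat_lit 9)],
  [(nat_lit 1), (nat_lit 7), (nat_lit 11), (nat_lit 7), (nat_lit 1), (nat_lit 11), (nat_lit 7), (nat_lit 5), (nat_lit 7), (nat_lit 11)],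
  [(nat_lit 1), (nat_lit 7), (nat_lit 11), (nat_lit 9), (nat_lit 11), (nat_lit 9), (nat_lit 7), (nat_lit 9), (nat_lit 1), (nat_lit 9)],
  [(nat_lit 3), (nat_lit 5), (nat_lit 3), (nat_lit 9), (nat_lit 7), (nat_lit 3), (nat_lit 7), (nat_lit 11), (nat_lit 9), (nat_lit 11)],
  [(nat_lit 3), (nat_lit 5), (nat_lit 11), (nat_lit 3), (nat_lit 11), (nat_lit 9), (nat_lit 7), (nat_lit 3), (nat_lit 7), (nat_lit 9)],
  [(nat_lit 3), (nat_lit 7), (nat_lit 9), (nat_lit 11), (nat_lit 9), (nat_lit 11), (nat_lit 7), (nat_lit 11), (nat_lit 3), (nat_lit 11)],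
  [(nat_lit 3), (nat_lit 7), (nat_lit 11), (nat_lit 7), (nat_lit 3), (nat_lit 11), (nat_lit 7), (nat_lit 11), (nat_lit 7), (nat_lit 11)],
  [(nat_lit 3), (nat_lit 7), (nat_lit 11), (nat_lit 9), (nat_lit 11), (nat_lit 9), (nat_lit 7), (nat_lit 11), (nat_lit 3), (nat_lit 11)],
  [(nat_lit 7), (nat_lit 9), (nat_lit 11), (nat_lit 9), (nat_lit 11), (nat_lit 7), (nat_lit 9), (nat_lit 11), (nat_lit 9), (nat_lit 11)],
  [(nat_lit 7), (nat_lit 9), (nat_lit 11), (nat_lit 9), (nat_lit 11), (nat_lit 7), (nat_lit 11), (nat_lit 9), (nat_lit 11), (nat_lit 9)],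
  [(nat_lit 1), (nat_lit 3), (nat_lit 1), (nat_lit 5), (nat_lit 3), (nat_lit 9), (nat_lit 13), (nat_lit 5), (nat_lit 3), (nat_lit 13), (nat_lit 5), (nat_lit 9)],
  [(nat_lit 1), (nat_lit 3), (nat_lit 5), (nat_lit 3), (nat_lit 9), (nat_lit 13), (nat_lit 5), (nat_lit 3), (nat_lit 13), (nat_lit 5), (nat_lit 1), (nat_lit 9)],
  [(nat_lit 1), (nat_lit 3), (nat_lit 5), (nat_lit 9), (nat_lit 13), (nat_lit 5), (nat_lit 1), (nat_lit 13), (nat_lit 5), (nat_lit 9), (nat_lit 5), (nat_lit 3)],
  [(nat_lit 1), (nat_lit 3), (nat_lit 5), (nat_lit 13), (nat_lit 5), (nat_lit 5), (nat_lit 3), (nat_lit 5), (nat_lit 1), (nat_lit 13), (nat_lit 5), (nat_lit 5)],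
  [(nat_lit 1), (nat_lit 3), (nat_lit 7), (nat_lit 5), (nat_lit 13), (nat_lit 5), (nat_lit 3), (nat_lit 7), (nat_lit 1), (nat_lit 5), (nat_lit 13), (nat_lit 5), (nat_lit 15)],
  [(nat_lit 1), (nat_lit 5), (nat_lit 7), (nat_lit 5), (nat_lit 1), (nat_lit 7), (nat_lit 13), (nat_lit 5), (nat_lit 7), (nat_lit 5), (nat_lit 13), (nat_lit 5), (nat_lit 15)],
  [(nat_lit 1), (nat_lit 7), (nat_lit 9), (nat_lit 13), (nat_lit 5), (nat_lit 7), (nat_lit 1), (nat_lit 7), (nat_lit 13), (nat_lit 5), (nat_lit 9), (nat_lit 7)],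
  [(nat_lit 1), (nat_lit 9), (nat_lit 1), (nat_lit 13), (nat_lit 5), (nat_lit 1), (nat_lit 9), (nat_lit 13), (nat_lit 5), (nat_lit 9), (nat_lit 1), (nat_lit 13), (nat_lit 5)],
  [(nat_lit 3), (nat_lit 7), (nat_lit 9), (nat_lit 13), (nat_lit 5), (nat_lit 9), (nat_lit 13), (nat_lit 5), (nat_lit 9), (nat_lit 3), (nat_lit 13), (nat_lit 5), (nat_lit 7)],
  [(nat_lit 1), (nat_lit 5), (nat_lit 1), (nat_lit 11), (nat_lit 13), (nat_lit 5), (nat_lit 7), (nat_lit 1), (nat_lit 7), (nat_lit 13), (nat_lit 5), (nat_lit 11)],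
  [(nat_lit 1), (nat_lit 5), (nat_lit 11), (nat_lit 7), (nat_lit 1), (nat_lit 7), (nat_lit 11), (nat_lit 13), (nat_lit 5), (nat_lit 1), (nat_lit 13), (nat_lit 5)],
  [(nat_lit 1), (nat_lit 7), (nat_lit 5), (nat_lit 11), (nat_lit 13), (nat_lit 5), (nat_lit 1), (nat_lit 13), (nat_lit 5), (nat_lit 1), (nat_lit 11), (nat_lit 7)],
  [(nat_lit 3), (nat_lit 7), (nat_lit 5), (nat_lit 11), (nat_lit 13), (nat_lit 5), (nat_lit 3), (nat_lit 13), (nat_lit 5), (nat_lit 11), (nat_lit 5), (nat_lit 7)],
  [(nat_lit 3), (nat_lit 11), (nat_lit 13), (nat_lit 5), (nat_lit 3), (nat_lit 13), (nat_lit 5), (nat_lit 11), (nat_lit 3), (nat_lit 13), (nat_lit 5), (nat_lit 3), (nat_lit 13), (nat_lit 5)],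
  [(nat_lit 3), (nat_lit 13), (nat_lit 5), (nat_lit 5), (nat_lit 11), (nat_lit 13), (nat_lit 5), (nat_lit 3), (nat_lit 13), (nat_lit 5), (nat_lit 11), (nat_lit 5), (nat_lit 13), (nat_lit 5)],
  [(nat_lit 5), (nat_lit 7), (nat_lit 13), (nat_lit 5), (nat_lit 11), (nat_lit 13), (nat_lit 5), (nat_lit 7), (nat_lit 11), (nat_lit 7), (nat_lit 13), (nat_lit 5), (nat_lit 11), (nat_lit 15)],
  [(nat_lit 5), (nat_lit 11), (nat_lit 7), (nat_lit 13), (nat_lit 5), (nat_lit 11), (nat_lit 5), (nat_lit 11), (nat_lit 7), (nat_lit 13), (nat_lit 5), (nat_lit 11), (nat_lit 16)],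
  [(nat_lit 5), (nat_lit 11), (nat_lit 7), (nat_lit 13), (nat_lit 5), (nat_lit 11), (nat_lit 13), (nat_lit 5), (nat_lit 7), (nat_lit 11), (nat_lit 7), (nat_lit 13), (nat_lit 5), (nat_lit 15)],
  [(nat_lit 11), (nat_lit 13), (nat_lit 5), (nat_lit 11), (nat_lit 13), (nat_lit 5), (nat_lit 11), (nat_lit 13), (nat_lit 5), (nat_lit 11), (nat_lit 13), (nat_lit 5), (nat_lit 11), (nat_lit 13), (nat_lit 5)],
  [(nat_lit 15), (nat_lit 15), (nat_lit 15)],
  [(nat_lit 15), (nat_lit 1), (nat_lit 16), (nat_lit 2)],
  [(nat_lit 15), (nat_lit 3), (nat_lit 16), (nat_lit 4)],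
  [(nat_lit 15), (nat_lit 5), (nat_lit 16), (nat_lit 6)],
  [(nat_lit 15), (nat_lit 7), (nat_lit 16), (nat_lit 8)],
  [(nat_lit 15), (nat_lit 9), (nat_lit 16), (nat_lit 10)],
  [(nat_lit 15), (nat_lit 11), (nat_lit 16), (nat_lit 12)],
  [(nat_lit 15), (nat_lit 13), (nat_lit 16), (nat_lit 14)]]
noncomputable def Rn : List (List Nat) := [[(nat_lit 18), (nat_lit 1), (nat_lit 17), (nat_lit 4)],
  [(nat_lit 18), (nat_lit 3), (nat_lit 17), (nat_lit 2)],
  [(nat_lit 18), (nat_lit 5), (nat_lit 17), (nat_lit 2), (nat_lit 4), (nat_lit 2), (nat_lit 4), (nat_lit 6)],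
  [(nat_lit 18), (nat_lit 7), (nat_lit 17), (nat_lit 2), (nat_lit 4), (nat_lit 2), (nat_lit 4), (nat_lit 8)],
  [(nat_lit 18), (nat_lit 9), (nat_lit 17), (nat_lit 12)],
  [(nat_lit 18), (nat_lit 11), (nat_lit 17), (nat_lit 10)],
  [(nat_lit 18), (nat_lit 15), (nat_lit 17), (nat_lit 15)],
  [(nat_lit 18), (nat_lit 14), (nat_lit 11), (nat_lit 7), (nat_lit 11), (nat_lit 13), (nat_lit 9), (nat_lit 14), (nat_lit 11), (nat_lit 7), (nat_lit 11), (nat_lit 13), (nat_lit 3), (nat_lit 17), (nat_lit 2), (nat_lit 4), (nat_lit 14), (nat_lit 12), (nat_lit 8), (nat_lit 12), (nat_lit 13), (nat_lit 10), (nat_lit 14), (nat_lit 12), (nat_lit 8), (nat_lit 12), (nat_lit 13), (nat_lit 2), (nat_lit 7), (nat_lit 1), (nat_lit 11), (nat_lit 3), (nat_lit 9), (nat_lit 3), (nat_lit 1), (nat_lit 7), (nat_lit 3), (nat_lit 1), (nat_lit 1), (nat_lit 14), (nat_lit 11), (nat_lit 7), (nat_lit 11), (nat_lit 13), (nat_lit 9), (nat_lit 14), (nat_lit 11), (nat_lit 7), (nat_lit 11), (nat_lit 13), (nat_lit 3), (nat_lit 1), (nat_lit 2), (nat_lit 4), (nat_lit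 8), (nat_lit 2), (nat_lit 4), (nat_lit 10), (nat_lit 4), (nat_lit 12), (nat_lit 2), (nat_lit 8)],
  [(nat_lit 17), (nat_lit 17), (nat_lit 4), (nat_lit 2), (nat_lit 4), (nat_lit 2)]]
noncomputable def RS : List (List Nat) := [[(nat_lit 14), (nat_lit 11), (nat_lit 7), (nat_lit 11), (nat_lit 13), (nat_lit 9), (nat_lit 14), (nat_lit 11), (nat_lit 7), (nat_lit 11), (nat_lit 13), (nat_lit 3), (nat_lit 19), (nat_lit 2), (nat_lit 4), (nat_lit 14), (nat_lit 12), (nat_lit 8), (nat_lit 12), (nat_lit 13), (nat_lit 10), (nat_lit 14), (nat_lit 12), (nat_lit 8), (nat_lit 12), (nat_lit 13), (nat_lit 2), (nat_lit 20)],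
  [(nat_lit 17), (nat_lit 19), (nat_lit 18), (nat_lit 20)],
  [(nat_lit 5), (nat_lit 3), (nat_lit 1), (nat_lit 5), (nat_lit 19), (nat_lit 2), (nat_lit 8), (nat_lit 10), (nat_lit 12), (nat_lit 8), (nat_lit 4), (nat_lit 17), (nat_lit 20)],
  [(nat_lit 1), (nat_lit 11), (nat_lit 19), (nat_lit 10), (nat_lit 4), (nat_lit 12), (nat_lit 2), (nat_lit 15), (nat_lit 20)],
  [(nat_lit 7), (nat_lit 11), (nat_lit 9), (nat_lit 5), (nat_lit 7), (nat_lit 19), (nat_lit 2), (nat_lit 4), (nat_lit 6), (nat_lit 4), (nat_lit 2), (nat_lit 6), (nat_lit 20)],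
  [(nat_lit 15), (nat_lit 19), (nat_lit 2), (nat_lit 10), (nat_lit 4), (nat_lit 12), (nat_lit 20)],
  [(nat_lit 1), (nat_lit 19), (nat_lit 1), (nat_lit 19), (nat_lit 1), (nat_lit 19)],
  [(nat_lit 18), (nat_lit 1), (nat_lit 19), (nat_lit 18), (nat_lit 1), (nat_lit 19), (nat_lit 18), (nat_lit 1), (nat_lit 19)],
  [(nat_lit 19), (nat_lit 19), (nat_lit 18)]]
noncomputable def KS : List (List Nat) := [[(nat_lit 1)],
  [(nat_lit 3)],
  [(nat_lit 5)],
  [(nat_lit 7)],
  [(nat_lit 9)],
  [(nat_lit 11)],
  [(nat_lit 15)],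
  [(nat_lit 14), (nat_lit 11), (nat_lit 7), (nat_lit 11), (nat_lit 13), (nat_lit 9), (nat_lit 14), (nat_lit 11), (nat_lit 7), (nat_lit 11), (nat_lit 13), (nat_lit 3)]]
noncomputable def KN : List (List Nat) := [[(nat_lit 3)],
  [(nat_lit 1)],
  [(nat_lit 5), (nat_lit 3), (nat_lit 1), (nat_lit 3), (nat_lit 1)],
  [(nat_lit 7), (nat_lit 3), (nat_lit 1), (nat_lit 3), (nat_lit 1)],
  [(nat_lit 11)],
  [(nat_lit 9)],
  [(nat_lit 16)],
  [(nat_lit 7), (nat_lit 1), (nat_lit 11), (nat_lit 3), (nat_lit 9), (nat_lit 3), (nat_lit 1), (nat_lit 7), (nat_lit 3), (nat_lit 1), (nat_lit 2), (nat_lit 4), (nat_lit 14), (nat_lit 12), (nat_lit 8), (nat_lit 12), (nat_lit 13), (nat_lit 10), (nat_lit 14), (nat_lit 12), (nat_lit 8), (nat_lit 12), (nat_lit 13), (nat_lit 2), (nat_lit 2), (nat_lit 4), (nat_lit 8), (nat_lit 2), (nat_lit 4), (nat_lit 10), (nat_lit 4), (nat_lit 12), (nat_lit 2), (nat_lit 8), (nat_lit 1), (nat_lit 14), (nat_lit 11), (nat_lit 7), (nat_lit 11), (nat_lit 13), (nat_lit 9), (nat_lit 14), (nat_lit 11), (nat_lit 7),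 (nat_lit 11), (nat_lit 13), (nat_lit 3), (nat_lit 1)]]
noncomputable def YW : List Nat := [(nat_lit 12), (nat_lit 10), (nat_lit 2), (nat_lit 8), (nat_lit 2), (nat_lit 16), (nat_lit 8), (nat_lit 5), (nat_lit 7), (nat_lit 15), (nat_lit 7), (nat_lit 1), (nat_lit 9), (nat_lit 11)]
noncomputable def MW : List (List Nat) := [[(nat_lit 15)],
  [(nat_lit 16), (nat_lit 19), (nat_lit 7), (nat_lit 9), (nat_lit 11), (nat_lit 7), (nat_lit 20), (nat_lit 15), (nat_lit 17), (nat_lit 17)],
  [(nat_lit 7), (nat_lit 1), (nat_lit 3), (nat_lit 7), (nat_lit 15), (nat_lit 17)],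
  [(nat_lit 7), (nat_lit 9), (nat_lit 11), (nat_lit 7), (nat_lit 15), (nat_lit 18)],
  [(nat_lit 5), (nat_lit 1), (nat_lit 3), (nat_lit 5), (nat_lit 15), (nat_lit 17)],
  [(nat_lit 9), (nat_lit 11), (nat_lit 15), (nat_lit 18)],
  [(nat_lit 1), (nat_lit 3), (nat_lit 15), (nat_lit 18)],
  [(nat_lit 1), (nat_lit 7), (nat_lit 15), (nat_lit 19), (nat_lit 15), (nat_lit 19), (nat_lit 7), (nat_lit 1), (nat_lit 17), (nat_lit 17)],
  [(nat_lit 15), (nat_lit 17)]]
noncomputable def GW : List (List Nat) := [[(nat_lit 16), (nat_lit 13), (nat_lit 8), (nat_lit 5), (nat_lit 18), (nat_lit 15), (nat_lit 10), (nat_lit 7)],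
  [(nat_lit 14), (nat_lit 15), (nat_lit 14), (nat_lit 7), (nat_lit 6), (nat_lit 17), (nat_lit 16), (nat_lit 13), (nat_lit 10), (nat_lit 7), (nat_lit 3), (nat_lit 3)],
  [(nat_lit 10), (nat_lit 11), (nat_lit 10), (nat_lit 17), (nat_lit 14), (nat_lit 11), (nat_lit 10), (nat_lit 5), (nat_lit 3), (nat_lit 3)],
  [(nat_lit 6), (nat_lit 7), (nat_lit 6), (nat_lit 9), (nat_lit 8), (nat_lit 5), (nat_lit 12), (nat_lit 9), (nat_lit 8), (nat_lit 5), (nat_lit 18), (nat_lit 13), (nat_lit 12), (nat_lit 9), (nat_lit 8), (nat_lit 5), (nat_lit 3), (nat_lit 3)],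
  [(nat_lit 12), (nat_lit 7), (nat_lit 14), (nat_lit 11), (nat_lit 10), (nat_lit 15), (nat_lit 14), (nat_lit 11), (nat_lit 6), (nat_lit 17), (nat_lit 16), (nat_lit 13), (nat_lit 12), (nat_lit 7)],
  [(nat_lit 8), (nat_lit 13), (nat_lit 12), (nat_lit 9), (nat_lit 16), (nat_lit 13), (nat_lit 12), (nat_lit 5), (nat_lit 18), (nat_lit 15), (nat_lit 14), (nat_lit 7)],
  [],
  [(nat_lit 1)],
  [(nat_lit 18), (nat_lit 1), (nat_lit 3), (nat_lit 3)],
  [(nat_lit 2), (nat_lit 3), (nat_lit 2), (nat_lit 6), (nat_lit 3), (nat_lit 2), (nat_lit 7), (nat_lit 6), (nat_lit 3), (nat_lit 14), (nat_lit 9), (nat_lit 8), (nat_lit 5), (nat_lit 4), (nat_lit 16), (nat_lit 13), (nat_lit 12), (nat_lit 9), (nat_lit 8), (nat_lit 5), (nat_lit 4), (nat_lit 1), (nat_lit 18), (nat_lit 15), (nat_lit 14), (nat_lit 11), (nat_lit 10), (nat_lit 7), (nat_lit 6), (nat_lit 3), (nat_lit 3), (nat_lit 3), (nat_lit 16), (nat_lit 13), (nat_lit 8), (nat_lit 5), (nat_lit 18), (nat_lit 15), (nat_lit 10), (nat_lit 7)]]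
noncomputable def Nn_0 : Net := (Net.cons (nat_lit 1) (nat_lit 0x44504540515505550150400550504545010041455151450141014540444504450540) (Net.cons (nat_lit 2) (nat_lit 0x11002010211101321132332203022112100031322212001003233000102200203022) (Net.cons (nat_lit 4) (nat_lit 0x8010f0a0d0d020b0600090909020e050e010c00060f03040f0c0b0f0704040b0705) (Net.cons (nat_lit 8) (nat_lit 0x2500300036007900ad004f00500049008b00190082006900e20055000a00a00004) (Net.cons (nat_lit 16) (nat_lit 0x3000087b900007e8e00006e2c0000986c0000004d00002e010000863a000060e0) (Net.cons (nat_lit 32) (nat_lit 0x4c25bec800000000c0a932840000000021048bc40000000000010118) (Net.cons (nat_lit 64) (nat_lit 0xd02215b0804cf400000000000000000000000000001805) (Net.cons (nat_lit 128) (nat_lit 77025) (Net.cons (nat_lit 256) (nat_lit 359935) (Net.cons (nat_lit 128) (nat_lit 0xcc13e15883bc83ac88e98b8f70037370) (Net.cons (nat_lit 64) (nat_lit 0xbdd94b4a028b980100000000000000001a4c55af63e3acf1) (Net.cons (nat_lit 32) (nat_lit 0x1e5569320000000060c4bdd700000000e2f4321c000000007887c591)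 (Net.cons (nat_lit 16) (nat_lit 0x20000c79a00005835000057910000bf24000050360000ea380000823000004298) (Net.cons (nat_lit 8) (nat_lit 0x58002200f9007c00fb00a00028005c009900e400ec00cc007700070004008300b2) (Net.cons (nat_lit 4) (nat_lit 0x4030b0909090e050605000d080d070d05060d090e0f0304090c03090b00040a0703) (Net.cons (nat_lit 2) (nat_lit 0x110113321231220021032131103121012203131030220203312220100300021101102) (Net.cons (nat_lit 1) (nat_lit 0x100154014155500511041000041554054455104511051415055054040100501144410) Net.nil)))))))))))))))))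
noncomputable def Nn : List Net := [Nn_0]
noncomputable def CN0 : List Lvl := [⟨(nat_lit 0), [[(nat_lit 1)],
  [(nat_lit 3)],
  [(nat_lit 5)],
  [(nat_lit 7)],
  [(nat_lit 9)]], (nat_lit 3)⟩,
  ⟨(nat_lit 1), [[(nat_lit 1), (nat_lit 4), (nat_lit 1)],
  [(nat_lit 5), (nat_lit 7), (nat_lit 5), (nat_lit 7), (nat_lit 1)],
  [(nat_lit 10), (nat_lit 4), (nat_lit 9), (nat_lit 1)],
  [(nat_lit 4), (nat_lit 7), (nat_lit 6), (nat_lit 8), (nat_lit 1)],
  [(nat_lit 3), (nat_lit 10), (nat_lit 5), (nat_lit 9)]], (nat_lit 2)⟩,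
  ⟨(nat_lit 2), [[(nat_lit 1), (nat_lit 4), (nat_lit 1)],
  [(nat_lit 3), (nat_lit 10), (nat_lit 5), (nat_lit 9)]], (nat_lit 1)⟩]
noncomputable def CN1 : List Lvl := [⟨(nat_lit 0), [[(nat_lit 1)],
  [(nat_lit 3)]], (nat_lit 7)⟩,
  ⟨(nat_lit 1), [[(nat_lit 3), (nat_lit 1), (nat_lit 4), (nat_lit 1), (nat_lit 1), (nat_lit 3)],
  [(nat_lit 3), (nat_lit 1), (nat_lit 1), (nat_lit 4), (nat_lit 1), (nat_lit 4), (nat_lit 2)]], (nat_lit 4)⟩]
noncomputable def CN2 : List Lvl := [⟨(nat_lit 0), [[(nat_lit 1)],
  [(nat_lit 3)],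
  [(nat_lit 5)]], (nat_lit 5)⟩,
  ⟨(nat_lit 1), [[(nat_lit 4), (nat_lit 1), (nat_lit 6), (nat_lit 1), (nat_lit 5)],
  [(nat_lit 4), (nat_lit 5), (nat_lit 1), (nat_lit 3), (nat_lit 5)]], (nat_lit 2)⟩,
  ⟨(nat_lit 2), [[(nat_lit 6), (nat_lit 6), (nat_lit 1), (nat_lit 6), (nat_lit 4), (nat_lit 1), (nat_lit 5), (nat_lit 1)]], (nat_lit 1)⟩]
noncomputable def CN3 : List Lvl := [⟨(nat_lit 0), [[(nat_lit 1)],
  [(nat_lit 3)]], (nat_lit 7)⟩,
  ⟨(nat_lit 1), [[(nat_lit 3), (nat_lit 2), (nat_lit 3), (nat_lit 1), (nat_lit 3)],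
  [(nat_lit 1), (nat_lit 1), (nat_lit 1), (nat_lit 1), (nat_lit 3), (nat_lit 2)]], (nat_lit 3)⟩]
noncomputable def XU : List Nat := [(nat_lit 4), (nat_lit 1), (nat_lit 6), (nat_lit 4), (nat_lit 1), (nat_lit 6), (nat_lit 4), (nat_lit 1), (nat_lit 6), (nat_lit 4), (nat_lit 1), (nat_lit 6)]
noncomputable def T : Tr := (.sym [[1], [3], [5], [7], [11]] (.cons [] 2 2 (.base (nat_lit 0x11c01aa4d08ea7f0700520e0139fe5f5bea95a040c825671f1006145440ac654ab203) (.focus 0 (.op 4 0 (.focus 0 (.op 13 0 (.focus 0 (.op 2 0 (.op 10 3 (.xor 1 0 (.focus 0 (.op 13 5 (.xor 3 0 (.focus 0 (.sym [[13]] (.cons [] 1 1 (.focus 8 (.focus 4 (.focus 6 (.xor 5 7 (.focus 0 (.op 7 1 (.op 10 0 (.focus 0 (.cons [] 0 1 (.focus 6 (.focus 3 (.xor 9 12 (.focus 0 (.xor 10 11 (.focus 0 (.focus 9 (.base (nat_lit 0x420680020050180000080812c000000a0112000060280002003012288064108140478) (.focus 0 (.op 7 15 (.xor 13 0 (.focus 0 (.base (nat_lit 0x110010044000861040000000121124342800080000001000400000040008401080200) (.op 13 0 (.focus 0 (.cons [] 0 1 (.focus 5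 (.focus 3 (.focus 16 (.focus 11 (.cons [] 0 1 .triv .nil))))) .nil)))))))))))))))) .nil))))))))) (.cons [10, 1] 1 0 (.base (nat_lit 0x11c018a4d000a67060042000139f25b5ae2818040c801661f000604540084454a9202) (.op 4 1 (.op 10 0 (.and 2 0 (.dead0 0))))) .nil)))))))))))))))) (.cons [14] 2 0 (.op 8 0 (.and 1 0 (.dead0 0))) (.cons [7] 2 0 (.base (nat_lit 0x11c01aa4d08ea7f0700520e0139fe5f5bea95a040c825671f1006145440ac654ab203) (.focus 0 (.op 4 0 (.focus 0 (.op 13 0 (.focus 0 (.op 2 0 (.op 10 3 (.xor 1 0 (.focus 0 (.op 13 5 (.xor 3 0 (.focus 0 (.sym [[15]] (.cons [8, 3] 1 0 (.focus 8 (.focus 4 (.focus 6 (.xor 5 7 (.focus 0 (.op 7 1 (.op 10 0 (.focus 0 (.cons [2, 9, 4] 0 0 (.base (nat_lit 0x110010044000861040000000121124342800080000001000400000040008401080200) (.op 7 14 (.and 1 0 (.dead0 0)))) .nil))))))))) (.cons [11, 11, 3] 1 0 (.base (nat_lit 0x11c018a4d000a67060042000139f25b5ae2818040c801661f000604540084454a9202) (.op 4 1 (.op 10 0 (.and 2 0 (.dead0 0))))) .nil)))))))))))))))) (.cons [25, 3] 1 0 (.op 10 0 (.op 4 1 (.and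 1 0 (.dead0 0)))) (.cons [9, 14] 2 0 (.op 5 0 (.and 1 0 (.dead0 0))) (.cons [30, 5] 2 0 (.op 5 0 (.op 8 0 (.and 1 0 (.base (nat_lit 0x11c01aa4d08ea7f0700520e0139fe5f5bea95a040c825671f1006145440ac654ab203) (.and 1 0 (.dead0 0)))))) (.cons [26, 9] 1 0 (.op 10 0 (.op 7 1 (.and 1 0 (.dead0 0)))) (.cons [29, 3] 1 0 (.op 10 0 (.op 4 1 (.and 1 0 (.dead0 0)))) (.cons [30, 7] 0 0 (.op 5 0 (.and 1 0 (.dead0 0))) (.cons [24, 9] 1 0 (.op 10 0 (.op 7 1 (.and 1 0 (.dead0 0)))) (.cons [22, 14, 11] 0 0 (.op 5 0 (.and 1 0 (.dead0 0))) .nil))))))))))))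
noncomputable def TK : List (List ℕ) := [[1, 11, 9, 3], [1, 11, 3, 9], [14, 11, 7, 11, 13, 9, 14, 11, 7, 11, 13, 3], [1, 14, 11, 7, 11, 13, 9, 14, 11, 7, 11, 13, 3, 1], [1, 3, 1, 3], [1, 60, 3, 49, 53, 45, 57, 59, 52, 55, 57, 53, 60, 60], [52, 47, 51, 60, 52, 54, 55, 59], [3, 52, 49, 48, 50, 59, 50, 55, 54, 56, 60, 60]]
noncomputable def TF : List (List ℕ) := [[], [1], [3]]
noncomputable def CJ : List Lvl := [⟨(nat_lit 0), [[(nat_lit 1)],
  [(nat_lit 3)],
  [(nat_lit 5)],
  [(nat_lit 7)],
  [(nat_lit 9)]], (nat_lit 2)⟩,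
  ⟨(nat_lit 2), [[(nat_lit 7), (nat_lit 5), (nat_lit 9)]], (nat_lit 1)⟩]

end CF.Recog.Ly
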